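import Mathlib
import Cfsg.Agent.Lib.CoOneType.Classes
import Cfsg.Agent.Lib.CoOneGolay.Norm
import Cfsg.Agent.Lib.LargeExtra.Transport
import Cfsg.Agent.Lib.MTwelveCent.Count

/-!
A subgroup containing the centralizer of `z` and the normalizer of the subgroup of order 2048 is everything.

An involution `t` of `C(z)` of the third class has product with `z` again in the third class.  So for `c` of
the second class with `zc` conjugate to `z` and centralizer in the subgroup, a conjugate `v` of `z` outside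
gives a dihedral group with `c` whose central involution is in none of the three classes.
-/

set_option autoImplicit false
set_option linter.style.longLine false
set_option maxHeartbeats 1000000
set_option maxRecDepth 100000
set_option synthInstance.maxSize 8000
set_option synthInstance.maxHeartbeats 1000000

namespace CfsgLib.CoOneUnique

open Subgroup CfsgLib.CoOneType CfsgLib.CoOneGolay

theorem pick_mask : ∃ m < 2048, inO m = false ∧ inO (m ^^^ 1) = true ∧ m ≠ 0 := by decide +kernel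

theorem three_pick {α : Type*} (R : α → α → Prop) (hs : ∀ {u v}, R u v → R v u)
    (ht : ∀ {u v w}, R u v → R v w → R u w) {a b c p q r u : α} (hpq : ¬ R p q) (hpr : ¬ R p r) (hqr : ¬ R q r)
    (hp : R p a ∨ R p b ∨ R p c) (hq : R q a ∨ R q b ∨ R q c) (hr : R r a ∨ R r b ∨ R r c)
    (hu : R u a ∨ R u b ∨ R u c) : R u p ∨ R u q ∨ R u r := by
  rcases hp with hp | hp | hp <;> rcases hq with hq | hq | hq <;>
    first
    | exact absurd (ht hp (hs hq)) hpq
    | (rcases hr with hr | hr | hr <;>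
        first
        | exact absurd (ht hp (hs hr)) hpr
        | exact absurd (ht hq (hs hr)) hqr
        | (rcases hu with hu | hu | hu <;>
            first
            | exact Or.inl (ht hu (hs hp))
            | exact Or.inr (Or.inl (ht hu (hs hq)))
            | exact Or.inr (Or.inr (ht hu (hs hr)))))

variable {G : Type*} [Group G] [Finite G] {z : G} {Q : Subgroup G} {K : Coord z Q 0} {x g : G}

section
variable (S : Base K x g)
include S

theorem typ_pair_one {b : G} (hb : S.Typ U1 W1 b) : b ≠ 1 ∧ b * b = 1 := by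
  refine ⟨fun e => E_ne.2 ?_, ?_⟩
  · rw [← S.typ_act hb, e, K.act_one S.hyp]
  · rw [S.typ_sq hb, sq_zero.2.1, sq_zero.2.2, S.el_zero]

/-- A translate of the third kind by an element of `Q` commuting with it is of the third class. -/
theorem mul_typB {tb : G} (htb : S.Typ U1 W1 tb) {b w : G} (hb : S.Typ U1 W1 b) (hw : w ∈ Q)
    (hw2 : w * w = 1) (hwb : w * b = b * w) : IsConj (w * b) tb := by
  have H := S.hyp
  obtain ⟨hb1, hb2⟩ := typ_pair_one S hb
  have hact := congrFun (S.typ_act hb) (K.vec w)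
  rw [K.act_vec H (S.typ_comm hb) hw, ← hwb, mul_inv_cancel_right] at hact
  have h2 := congrArg (fun v : V => v.2) hact
  simp only [E] at h2
  have hv0 : (K.vec w).1.2 = 0 := (zcases _).resolve_right fun e => (by decide : (U1 : W) ≠ 0) (by
    rw [e, one_smul] at h2
    exact left_eq_add.mp h2)
  obtain ⟨r, q, hr, hq, hqx, rfl, hu, hw'⟩ := hb
  have hri : r⁻¹ * w * r ∈ Q := by
    have := H.norm r⁻¹ (Commute.inv_left (S.R_z hr)).eq w hw
    rwa [inv_inv] at this
  have hvec : K.vec (r⁻¹ * w * r) = K.vec w := by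
    rw [show r⁻¹ * w * r = r⁻¹ * w * r⁻¹⁻¹ by group, ← K.act_vec H (Commute.inv_left (S.R_z hr)).eq hw,
      S.act_R (inv_mem hr), S.ur_inv hr, hu, ← hact]
  have hq' := mul_mem hri hq
  have hT : S.Typ U1 ((K.vec w).2 + W1) (w * (r * q)) :=
    ⟨r, _, hr, hq', (S.comm_x_iff hq').2 (by
      rw [K.mul hri hq, hvec, Prod.fst_add, Prod.snd_add, hv0, (S.comm_x_iff hq).1 hqx, add_zero]),
      by group, hu, by rw [K.mul hri hq, hvec, Prod.snd_add, hw']⟩
  have hsq : w * (r * q) * (w * (r * q)) = 1 := by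
    rw [mul_assoc, ← mul_assoc (r * q) w, ← hwb, mul_assoc w (r * q), ← mul_assoc w w, hw2, one_mul, hb2]
  rw [S.typ_sq hT, ← S.el_zero] at hsq
  obtain ⟨e1, e2⟩ := S.el_inj hsq
  have hU : qW 0 U1 = 1 := base_pair.1
  rw [hU, CharTwo.add_eq_zero] at e2
  rw [e2, CharTwo.add_eq_zero] at e1
  obtain ⟨a, ⟨ha, ha1⟩, a', ⟨ha', ha1'⟩, haa⟩ := moveW_pair_second _ e1.symm e2
  obtain ⟨d, hdz, hdx, hd0, hd⟩ := S.exists_pair ha ha'
  have h := S.typ_move hT hdz hdx hd0
  rw [hd, hd, haa, show reflW a (reflW a' U1) = U1 by simp [reflW, BW_comm U1 a, BW_comm U1 a', ha1, ha1']] at h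
  obtain ⟨y, -, -, -, hy⟩ := S.typ_conj (fun s t => (typ_fix s t).2) h htb
  exact (isConj_iff.2 ⟨d, rfl⟩).trans (isConj_iff.2 ⟨y, hy⟩)

theorem point_reduce {t : G} (ht : t * z = z * t) {a : V} (ha : a ≠ 0) (haq : qV 0 a = 0)
    (hfix : K.act t a = a) (hperp : ∀ v, B v a = 0 → K.act t v = v ∨ K.act t v = v + a) :
    ∃ c, c * z = z * c ∧ K.act (c * t * c⁻¹) x0 = x0 ∧ ∀ w, K.res (c * t * c⁻¹) w = w := by
  have H := S.hyp
  obtain ⟨c, hc, hca⟩ := K.transitive H (w := x0) ha haq (by decide) (by decide)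
  refine ⟨c, hc, ?_, fun w => ?_⟩
  · rw [← hca, K.act_conj_apply H hc ht, hfix]
  · obtain ⟨v, hv⟩ := (Finite.injective_iff_surjective.1 (K.act_injective H hc)) (inj w)
    show (K.act (c * t * c⁻¹) (inj w)).2 = w
    rw [← hv, K.act_conj_apply H hc ht]
    rcases hperp v (by rw [← K.act_B H hc v a, hv, hca, B_x0]; rfl) with e | e <;> rw [e]
    · rw [hv]; rfl
    · rw [K.act_add H hc, hv, hca]
      simp [inj, x0]

/-- An involution of `C(z)` becomes one with trivial residual action after moving `z` inside `Q`. -/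
theorem reduce {t : G} (ht : t * z = z * t) (h2 : t * t = 1) :
    ∃ h, h * z * h⁻¹ ∈ Q ∧ h * t * h⁻¹ * z = z * (h * t * h⁻¹) ∧ K.act (h * t * h⁻¹) x0 = x0 ∧
      ∀ w, K.res (h * t * h⁻¹) w = w := by
  classical
  have H := S.hyp
  obtain ⟨d, Φ, L⟩ := S.exists_line
  -- one step inside `C(z)`
  have step : ∀ {s : G}, s * z = z * s → s * s = 1 → ∃ c, c * z = z * c ∧
      ((K.act (c * s * c⁻¹) x0 = x0 ∧ ∀ w, K.res (c * s * c⁻¹) w = w) ∨
        ∃ u, BW u A1 = 0 ∧ BW u A2 = 0 ∧ ¬ (BW u H1 = 0 ∧ BW u H2 = 0) ∧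
          ∀ v, K.act (c * s * c⁻¹) v = D0 (E u v)) := by
    intro s hs hs2
    obtain ⟨c, hc, hcase⟩ := S.normal L hs hs2
    rcases hcase with ⟨u, hu⟩ | ⟨u, e1, e2, hu⟩
    · exact ⟨c, hc, Or.inl ⟨by rw [hu, E_x0], fun w => by
        show (K.act (c * s * c⁻¹) (inj w)).2 = w
        simp [hu, tail_E, inj]⟩⟩
    by_cases hL : BW u H1 = 0 ∧ BW u H2 = 0
    · obtain ⟨a, ⟨ha, haq, hfix⟩, hperp⟩ := line_point u e1 e2 hL.1 hL.2
      obtain ⟨c', hc', k1, k2⟩ := point_reduce S (conj_comm_z hc hs) ha haq (by rw [hu, hfix])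
        fun v hv => by simpa only [hu] using hperp v hv
      rw [show c' * (c * s * c⁻¹) * c'⁻¹ = c' * c * s * (c' * c)⁻¹ by group] at k1
      simp only [show c' * (c * s * c⁻¹) * c'⁻¹ = c' * c * s * (c' * c)⁻¹ by group] at k2
      exact ⟨c' * c, (Commute.mul_left hc' hc).eq, Or.inl ⟨k1, k2⟩⟩
    · exact ⟨c, hc, Or.inr ⟨u, e1, e2, hL, hu⟩⟩
  have hz : ∀ {c : G}, c * z = z * c → c * z * c⁻¹ = z := fun hc => by rw [hc, mul_inv_cancel_right]
  obtain ⟨c, hc, ⟨k1, k2⟩ | ⟨u, e1, e2, hL, hu⟩⟩ := step ht h2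
  · exact ⟨c, by rw [hz hc]; exact H.extra.z_mem, conj_comm_z hc ht, k1, k2⟩
  obtain ⟨h, hhQ, hhz, h32⟩ := S.line_swap L (conj_comm_z hc ht) (conj_sq_one h2) e1 e2 hL hu
  obtain ⟨e, he, ⟨k1, k2⟩ | ⟨u', f1, f2, hL', hu'⟩⟩ := step hhz (conj_sq_one (conj_sq_one h2))
  · have hre : e * h * c * t * (e * h * c)⁻¹ = e * (h * (c * t * c⁻¹) * h⁻¹) * e⁻¹ := by group
    refine ⟨e * h * c, ?_, by rw [hre]; exact conj_comm_z he hhz, by rw [hre]; exact k1,
      fun w => by rw [hre]; exact k2 w⟩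
    rw [show e * h * c * z * (e * h * c)⁻¹ = e * (h * (c * z * c⁻¹) * h⁻¹) * e⁻¹ by group, hz hc]
    exact H.norm e he _ hhQ
  · exfalso
    have hk := K.fixed_card_conj H he hhz
    simp only [hu'] at hk
    rw [fixed_count u' f1 f2 hL'] at hk
    omega

/-- If `t` in `C(z)` is of the third class, so is `zt`. -/
theorem zmul_typB {ta tb : G} (hA : S.Typ A1 A2 ta) (hB : S.Typ U1 W1 tb) {t : G} (ht : t * z = z * t)
    (h2 : t * t = 1) (htB : IsConj t tb) : IsConj (z * t) tb := by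
  have H := S.hyp
  obtain ⟨h, hhQ, hhz, hx0, hres⟩ := reduce S ht h2
  have ht2 : h * t * h⁻¹ * (h * t * h⁻¹) = 1 := conj_sq_one h2
  have hconj : IsConj (h * t * h⁻¹) tb := (isConj_iff.2 ⟨h, rfl⟩ : IsConj t _).symm.trans htB
  have hne : h * t * h⁻¹ ≠ 1 := fun e => (typ_pair_one S hB).1 (isConj_one_right.1 (e ▸ hconj))
  have notz : ¬ IsConj z (h * t * h⁻¹) := fun k => S.typB_not_conj hB (k.trans hconj)
  rcases S.trivial_case hhz ht2 hx0 hres with k | ⟨c, hc, k⟩ | ⟨c, hc, k | k⟩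
  · obtain ⟨p, hp⟩ := K.conj_of_mem H k ht2 hne
    exact absurd (isConj_iff.2 ⟨p, hp⟩) notz
  · exact absurd ((S.isConj_z_of_R k (conj_sq_one ht2) (fun e => hne (conj_eq_one_iff.1 e))).symm.trans
      (isConj_iff.2 ⟨c, rfl⟩ : IsConj _ _).symm) notz
  · obtain ⟨y, -, -, -, hy⟩ := S.typ_conj (fun s t => (typ_fix s t).1) k hA
    exact absurd ((((isConj_iff.2 ⟨c, rfl⟩ : IsConj _ (c * (h * t * h⁻¹) * c⁻¹)).trans
      (isConj_iff.2 ⟨y, hy⟩)).symm).trans hconj) (S.typ_not_conj_typ hA hB)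
  · have hzh : h * z * h⁻¹ * (h * t * h⁻¹) = h * t * h⁻¹ * (h * z * h⁻¹) := by
      rw [show h * z * h⁻¹ * (h * t * h⁻¹) = h * (z * t) * h⁻¹ by group, ← ht]; group
    have := mul_typB S hB k (H.norm c hc _ hhQ) (conj_sq_one (conj_sq_one H.extra.sq_one))
      (by rw [show c * (h * z * h⁻¹) * c⁻¹ * (c * (h * t * h⁻¹) * c⁻¹) =
          c * (h * z * h⁻¹ * (h * t * h⁻¹)) * c⁻¹ by group, hzh]; group)
    exact (isConj_iff.2 ⟨c * h, by group⟩ :
      IsConj (z * t) (c * (h * z * h⁻¹) * c⁻¹ * (c * (h * t * h⁻¹) * c⁻¹))).trans this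

end

/-- The hypotheses hold in a subgroup containing `C(z)` that moves `z` inside `Q`. -/
theorem hyp_subgroup (H : Hyp z Q) (M : Subgroup G) (hzM : z ∈ M) (hC : centralizer ({z} : Set G) ≤ M)
    {n : G} (hn : n ∈ M) (hnQ : n * z * n⁻¹ ∈ Q) (hne : n * z * n⁻¹ ≠ z) :
    Hyp (⟨z, hzM⟩ : ↥M) (Q.subgroupOf M) := by
  have hQM : Q ≤ M := H.hQC.trans hC
  have : Fact (Nat.Prime 2) := ⟨Nat.prime_two⟩
  have hord : orderOf (⟨z, hzM⟩ : ↥M) = 2 := by rw [← Subgroup.orderOf_coe]; exact H.hz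
  refine ⟨hord, fun a ha => mem_centralizer_singleton_iff.2 (Subtype.ext (H.extra.comm_z ha)),
    fun c hc y hy => H.norm (c : G) (congrArg Subtype.val hc) _ hy,
    (Nat.card_congr (subgroupOfEquivOfLe hQM).toEquiv).trans H.card, ⟨?_, hord, ?_⟩,
    fun c hc h => H.self (c : G) (congrArg Subtype.val hc) fun y hy =>
      congrArg Subtype.val (h ⟨y, hQM hy⟩ hy), ?_,
    ⟨⟨n, hn⟩, hnQ, fun h => hne (congrArg Subtype.val h)⟩⟩
  · exact CfsgLib.LargeExtra.isExtraspecial_of_equiv (subgroupOfEquivOfLe hQM).symm H.extra.extra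
  · apply le_antisymm
    · rintro _ ⟨c, hc, rfl⟩
      rcases H.extra.central_cases (x := ((c : ↥M) : G)) c.2 (fun q hq => congrArg (fun a : ↥(Q.subgroupOf M) => ((a : ↥M) : G))
          (Subgroup.mem_center_iff.1 hc ⟨⟨q, hQM hq⟩, hq⟩)) with e | e
      · rw [show (Q.subgroupOf M).subtype c = 1 from Subtype.ext e]; exact one_mem _
      · rw [show (Q.subgroupOf M).subtype c = ⟨z, hzM⟩ from Subtype.ext e]; exact mem_zpowers _
    · rw [zpowers_le]
      exact ⟨⟨⟨z, hzM⟩, H.extra.z_mem⟩,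
        Subgroup.mem_center_iff.2 fun a => Subtype.ext (Subtype.ext (H.extra.comm_z a.2)), rfl⟩
  · rw [← H.cardC]
    exact Nat.card_congr
      ⟨fun c => ⟨((c : ↥M) : G), mem_centralizer_singleton_iff.2
          (congrArg Subtype.val (mem_centralizer_singleton_iff.1 c.2))⟩,
        fun c => ⟨⟨c, hC c.2⟩, mem_centralizer_singleton_iff.2 (Subtype.ext (mem_centralizer_singleton_iff.1 c.2))⟩,
        fun c => Subtype.ext (Subtype.ext rfl), fun c => Subtype.ext rfl⟩

/-- Conjugate involutions of such a subgroup are conjugate in it. -/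
theorem fused (S : Base K x g) (M : Subgroup G) (hC : centralizer ({z} : Set G) ≤ M) {n : G} (hn : n ∈ M)
    (hnQ : n * z * n⁻¹ ∈ Q) (hne : n * z * n⁻¹ ≠ z) {u u' : G} (hu : u ∈ M) (hu' : u' ∈ M) (ho : orderOf u = 2)
    (h : IsConj u u') : ∃ h ∈ M, h * u * h⁻¹ = u' := by
  have hzM : z ∈ M := hC (mem_centralizer_singleton_iff.2 rfl)
  obtain ⟨ta, hA⟩ := S.exists_typ A1 A2
  obtain ⟨tb, hB⟩ := S.exists_typ U1 W1
  have haM : ta ∈ M := hC (mem_centralizer_singleton_iff.2 (S.typ_comm hA))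
  have hbM : tb ∈ M := hC (mem_centralizer_singleton_iff.2 (S.typ_comm hB))
  obtain ⟨a, b, c, -, -, -, -, -, -, h3⟩ := (hyp_subgroup S.hyp M hzM hC hn hnQ hne).three_classes
  have ord : ∀ {t : G}, t ∈ M → t * t = 1 → t ≠ 1 → orderOf t = 2 := fun {t} _ h2 h1 =>
    orderOf_eq_prime (by rw [pow_two, h2]) h1
  have hta : orderOf ta = 2 := ord haM
    (by rw [S.typ_sq hA, sq_zero.1.1, sq_zero.1.2, S.el_zero])
    (fun e => E_ne.1 (by rw [← S.typ_act hA, e, K.act_one S.hyp]))
  have htb : orderOf tb = 2 := ord hbM (typ_pair_one S hB).2 (typ_pair_one S hB).1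
  have ho' : orderOf u' = 2 := by
    obtain ⟨k, hk⟩ := isConj_iff.1 h
    rw [← hk, show k * u * k⁻¹ = MulAut.conj k u from rfl, MulEquiv.orderOf_eq, ho]
  let up : ∀ {t t' : ↥M}, IsConj t t' → IsConj (t : G) t' := fun k => M.subtype.map_isConj k
  have sort : ∀ t : ↥M, orderOf (t : G) = 2 →
      IsConj t ⟨z, hzM⟩ ∨ IsConj t ⟨ta, haM⟩ ∨ IsConj t ⟨tb, hbM⟩ := fun t hto =>
    three_pick IsConj IsConj.symm IsConj.trans (fun k => S.typA_not_conj hA (up k))
      (fun k => S.typB_not_conj hB (up k)) (fun k => S.typ_not_conj_typ hA hB (up k))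
      (h3 _ (by rw [← Subgroup.orderOf_coe]; exact S.hyp.hz)) (h3 _ (by rw [← Subgroup.orderOf_coe]; exact hta))
      (h3 _ (by rw [← Subgroup.orderOf_coe]; exact htb)) (h3 t (by rw [← Subgroup.orderOf_coe]; exact hto))
  suffices k : IsConj (⟨u, hu⟩ : ↥M) ⟨u', hu'⟩ by
    obtain ⟨w, hw⟩ := isConj_iff.1 k
    exact ⟨w, w.2, congrArg Subtype.val hw⟩
  rcases sort ⟨u, hu⟩ ho with k | k | k <;> rcases sort ⟨u', hu'⟩ ho' with k' | k' | k' <;>
    first
    | exact k.trans k'.symm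
    | exact absurd ((up k).symm.trans (h.trans (up k'))) (S.typA_not_conj hA)
    | exact absurd ((up k).symm.trans (h.trans (up k'))).symm (S.typA_not_conj hA)
    | exact absurd ((up k).symm.trans (h.trans (up k'))) (S.typB_not_conj hB)
    | exact absurd ((up k).symm.trans (h.trans (up k'))).symm (S.typB_not_conj hB)
    | exact absurd ((up k).symm.trans (h.trans (up k'))) (S.typ_not_conj_typ hA hB)
    | exact absurd ((up k).symm.trans (h.trans (up k'))).symm (S.typ_not_conj_typ hA hB)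

variable {S : Base K x g} (F : Frame S)

theorem exists_moved : ∃ n ∈ N F, n * z * n⁻¹ ∈ Q ∧ n * z * n⁻¹ ≠ z := by
  obtain ⟨σ, hσ⟩ := exists_rho_eq (m := 1) (m' := 4) (by norm_num) (by norm_num) (by decide +kernel) (by decide +kernel)
  obtain ⟨n, hn⟩ : rho σ ∈ (piHom F).range := by rw [range_piHom]; exact ⟨σ, rfl⟩
  have e := W_piHom F n (m := 1) (by norm_num)
  rw [hn, app_rho _ (by norm_num), hσ, W_one] at e
  refine ⟨n, n.2, e ▸ (W_low F (by norm_num)).1, fun k => ?_⟩
  exact absurd (W_injective F (a := 4) (b := 1) (by norm_num) (by norm_num) (by rw [e, k, W_one])) (by norm_num)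

/-- A subgroup containing `C(z)`, `N(A)` and the centralizer of an element of `A` of the second class whose
product with `z` is conjugate to `z` is everything. -/
theorem eq_top_of_cent (M : Subgroup G) (hC : centralizer ({z} : Set G) ≤ M) (hN : N F ≤ M) {m : ℕ}
    (hm : m < 2048) (hm0 : m ≠ 0) (ho : inO m = false) (ho1 : inO (m ^^^ 1) = true)
    (hCc : centralizer ({W F m} : Set G) ≤ M) : M = ⊤ := by
  have H := S.hyp
  obtain ⟨n, hn, hnQ, hne⟩ := exists_moved F
  have fus := fun {u u' : G} => fused (u := u) (u' := u') S M hC (hN hn) hnQ hne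
  obtain ⟨ta, hA⟩ := S.exists_typ A1 A2
  obtain ⟨tb, hB⟩ := S.exists_typ U1 W1
  set c := W F m with hcdef
  have hc1 : c ≠ 1 := fun e => hm0 (W_injective F hm (by norm_num) (e.trans (word_zero _).symm))
  have hc2 : c * c = 1 := W_sq F m
  have hco : orderOf c = 2 := orderOf_eq_prime (by rw [pow_two, hc2]) hc1
  have hcz : ¬ IsConj z c := fun k => by simpa [ho] using (conj_char F hm).1 k
  have hzc : IsConj z (z * c) := by
    have e : z * c = W F (m ^^^ 1) := by rw [W_xor, W_one, hcdef, W_z]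
    rw [e]; exact (conj_char F (Nat.xor_lt_two_pow (n := 11) hm (by norm_num))).2 ho1
  have hcb : ¬ IsConj c tb := fun k =>
    S.typB_not_conj hB (hzc.trans (zmul_typB S hA hB (W_z F m) hc2 k))
  have hzM : z ∈ M := hC (mem_centralizer_singleton_iff.2 rfl)
  have hcM : c ∈ M := hCc (mem_centralizer_singleton_iff.2 rfl)
  -- centralizers in `M`
  have cent : ∀ {u a : G}, a ∈ M → centralizer ({a} : Set G) ≤ M → orderOf a = 2 → u ∈ M → IsConj a u →
      ∀ v, v * u = u * v → v ∈ M := by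
    intro u a haM hle hao huM hau v hv
    obtain ⟨h, hh, e⟩ := fus haM huM hao hau
    have : h⁻¹ * v * h ∈ M := hle (mem_centralizer_singleton_iff.2 (by
      rw [← e] at hv
      calc h⁻¹ * v * h * a = h⁻¹ * (v * (h * a * h⁻¹)) * h := by group
        _ = h⁻¹ * (h * a * h⁻¹ * v) * h := by rw [hv]
        _ = a * (h⁻¹ * v * h) := by group))
    have h' := mul_mem (mul_mem hh this) (inv_mem hh)
    rwa [show h * (h⁻¹ * v * h) * h⁻¹ = v by group] at h'
  have key : ∀ v : G, IsConj z v → v ∈ M := by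
    intro v hzv
    by_contra hvM
    have hv2 : v * v = 1 := by
      obtain ⟨k, hk⟩ := isConj_iff.1 hzv
      rw [← hk]; exact conj_sq_one H.extra.sq_one
    rcases Nat.even_or_odd (orderOf (c * v)) with ⟨k, hk⟩ | hodd
    swap
    · exact hcz (hzv.trans
        (CfsgLib.MTwelveCent.isConj_of_odd hc2 hv2 hodd (pow_orderOf_eq_one _)).symm)
    set p := c * v with hp
    set y := p ^ k with hy
    have hy2 : y * y = 1 := by rw [hy, ← pow_add, ← hk, pow_orderOf_eq_one]
    have hpos := orderOf_pos p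
    have hy1 : y ≠ 1 := pow_ne_one_of_lt_orderOf (by omega) (by omega)
    have hyi : y⁻¹ = y := inv_eq_of_mul_eq_one_right hy2
    have hci : c⁻¹ = c := inv_eq_of_mul_eq_one_right hc2
    have hvi : v⁻¹ = v := inv_eq_of_mul_eq_one_right hv2
    have flip : ∀ j : ℕ, v * (p ^ j)⁻¹ = p ^ j * v := fun j => by
      have h1 : MulAut.conj v p⁻¹ = p := by
        rw [MulAut.conj_apply, hp, mul_inv_rev, hci, hvi, ← mul_assoc v v, hv2, one_mul]
      have h2 := map_pow (MulAut.conj v) p⁻¹ j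
      rw [h1, MulAut.conj_apply, inv_pow] at h2
      exact mul_inv_eq_iff_eq_mul.1 h2
    have hyv : v * y = y * v := by
      have := flip k
      rwa [← hy, hyi] at this
    have hyc : c * y = y * c := by
      have hc' : p * v = c := by rw [hp, mul_assoc, hv2, mul_one]
      have hpy : p * y = y * p := by rw [hy]; exact (Commute.self_pow p k).eq
      rw [← hc', mul_assoc, hyv, ← mul_assoc, hpy, mul_assoc]
    have hyM : y ∈ M := hCc (mem_centralizer_singleton_iff.2 hyc.symm)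
    have nz : ¬ IsConj z y := fun e => hvM (cent hzM hC H.hz hyM e v hyv)
    have nc : ¬ IsConj c y := fun e => hvM (cent hcM hCc hco hyM e v hyv)
    have hyB : IsConj y tb := by
      obtain ⟨w, hw⟩ := H.exists_conj_mem hy2
      have hcw : IsConj y (w * y * w⁻¹) := isConj_iff.2 ⟨w, rfl⟩
      rcases S.cls hA hB hw (conj_sq_one hy2) (fun e => hy1 (conj_eq_one_iff.1 e)) with e | e | e
      · exact absurd (hcw.trans e).symm nz
      · rcases S.cls hA hB (W_z F m) hc2 hc1 with f | f | f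
        · exact absurd f.symm hcz
        · exact absurd (f.trans (hcw.trans e).symm) nc
        · exact absurd f hcb
      · exact hcw.trans e
    -- the product `y v` is conjugate to `v` or to `c`
    have hprod : IsConj v (y * v) ∨ IsConj c (y * v) := by
      rcases Nat.even_or_odd k with ⟨j, hj⟩ | ⟨j, hj⟩
      · left
        refine isConj_iff.2 ⟨p ^ j, ?_⟩
        rw [mul_assoc, flip, ← mul_assoc, ← pow_add, ← hj]
      · right
        refine isConj_iff.2 ⟨p ^ j, ?_⟩
        have hc' : p * v = c := by rw [hp, mul_assoc, hv2, mul_one]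
        rw [← hc', mul_assoc, mul_assoc p v, flip, ← mul_assoc p, ← mul_assoc, ← pow_succ', ← pow_add,
          show j + (j + 1) = k by omega]
    -- move `v` to `z`
    obtain ⟨w, hw⟩ := isConj_iff.1 hzv
    set y' := w⁻¹ * y * w with hy'
    have hy'z : y' * z = z * y' := by
      calc y' * z = w⁻¹ * (y * (w * z * w⁻¹)) * w := by rw [hy']; group
        _ = w⁻¹ * (w * z * w⁻¹ * y) * w := by rw [hw, hyv]
        _ = z * y' := by rw [hy']; group
    have hy'2 : y' * y' = 1 := by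
      rw [show y' * y' = w⁻¹ * (y * y) * w by rw [hy']; group, hy2]; group
    have hyy : IsConj y' y := isConj_iff.2 ⟨w, by rw [hy']; group⟩
    have h := zmul_typB S hA hB hy'z hy'2 (hyy.trans hyB)
    have hmv : IsConj (z * y') (y * v) := isConj_iff.2 ⟨w, by
      rw [← hyv, ← hw, hy']; group⟩
    have h' : IsConj (y * v) tb := hmv.symm.trans h
    rcases hprod with e | e
    · exact S.typB_not_conj hB (hzv.trans (e.trans h'))
    · exact hcb (e.trans h')
  rw [eq_top_iff]
  intro a _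
  obtain ⟨h, hh, e⟩ := fus hzM (key (a * z * a⁻¹) (isConj_iff.2 ⟨a, rfl⟩)) H.hz (isConj_iff.2 ⟨a, rfl⟩)
  have : h⁻¹ * a ∈ M := hC (mem_centralizer_singleton_iff.2 (by
    calc h⁻¹ * a * z = h⁻¹ * (a * z * a⁻¹) * a := by group
      _ = h⁻¹ * (h * z * h⁻¹) * a := by rw [e]
      _ = z * (h⁻¹ * a) := by group))
  simpa using mul_mem hh this

end CfsgLib.CoOneUnique
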