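import Cfsg.Agent.Lib.CoOneUnique.DodecCent
import Cfsg.Agent.Lib.CoOneUnique.Local

/-!
# Uniqueness of the first Conway group: `C(z)` and `N(A)` generate

The centralizer of an element of the second class of `A` lies in `N(A)`, so a subgroup containing `C(z)` and
`N(A)` contains all the centralizers the fusion argument needs.
-/

set_option autoImplicit false
set_option linter.style.longLine false
set_option maxHeartbeats 1000000
set_option maxRecDepth 100000
set_option synthInstance.maxSize 8000
set_option synthInstance.maxHeartbeats 1000000

namespace CfsgLib.CoOneUnique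

open Subgroup CfsgLib.CoOneGolay CfsgLib.CoOneType

variable {G : Type*} [Group G] [Finite G] {z : G} {Q : Subgroup G} {K : Coord z Q 0} {x g : G}
variable {S : Base K x g} (F : Frame S)

/-- A subgroup containing `C(z)` and `N(A)` is everything. -/
theorem eq_top_of_local (M : Subgroup G) (hC : centralizer ({z} : Set G) ≤ M)
    (hN : CfsgLib.CoOneGolay.N F ≤ M) : M = ⊤ := by
  obtain ⟨m, hm, ho, ho1, hm0⟩ := pick_mask
  exact eq_top_of_cent F M hC hN hm hm0 ho ho1 ((dodec_centralizer_le F hm hm0 ho).trans hN)

end CfsgLib.CoOneUnique
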