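import Cfsg.Agent.Lib.CoOneUnique.CentLin
import Cfsg.Agent.Lib.Solvable.Gaschutz
import Cfsg.Agent.Lib.CoOneType.Normal

/-!
# Uniqueness of the first Conway group: the centralizer isomorphism

C1: an embedding of a subgroup of odd index containing `Q` extends to an isomorphism of the centralizers.
C2: two maps of the centralizer of a point agreeing on a subgroup of odd index are equal.
-/

set_option autoImplicit false
set_option linter.style.longLine false
set_option linter.unusedSectionVars false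
set_option linter.style.haveILetI false
set_option maxRecDepth 100000

namespace CfsgLib.CoOneUnique

open Subgroup CfsgLib.CoOneType

variable {G : Type*} [Group G] [Finite G] {z : G} {Q : Subgroup G}
variable {G' : Type*} [Group G'] [Finite G'] {z' : G'} {Q' : Subgroup G'}

/-- A central extension by two elements that splits on a subgroup of odd index splits compatibly. -/
theorem exists_lift {P C : Type*} [Group P] [Finite P] [Group C] (π : P →* C) (hsurj : Function.Surjective π)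
    (k₀ : P) (hker : ∀ p, π p = 1 → p = 1 ∨ p = k₀) (D DQ : Subgroup P) [DQ.Normal] (hle : DQ ≤ D)
    (hD : ∀ d ∈ D, π d = 1 → d = 1) (hodd : Odd (D.map π).index) :
    ∃ H : Subgroup P, DQ ≤ H ∧ (∀ p ∈ H, π p = 1 → p = 1) ∧ ∀ c, ∃ p ∈ H, π p = c := by
  classical
  let q₁ : P →* P ⧸ DQ := QuotientGroup.mk' DQ
  let K : Subgroup (P ⧸ DQ) := π.ker.map q₁
  haveI : K.Normal := Subgroup.Normal.map inferInstance q₁ (QuotientGroup.mk'_surjective DQ)
  have hK : ∀ k ∈ K, k = 1 ∨ k = q₁ k₀ := by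
    rintro _ ⟨p, hp, rfl⟩
    rcases hker p hp with h | h
    · exact Or.inl (by rw [h, map_one])
    · exact Or.inr (by rw [h])
  haveI : IsMulCommutative ↥K := ⟨⟨fun a b => Subtype.ext (by
    show (a : P ⧸ DQ) * b = b * a
    rcases hK a a.2 with ha | ha <;> rcases hK b b.2 with hb | hb <;> rw [ha, hb] <;> simp)⟩⟩
  let A : Subgroup (P ⧸ DQ) := D.map q₁
  have hdata : CfsgLib.Gaschutz.Data K (K ⊔ A) A :=
    { kle := le_sup_left
      ale := le_sup_right
      inf := by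
        rw [eq_bot_iff]
        rintro _ ⟨⟨d, hd, rfl⟩, p, hp, hpq⟩
        rw [Subgroup.mem_bot, ← hpq]
        have h1 : p⁻¹ * d ∈ D := hle (QuotientGroup.eq.1 hpq)
        have h2 : p ∈ D := by simpa using D.mul_mem hd (D.inv_mem h1)
        rw [hD p h2 hp, map_one]
      sup := rfl }
  have hcop : (Nat.card ↥K).Coprime (K ⊔ A).index := by
    have hK2 : Nat.card ↥K ≤ 2 := by
      have : (K : Set (P ⧸ DQ)) ⊆ {1, q₁ k₀} := fun k hk => hK k hk
      rw [← SetLike.coe_sort_coe, Nat.card_coe_set_eq]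
      exact (Set.ncard_le_ncard this (Set.toFinite _)).trans
        ((Set.ncard_insert_le _ _).trans (by rw [Set.ncard_singleton]))
    have hI : Odd (K ⊔ A).index := by
      refine hodd.of_dvd_nat ?_
      have e1 : ((π.ker ⊔ D).map q₁).index ∣ (π.ker ⊔ D).index :=
        Subgroup.index_map_dvd _ (QuotientGroup.mk'_surjective DQ)
      rw [Subgroup.map_sup] at e1
      refine e1.trans (dvd_of_eq ?_)
      rw [Subgroup.index_map, MonoidHom.range_eq_top.2 hsurj, Subgroup.index_top, mul_one, sup_comm]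
    have hpos : 0 < Nat.card ↥K := Nat.card_pos
    rcases (show Nat.card ↥K = 1 ∨ Nat.card ↥K = 2 by omega) with h | h <;> rw [h]
    · exact Nat.coprime_one_left _
    · exact Nat.coprime_two_left.2 hI
  obtain ⟨H₁, hH₁⟩ := CfsgLib.Gaschutz.exists_complement hdata hcop
  refine ⟨H₁.comap q₁, fun d hd => ?_, fun p hp hp1 => ?_, fun c => ?_⟩
  · show q₁ d ∈ H₁
    rw [show q₁ d = 1 from (QuotientGroup.eq_one_iff d).2 hd]
    exact one_mem H₁
  · have h : q₁ p ∈ K ⊓ H₁ := ⟨⟨p, hp1, rfl⟩, hp⟩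
    rw [disjoint_iff.1 hH₁.disjoint, Subgroup.mem_bot] at h
    exact hD p (hle ((QuotientGroup.eq_one_iff p).1 h)) hp1
  · obtain ⟨p, rfl⟩ := hsurj c
    have h : q₁ p ∈ K ⊔ H₁ := hH₁.sup_eq_top ▸ Subgroup.mem_top _
    obtain ⟨_, ⟨k, hk, rfl⟩, h', hh', e⟩ := Subgroup.mem_sup_of_normal_left.1 h
    refine ⟨k⁻¹ * p, ?_, by rw [map_mul, map_inv, show π k = 1 from hk, inv_one, one_mul]⟩
    show q₁ _ ∈ H₁
    rw [map_mul, map_inv, ← e, inv_mul_cancel_left]
    exact hh'

/-- An embedding of an odd index subgroup containing `Q` extends to the centralizers. -/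
theorem exists_centralizer_iso (H : Hyp z Q) (H' : Hyp z' Q') (Nc : Subgroup G) (hQ : Q ≤ Nc)
    (hNc : Nc ≤ centralizer ({z} : Set G)) (hodd : Odd (Nc.relIndex (centralizer ({z} : Set G))))
    (φ : ↥Nc →* G') (hinj : Function.Injective φ) (hrange : ∀ n, φ n * z' = z' * φ n)
    (hphiQ : (Q.subgroupOf Nc).map φ = Q')
    (htriv : ∀ f : ↥Nc →* Multiplicative (ZMod 2), (∀ n : ↥Nc, (n : G) ∈ Q → f n = 1) → f = 1) :
    ∃ θ : ↥(centralizer ({z} : Set G)) ≃* ↥(centralizer ({z'} : Set G')),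
      ∀ (n : G) (hn : n ∈ Nc), (θ ⟨n, hNc hn⟩ : G') = φ ⟨n, hn⟩ := by
  classical
  have hzQ : z ∈ Q := H.extra.z_mem
  have hφQ : ∀ x : ↥Q, φ ⟨x, hQ x.2⟩ ∈ Q' := fun x =>
    hphiQ ▸ Subgroup.mem_map_of_mem φ (show (⟨(x : G), hQ x.2⟩ : ↥Nc) ∈ Q.subgroupOf Nc from x.2)
  let ψ₀ : ↥Q →* ↥Q' :=
    { toFun := fun x => ⟨φ ⟨x, hQ x.2⟩, hφQ x⟩
      map_one' := Subtype.ext (map_one φ)
      map_mul' := fun x y => Subtype.ext (map_mul φ ⟨x, hQ x.2⟩ ⟨y, hQ y.2⟩) }
  have hψ : Function.Bijective ψ₀ := by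
    refine ⟨fun x y h => Subtype.ext ?_, fun y => ?_⟩
    · exact congrArg (fun n : ↥Nc => (n : G))
        (hinj (show φ ⟨x, hQ x.2⟩ = φ ⟨y, hQ y.2⟩ from congrArg Subtype.val h))
    · have hy : (y : G') ∈ (Q.subgroupOf Nc).map φ := hphiQ ▸ y.2
      obtain ⟨n, hn, e⟩ := hy
      exact ⟨⟨n, hn⟩, Subtype.ext e⟩
  let ψ : ↥Q ≃* ↥Q' := MulEquiv.ofBijective ψ₀ hψ
  have hψv : ∀ x : ↥Q, (ψ x : G') = φ ⟨x, hQ x.2⟩ := fun x => rfl
  -- the pairs acting alike
  have hnorm : ∀ (c : ↥(centralizer ({z} : Set G))) (x : ↥Q), (c : G) * x * (c : G)⁻¹ ∈ Q := fun c x =>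
    H.norm c (mem_centralizer_singleton_iff.1 c.2) x x.2
  let P : Subgroup (↥(centralizer ({z} : Set G)) × ↥(centralizer ({z'} : Set G'))) :=
    { carrier := {p | ∀ x : ↥Q, (ψ ⟨(p.1 : G) * x * (p.1 : G)⁻¹, hnorm p.1 x⟩ : G') =
          (p.2 : G') * ψ x * (p.2 : G')⁻¹}
      one_mem' := fun x => by
        simp
      mul_mem' := fun {a b} ha hb x => by
        have h := ha ⟨(b.1 : G) * x * (b.1 : G)⁻¹, hnorm b.1 x⟩
        rw [hb x] at h
        have e1 : (⟨((a * b).1 : G) * x * ((a * b).1 : G)⁻¹, hnorm (a * b).1 x⟩ : ↥Q) =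
            ⟨(a.1 : G) * ((b.1 : G) * x * (b.1 : G)⁻¹) * (a.1 : G)⁻¹, hnorm a.1 ⟨_, hnorm b.1 x⟩⟩ :=
          Subtype.ext (by simp only [Prod.fst_mul, Subgroup.coe_mul]; group)
        rw [e1, h]
        simp only [Prod.snd_mul, Subgroup.coe_mul]
        group
      inv_mem' := fun {a} ha x => by
        have h := ha ⟨((a⁻¹).1 : G) * x * ((a⁻¹).1 : G)⁻¹, hnorm (a⁻¹).1 x⟩
        have e1 : (⟨(a.1 : G) * (((a⁻¹).1 : G) * x * ((a⁻¹).1 : G)⁻¹) * (a.1 : G)⁻¹,
            hnorm a.1 ⟨_, hnorm (a⁻¹).1 x⟩⟩ : ↥Q) = x :=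
          Subtype.ext (by simp only [Prod.fst_inv, Subgroup.coe_inv]; group)
        rw [e1] at h
        rw [h]
        simp only [Prod.snd_inv, Subgroup.coe_inv]
        group }
  have hPdef : ∀ p, p ∈ P ↔ ∀ x : ↥Q, (ψ ⟨(p.1 : G) * x * (p.1 : G)⁻¹, hnorm p.1 x⟩ : G') =
      (p.2 : G') * ψ x * (p.2 : G')⁻¹ := fun _ => Iff.rfl
  have hz'C : z' ∈ centralizer ({z'} : Set G') := mem_centralizer_singleton_iff.2 rfl
  -- the diagonal
  have hφC : ∀ n : ↥Nc, φ n ∈ centralizer ({z'} : Set G') := fun n => mem_centralizer_singleton_iff.2 (hrange n)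
  let δ : ↥Nc →* ↥P :=
    { toFun := fun n => ⟨(⟨n, hNc n.2⟩, ⟨φ n, hφC n⟩), fun x => by
        rw [hψv, hψv]
        show φ _ = φ n * φ _ * (φ n)⁻¹
        rw [← map_mul, ← map_inv, ← map_mul]
        rfl⟩
      map_one' := Subtype.ext (Prod.ext rfl (Subtype.ext (map_one φ)))
      map_mul' := fun a b => Subtype.ext (Prod.ext rfl (Subtype.ext (map_mul φ a b))) }
  -- the kernel of the first projection
  let π : ↥P →* ↥(centralizer ({z} : Set G)) := (MonoidHom.fst _ _).comp P.subtype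
  have hker : ∀ p : ↥P, π p = 1 → (p.1.2 : G') = 1 ∨ (p.1.2 : G') = z' := by
    intro p hp
    have hc2 := mem_centralizer_singleton_iff.1 p.1.2.2
    have hcent : ∀ y ∈ Q', y * (p.1.2 : G') = (p.1.2 : G') * y := by
      intro y hy
      obtain ⟨x, hx⟩ := ψ.surjective ⟨y, hy⟩
      have h := (hPdef _).1 p.2 x
      have e1 : (⟨(p.1.1 : G) * x * (p.1.1 : G)⁻¹, hnorm _ x⟩ : ↥Q) = x :=
        Subtype.ext (by
          have h1 : (p.1.1 : G) = 1 := congrArg Subtype.val hp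
          simp [h1])
      rw [e1, hx] at h
      exact eq_mul_inv_iff_mul_eq.1 h
    refine H'.extra.central_cases (H'.self _ hc2 hcent) hcent
  have hsurj : Function.Surjective π := by
    intro c
    obtain ⟨c', hc', hm⟩ := exists_match H H' ψ (mem_centralizer_singleton_iff.1 c.2)
    exact ⟨⟨(c, ⟨c', mem_centralizer_singleton_iff.2 hc'⟩), fun x => hm x⟩, rfl⟩
  -- divide out the diagonal of `Q`
  let D : Subgroup ↥P := δ.range
  let DQ : Subgroup ↥P := (Q.subgroupOf Nc).map δ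
  haveI hDQn : DQ.Normal := ⟨by
    rintro _ ⟨q, hq, rfl⟩ p
    refine ⟨⟨(p.1.1 : G) * (q : G) * (p.1.1 : G)⁻¹, hQ (hnorm _ ⟨q, hq⟩)⟩,
      hnorm _ ⟨q, hq⟩, ?_⟩
    refine Subtype.ext (Prod.ext (Subtype.ext rfl) (Subtype.ext ?_))
    exact ((hPdef _).1 p.2 ⟨q, hq⟩)⟩
  let k₀ : ↥P := ⟨(1, ⟨z', hz'C⟩), fun x => by
    have e1 : (⟨((1 : ↥(centralizer ({z} : Set G))) : G) * x * ((1 : ↥(centralizer ({z} : Set G))) : G)⁻¹,
        hnorm 1 x⟩ : ↥Q) = x := Subtype.ext (by simp)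
    rw [e1]
    show _ = z' * (ψ x : G') * z'⁻¹
    rw [← H'.extra.comm_z (ψ x).2, mul_inv_cancel_right]⟩
  obtain ⟨HH, hDQH, hHker, hHsurj⟩ := exists_lift π hsurj k₀
    (fun p hp => (hker p hp).imp (fun h => Subtype.ext (Prod.ext hp (Subtype.ext h)))
      (fun h => Subtype.ext (Prod.ext hp (Subtype.ext h))))
    D DQ (Subgroup.map_le_range _ _)
    (by
      rintro _ ⟨n, rfl⟩ hn
      have h' : (n : G) = ((1 : ↥(centralizer ({z} : Set G))) : G) :=
        congrArg (fun w : ↥(centralizer ({z} : Set G)) => (w : G)) hn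
      rw [show n = 1 from Subtype.ext h', map_one])
    (by
      have e3 : D.map π = Nc.subgroupOf (centralizer ({z} : Set G)) := by
        ext c
        constructor
        · rintro ⟨_, ⟨n, rfl⟩, rfl⟩
          exact n.2
        · intro hc
          exact ⟨δ ⟨(c : G), hc⟩, ⟨_, rfl⟩, Subtype.ext rfl⟩
      rw [e3]
      exact hodd)
  let e₁ : ↥HH ≃* ↥(centralizer ({z} : Set G)) := MulEquiv.ofBijective (π.comp HH.subtype)
    ⟨(injective_iff_map_eq_one _).2 fun p hp => Subtype.ext (hHker p p.2 hp),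
      fun c => by obtain ⟨p, hp, e⟩ := hHsurj c; exact ⟨⟨p, hp⟩, e⟩⟩
  let θ₀ : ↥(centralizer ({z} : Set G)) →* ↥(centralizer ({z'} : Set G')) :=
    (((MonoidHom.snd _ _).comp P.subtype).comp HH.subtype).comp e₁.symm.toMonoidHom
  have hspec : ∀ c, ∃ p : ↥P, p ∈ HH ∧ p.1 = (c, θ₀ c) := fun c =>
    ⟨(e₁.symm c : ↥P), (e₁.symm c).2, Prod.ext (e₁.apply_symm_apply c) rfl⟩
  have hθQ : ∀ x : ↥Q, (θ₀ ⟨x, H.hQC x.2⟩ : G') = ψ x := by
    intro x
    have hmem : δ ⟨x, hQ x.2⟩ ∈ HH := hDQH ⟨⟨x, hQ x.2⟩, x.2, rfl⟩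
    have h1 : e₁ ⟨_, hmem⟩ = ⟨x, H.hQC x.2⟩ := Subtype.ext rfl
    show ((e₁.symm ⟨x, H.hQC x.2⟩ : ↥P).1.2 : G') = _
    rw [← h1, e₁.symm_apply_apply]
    rfl
  have hθinj : Function.Injective θ₀ := by
    refine (injective_iff_map_eq_one _).2 fun c hc => ?_
    obtain ⟨p, -, hp⟩ := hspec c
    rw [hc] at hp
    have hfix : ∀ y ∈ Q, y * (c : G) = c * y := by
      intro y hy
      have h := (hPdef (c, (1 : ↥(centralizer ({z'} : Set G'))))).1 (hp ▸ p.2) ⟨y, hy⟩
      rw [show (((c, (1 : ↥(centralizer ({z'} : Set G')))) :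
        _ × _).2 : G') = 1 from rfl, one_mul, inv_one, mul_one] at h
      have h' := congrArg Subtype.val (ψ.injective (Subtype.ext h))
      exact (mul_inv_eq_iff_eq_mul.1 h').symm
    have hcQ := H.self c (mem_centralizer_singleton_iff.1 c.2) hfix
    have h2 : ((ψ ⟨c, hcQ⟩ : ↥Q') : G') = 1 := by
      rw [← hθQ, show (⟨(c : G), H.hQC hcQ⟩ : ↥(centralizer ({z} : Set G))) = c from rfl, hc]
      rfl
    have h3 : (⟨c, hcQ⟩ : ↥Q) = 1 := ψ.injective (by rw [map_one]; exact Subtype.ext h2)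
    have h4 : (c : G) = 1 := congrArg (fun w : ↥Q => (w : G)) h3
    exact Subtype.ext h4
  have hcards : Nat.card ↥(centralizer ({z'} : Set G')) ≤ Nat.card ↥(centralizer ({z} : Set G)) := by
    rw [H.cardC, H'.cardC]
  let θ : ↥(centralizer ({z} : Set G)) ≃* ↥(centralizer ({z'} : Set G')) :=
    MulEquiv.ofBijective θ₀ (hθinj.bijective_of_nat_card_le hcards)
  -- agreement on `Nc`
  have hdiff : ∀ n : ↥Nc, (φ n)⁻¹ * (θ₀ ⟨n, hNc n.2⟩ : G') = 1 ∨
      (φ n)⁻¹ * (θ₀ ⟨n, hNc n.2⟩ : G') = z' := by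
    intro n
    obtain ⟨p, -, hp⟩ := hspec ⟨n, hNc n.2⟩
    have h := hker ((δ n)⁻¹ * p) (by
      rw [map_mul, map_inv, show π p = ⟨n, hNc n.2⟩ from congrArg Prod.fst hp]
      exact inv_mul_cancel _)
    have e : ((((δ n)⁻¹ * p : ↥P)).1.2 : G') = (φ n)⁻¹ * (p.1.2 : G') := rfl
    have hp2 : p.1.2 = θ₀ ⟨n, hNc n.2⟩ := by rw [hp]
    rw [e, hp2] at h
    exact h
  let f₀ : ↥Nc → Multiplicative (ZMod 2) := fun n =>
    if (φ n)⁻¹ * (θ₀ ⟨n, hNc n.2⟩ : G') = 1 then 1 else Multiplicative.ofAdd 1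
  have hne := H'.extra.ne_one
  have hmul : ∀ a b, f₀ (a * b) = f₀ a * f₀ b := by
    intro a b
    have e : (φ (a * b))⁻¹ * (θ₀ ⟨(a * b : ↥Nc), hNc (a * b).2⟩ : G') =
        ((φ a)⁻¹ * (θ₀ ⟨a, hNc a.2⟩ : G')) * ((φ b)⁻¹ * (θ₀ ⟨b, hNc b.2⟩ : G')) := by
      rw [map_mul, mul_inv_rev, show (⟨((a * b : ↥Nc) : G), hNc (a * b).2⟩ : ↥(centralizer ({z} : Set G))) =
        ⟨a, hNc a.2⟩ * ⟨b, hNc b.2⟩ from rfl, map_mul, Subgroup.coe_mul]
      rcases hdiff a with h | h
      · rw [inv_mul_eq_one] at h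
        rw [← h, inv_mul_cancel, one_mul]
        group
      · rw [inv_mul_eq_iff_eq_mul] at h
        rw [h, show (φ a)⁻¹ * (φ a * z') = z' by group]
        calc (φ b)⁻¹ * (φ a)⁻¹ * (φ a * z' * (θ₀ ⟨b, hNc b.2⟩ : G'))
            = (φ b)⁻¹ * z' * (θ₀ ⟨b, hNc b.2⟩ : G') := by group
          _ = z' * (φ b)⁻¹ * (θ₀ ⟨b, hNc b.2⟩ : G') := by
              rw [(Commute.inv_left (show Commute (φ b) z' from hrange b)).eq]
          _ = _ := by group
    show ite _ _ _ = ite _ _ _ * ite _ _ _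
    rw [e]
    rcases hdiff a with ha | ha <;> rcases hdiff b with hb | hb <;> simp [ha, hb, hne, H'.extra.sq_one]
    decide
  have hf := htriv (MonoidHom.mk' f₀ hmul) (fun n hn => if_pos (by
    rw [show (⟨(n : G), hNc n.2⟩ : ↥(centralizer ({z} : Set G))) = ⟨((⟨n, hn⟩ : ↥Q) : G), H.hQC hn⟩ from rfl,
      hθQ, hψv]
    exact inv_mul_cancel _))
  refine ⟨θ, fun n hn => ?_⟩
  have h := DFunLike.congr_fun hf ⟨n, hn⟩
  change f₀ ⟨n, hn⟩ = 1 at h
  show (θ₀ ⟨n, hNc hn⟩ : G') = _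
  by_contra hc
  simp only [f₀] at h
  rw [if_neg (fun e => hc (inv_mul_eq_one.1 e).symm)] at h
  exact absurd h (by decide)

/-- Two maps of a point stabiliser agreeing on a subgroup of odd index are equal (named subgroup). -/
theorem hom_eq_of_agree' (H : Hyp z Q) (H' : Hyp z' Q') (x : G) (hxQ : x ∈ Q) (hx2 : x * x = 1)
    (hx1 : x ≠ 1) (hxz : x ≠ z)
    (C : Subgroup G) (hC : C = centralizer ({z} : Set G) ⊓ centralizer ({x} : Set G))
    (al be : ↥C →* G')
    (hinj : Function.Injective al) (hal : ∀ g, al g * z' = z' * al g) (hbe : ∀ g, be g * z' = z' * be g)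
    (Nc : Subgroup G) (hQx : Q ⊓ centralizer ({x} : Set G) ≤ Nc)
    (halQ : ∀ g : ↥C, (g : G) ∈ Q → al g ∈ Q')
    (hodd : Odd (Nc.relIndex C))
    (hagree : ∀ g : ↥C, (g : G) ∈ Nc → al g = be g) : al = be := by
  classical
  have hCmem : ∀ g : ↥C, (g : G) ∈ centralizer ({z} : Set G) ∧ (g : G) ∈ centralizer ({x} : Set G) :=
    fun g => Subgroup.mem_inf.1 (hC.le g.2)
  obtain ⟨K⟩ := H.exists_plus
  obtain ⟨K'⟩ := H'.exists_plus
  have hQC : ∀ q ∈ Q, q * x = x * q → q ∈ C := fun q hq hc =>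
    hC.ge (Subgroup.mem_inf.2 ⟨H.hQC hq, mem_centralizer_singleton_iff.2 hc⟩)
  have hxC : x ∈ C := hQC x hxQ rfl
  set x' := al ⟨x, hxC⟩ with hx'def
  have hx'Q : x' ∈ Q' := halQ _ hxQ
  set w := K.vec x with hw
  set w' := K'.vec x' with hw'
  have hw0 : w ≠ 0 := fun h => ((K.zero_iff hxQ).1 h).elim hx1 hxz
  have hzC : z ∈ C := hQC z H.extra.z_mem (H.extra.comm_z hxQ).symm
  -- lifts of the hyperplane
  have hperp : ∀ v, B w v = 0 → K.lift v ∈ C := fun v hv => hQC _ (K.lift_mem v)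
    (((K.comm_iff H.extra.ne_one hxQ (K.lift_mem v)).2 (by rw [K.vec_lift]; exact hv)).symm)
  -- `al z = z'`
  have halz : al ⟨z, hzC⟩ = z' := by
    obtain ⟨p, r, hp, hr, hpr⟩ : ∃ p r : V, B w p = 0 ∧ B w r = 0 ∧ B p r = 1 := by
      have key : ∀ u : V, ∃ p ∈ ({x0, f0, inj ((1, 0), 0), inj ((0, 1), 0), inj (0, ((1, 0), 0)),
          inj (0, ((0, 1), 0)), x0 + inj ((1, 0), 0), f0 + inj ((1, 0), 0), x0 + inj ((0, 1), 0),
          f0 + inj ((0, 1), 0)} : Finset V), ∃ r ∈ ({x0, f0, inj ((1, 0), 0), inj ((0, 1), 0),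
          inj (0, ((1, 0), 0)), inj (0, ((0, 1), 0)), x0 + inj ((1, 0), 0), f0 + inj ((1, 0), 0),
          x0 + inj ((0, 1), 0), f0 + inj ((0, 1), 0)} : Finset V),
          B u p = 0 ∧ B u r = 0 ∧ B p r = 1 := by decide +kernel
      obtain ⟨p, -, r, -, h⟩ := key w
      exact ⟨p, r, h⟩
    have hcj := K.conj (K.lift_mem p) (K.lift_mem r)
    rw [K.vec_lift, K.vec_lift, if_neg (by rw [hpr]; exact one_ne_zero)] at hcj
    have h1 : (⟨z, hzC⟩ : ↥C) = ⟨_, hperp r hr⟩ * ⟨_, hperp p hp⟩ * ⟨_, hperp r hr⟩⁻¹ * ⟨_, hperp p hp⟩⁻¹ :=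
      Subtype.ext (by
        show z = K.lift r * K.lift p * (K.lift r)⁻¹ * (K.lift p)⁻¹
        rw [hcj, mul_inv_cancel_right])
    rcases H'.extra.conj_cases (halQ ⟨_, hperp r hr⟩ (K.lift_mem r)) (halQ ⟨_, hperp p hp⟩ (K.lift_mem p))
      with h | h
    · exfalso
      have h2 : al ⟨z, hzC⟩ = 1 := by
        rw [h1, map_mul, map_mul, map_mul, map_inv, map_inv, h, mul_inv_cancel]
      exact H.extra.ne_one (congrArg Subtype.val (hinj (h2.trans (map_one al).symm)))
    · rw [h1, map_mul, map_mul, map_mul, map_inv, map_inv, h, mul_inv_cancel_right]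
  have hx'1 : x' ≠ 1 := fun h => hx1 (congrArg Subtype.val (hinj (h.trans (map_one al).symm)))
  have hx'z : x' ≠ z' := fun h => hxz (congrArg Subtype.val (hinj (h.trans halz.symm)))
  have hw'0 : w' ≠ 0 := fun h => ((K'.zero_iff hx'Q).1 h).elim hx'1 hx'z
  have hw'q : qV 0 w' = 0 := by
    refine (K'.invol_iff H'.extra.ne_one hx'Q).1 ?_
    rw [hx'def, ← map_mul, show (⟨x, hxC⟩ * ⟨x, hxC⟩ : ↥C) = 1 from Subtype.ext hx2, map_one]
  -- `al` maps onto the hyperplane
  let L : AddSubgroup V := (AddMonoidHom.mk' (fun v => B w v) fun a b => B_add_right w a b).ker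
  let L' : AddSubgroup V := (AddMonoidHom.mk' (fun v => B w' v) fun a b => B_add_right w' a b).ker
  have hL : ∀ u : V, u ≠ 0 →
      Nat.card (AddMonoidHom.mk' (fun v => B u v) fun a b => B_add_right u a b).ker * 2 = 256 := by
    intro u hu
    set f : V →+ ZMod 2 := AddMonoidHom.mk' (fun v => B u v) fun a b => B_add_right u a b
    obtain ⟨v, hv⟩ : ∃ v, B u v ≠ 0 := by
      by_contra h
      push Not at h
      have hx := h x0
      have key : ∀ u : V, (∀ v ∈ ({x0, f0, inj ((1, 0), 0), inj ((0, 1), 0), inj (0, ((1, 0), 0)),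
          inj (0, ((0, 1), 0)), inj (0, (0, (1, 0))), inj (0, (0, (0, 1)))} : Finset V), B u v = 0) →
          u = 0 := by decide +kernel
      exact hu (key u fun v _ => h v)
    have hrange : Function.Surjective f := by
      intro t
      rcases zcases t with rfl | rfl
      · exact ⟨0, map_zero f⟩
      · exact ⟨v, eq_one hv⟩
    have h := f.ker.card_mul_index
    rw [AddSubgroup.index_ker, AddMonoidHom.range_eq_top.2 hrange, AddSubgroup.card_top,
      Nat.card_zmod] at h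
    rw [h, Nat.card_eq_fintype_card]
    rfl
  have himg : ∀ v, B w v = 0 → ∀ hv : K.lift v ∈ C, B w' (K'.vec (al ⟨_, hv⟩)) = 0 := by
    intro v _ hv
    refine (K'.comm_iff H'.extra.ne_one hx'Q (halQ ⟨_, hv⟩ (K.lift_mem v))).1 ?_
    rw [hx'def, ← map_mul, ← map_mul]
    exact congrArg al (Subtype.ext (mem_centralizer_singleton_iff.1 (hCmem ⟨_, hv⟩).2).symm)
  let μ : ↥L → ↥L' := fun v => ⟨K'.vec (al ⟨_, hperp v v.2⟩), himg v v.2 _⟩
  have hμ : Function.Injective μ := by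
    intro a b h
    have h' : K'.vec (al ⟨_, hperp a a.2⟩) = K'.vec (al ⟨_, hperp b b.2⟩) := congrArg Subtype.val h
    refine Subtype.ext ?_
    rcases K'.eq_or H' (halQ ⟨_, hperp a a.2⟩ (K.lift_mem _)) (halQ ⟨_, hperp b b.2⟩ (K.lift_mem _)) h'
      with e | e
    · have := congrArg K.vec (congrArg Subtype.val (hinj e))
      rwa [K.vec_lift, K.vec_lift] at this
    · rw [← halz, ← map_mul] at e
      have := congrArg K.vec (congrArg Subtype.val (hinj e))
      rw [Subgroup.coe_mul, K.mul H.extra.z_mem (K.lift_mem _), K.vec_z H, zero_add, K.vec_lift,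
        K.vec_lift] at this
      exact this
  have hμs : Function.Surjective μ := by
    refine (hμ.bijective_of_nat_card_le ?_).2
    have h1 := hL w hw0
    have h2 := hL w' hw'0
    show Nat.card ↥L' ≤ Nat.card ↥L
    change Nat.card ↥L * 2 = 256 at h1
    change Nat.card ↥L' * 2 = 256 at h2
    omega
  -- conjugation
  have hconj : ∀ g q : ↥C, (q : G) ∈ Q → (((g * q * g⁻¹ : ↥C)) : G) ∈ Q := fun g q hq =>
    H.norm g (mem_centralizer_singleton_iff.1 (hCmem g).1) q hq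
  have hagQ : ∀ q : ↥C, (q : G) ∈ Q → al q = be q := fun q hq => hagree q (hQx ⟨hq, (hCmem q).2⟩)
  set c : ↥C → G' := fun g => (al g)⁻¹ * be g with hc
  have hcz : ∀ g, c g * z' = z' * c g := fun g =>
    (Commute.mul_left (Commute.inv_left (hal g)) (hbe g)).eq
  have hcq : ∀ g q : ↥C, (q : G) ∈ Q → c g * al q = al q * c g := by
    intro g q hq
    have h1 := hagQ _ (hconj g q hq)
    rw [map_mul, map_mul, map_inv, map_mul, map_mul, map_inv, ← hagQ q hq] at h1
    calc c g * al q = (al g)⁻¹ * (be g * al q * (be g)⁻¹) * be g := by simp only [hc]; group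
      _ = al q * c g := by rw [← h1]; simp only [hc]; group
  have hcase : ∀ g, c g = 1 ∨ c g = z' ∨ c g = x' ∨ c g = z' * x' := by
    intro g
    have hfixL : ∀ u, B w' u = 0 → K'.act (c g) u = u := by
      intro u hu
      obtain ⟨v, hv⟩ := hμs ⟨u, hu⟩
      have e : K'.vec (al ⟨_, hperp v v.2⟩) = u := congrArg Subtype.val hv
      rw [← e, K'.act_vec H' (hcz g) (halQ ⟨_, hperp v v.2⟩ (K.lift_mem _)),
        hcq g ⟨_, hperp v v.2⟩ (K.lift_mem _), mul_inv_cancel_right]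
    have hfix : ∀ v, K'.act (c g) v = v := by
      intro v
      by_cases hv : B w' v = 0
      · exact hfixL v hv
      set d := K'.act (c g) v + v with hd
      have hd0 : ∀ u, B w' u = 0 → B d u = 0 := by
        intro u hu
        have h := K'.act_B H' (hcz g) v u
        rw [hfixL u hu] at h
        rw [hd, B_add_left, h, CharTwo.add_self_eq_zero]
      have hdv : d = 0 ∨ d = w' := by
        have hsum : ∀ u, B d u = (B d v) * B w' u := by
          intro u
          rcases zcases (B w' u) with hu | hu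
          · rw [hd0 u hu, hu, mul_zero]
          · have h := hd0 (u + v) (by rw [B_add_right, hu, eq_one hv]; decide)
            rw [B_add_right] at h
            rw [hu, mul_one]
            exact eq_of_add _ _ h
        rcases zcases (B d v) with h | h
        · exact Or.inl (B_nondeg (b := 0) fun u => by rw [B_comm u, hsum, h, zero_mul, B_zero_right])
        · exact Or.inr (B_nondeg fun u => by rw [B_comm u, hsum, h, one_mul, B_comm])
      rcases hdv with h | h
      · exact eqV h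
      · exfalso
        have h1 : K'.act (c g) v = v + w' := by rw [← h, hd, add_comm, add_assoc, addV, add_zero]
        have h2 := K'.act_q H' (hcz g) v
        rw [h1, qV_add, hw'q, add_zero, B_comm, eq_one hv] at h2
        exact one_ne_zero (add_eq_left.1 h2)
    have hcQ : c g ∈ Q' := K'.mem_of_act H' (hcz g) hfix
    have hd0 : ∀ u, B w' u = 0 → B (K'.vec (c g)) u = 0 := by
      intro u hu
      obtain ⟨v, hv⟩ := hμs ⟨u, hu⟩
      have e : K'.vec (al ⟨_, hperp v v.2⟩) = u := congrArg Subtype.val hv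
      rw [← e]
      exact (K'.comm_iff H'.extra.ne_one hcQ (halQ ⟨_, hperp v v.2⟩ (K.lift_mem _))).1
        (hcq g ⟨_, hperp v v.2⟩ (K.lift_mem _))
    obtain ⟨v₀, hv₀⟩ : ∃ v, B w' v ≠ 0 := by
      by_contra h
      push Not at h
      exact hw'0 (B_nondeg (b := 0) fun u => by rw [B_comm, h, B_zero_right])
    have hsum : ∀ u, B (K'.vec (c g)) u = B (K'.vec (c g)) v₀ * B w' u := by
      intro u
      rcases zcases (B w' u) with hu | hu
      · rw [hd0 u hu, hu, mul_zero]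
      · have h := hd0 (u + v₀) (by rw [B_add_right, hu, eq_one hv₀]; decide)
        rw [B_add_right] at h
        rw [hu, mul_one]
        exact eq_of_add _ _ h
    rcases zcases (B (K'.vec (c g)) v₀) with h | h
    · have : K'.vec (c g) = 0 := B_nondeg (b := 0) fun u => by
        rw [B_comm u, hsum, h, zero_mul, B_zero_right]
      rcases (K'.zero_iff hcQ).1 this with e | e
      · exact Or.inl e
      · exact Or.inr (Or.inl e)
    · have : K'.vec (c g) = K'.vec x' := B_nondeg fun u => by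
        rw [B_comm u, hsum, h, one_mul, B_comm]
      rcases K'.eq_or H' hcQ hx'Q this with e | e
      · exact Or.inr (Or.inr (Or.inl e))
      · exact Or.inr (Or.inr (Or.inr e))
  -- `c` is a homomorphism
  have hxg : ∀ g : ↥C, Commute x' (al g) := by
    intro g
    show x' * al g = al g * x'
    rw [hx'def, ← map_mul, ← map_mul]
    exact congrArg al (Subtype.ext (mem_centralizer_singleton_iff.1 (hCmem g).2).symm)
  have hcomm : ∀ g h, Commute (c g) (al h) := by
    intro g h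
    have hz : Commute z' (al h) := (hal h).symm
    rcases hcase g with e | e | e | e <;> rw [e]
    exacts [Commute.one_left _, hz, hxg h, hz.mul_left (hxg h)]
  let ch : ↥C →* G' := MonoidHom.mk' c fun g h => by
    show c (g * h) = c g * c h
    simp only [hc]
    rw [map_mul, map_mul, mul_inv_rev]
    have e := (Commute.inv_right (hcomm g h)).eq
    simp only [hc] at e
    calc (al h)⁻¹ * (al g)⁻¹ * (be g * be h) = (al h)⁻¹ * ((al g)⁻¹ * be g) * be h := by group
      _ = _ := by rw [← e]; group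
  have hsq : ∀ g, ch g ^ 2 = 1 := by
    intro g
    show c g ^ 2 = 1
    have hz2 : z' * z' = 1 := H'.extra.sq_one
    have hx2' : x' * x' = 1 := (K'.invol_iff H'.extra.ne_one hx'Q).2 hw'q
    rcases hcase g with e | e | e | e <;> rw [e, pow_two]
    · rw [mul_one]
    · exact hz2
    · exact hx2'
    · rw [mul_assoc, ← mul_assoc x' z', H'.extra.comm_z hx'Q, mul_assoc z' x', hx2', mul_one, hz2]
  have hkerdvd : ch.ker.index ∣ Nc.relIndex C := by
    refine Subgroup.index_dvd_of_le fun g hg => ?_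
    show c g = 1
    simp only [hc, hagree g hg, inv_mul_cancel]
  have h1 : ch.ker.index = 1 := by
    have h2 : Odd ch.ker.index := hodd.of_dvd_nat hkerdvd
    rw [Subgroup.index_ker] at h2 ⊢
    by_contra hne
    haveI : Fact (Nat.Prime 2) := ⟨Nat.prime_two⟩
    have hp : IsPGroup 2 ↥ch.range := fun y => ⟨1, by
      obtain ⟨g, hg⟩ := y.2
      exact Subtype.ext (by rw [pow_one, Subgroup.coe_pow, ← hg, hsq]; rfl)⟩
    obtain ⟨k, hk⟩ := IsPGroup.iff_card.1 hp
    rcases k with _ | k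
    · exact hne (by rw [hk, pow_zero])
    · rw [hk, pow_succ, Nat.odd_iff] at h2
      omega
  refine MonoidHom.ext fun g => ?_
  have h2 : c g = 1 := (Subgroup.index_eq_one.1 h1 ▸ Subgroup.mem_top g : g ∈ ch.ker)
  exact inv_mul_eq_one.1 h2

/-- Two maps of a point stabiliser agreeing on a subgroup of odd index are equal. -/
theorem hom_eq_of_agree (H : Hyp z Q) (H' : Hyp z' Q') (x : G) (hxQ : x ∈ Q) (hx2 : x * x = 1)
    (hx1 : x ≠ 1) (hxz : x ≠ z)
    (al be : ↥(centralizer ({z} : Set G) ⊓ centralizer ({x} : Set G)) →* G')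
    (hinj : Function.Injective al) (hal : ∀ g, al g * z' = z' * al g) (hbe : ∀ g, be g * z' = z' * be g)
    (Nc : Subgroup G) (hQx : Q ⊓ centralizer ({x} : Set G) ≤ Nc)
    (halQ : ∀ g : ↥(centralizer ({z} : Set G) ⊓ centralizer ({x} : Set G)), (g : G) ∈ Q → al g ∈ Q')
    (hodd : Odd (Nc.relIndex (centralizer ({z} : Set G) ⊓ centralizer ({x} : Set G))))
    (hagree : ∀ g : ↥(centralizer ({z} : Set G) ⊓ centralizer ({x} : Set G)), (g : G) ∈ Nc → al g = be g) :
    al = be :=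
  hom_eq_of_agree' H H' x hxQ hx2 hx1 hxz _ rfl al be hinj hal hbe Nc hQx halQ hodd hagree

end CfsgLib.CoOneUnique
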