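import Mathlib
import Cfsg.Agent.Lib.CoOneGolay.Norm
import Cfsg.Agent.Lib.Sporadic.CoOneCentralizer

/-!
# Uniqueness of the first Conway group: common definitions

The model side lives in `Co1`: sign changes by masks of code words, the monomial subgroup and the centralizer
of the sign change at the octad of mask `1`.
-/

set_option autoImplicit false
set_option linter.style.longLine false
set_option maxRecDepth 100000

noncomputable section

namespace CfsgLib.CoOneUnique

open Cfsg CfsgLib.Golay CfsgLib.CoOneGolay CfsgLib.MonsterType CfsgLib.Sporadic.CoOne
open scoped Pointwise

/-- The code word of a mask. -/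
def maskWord (m : ℕ) : golayCode := ⟨dec (phi m), dec_mem_of_isCode (isCode_phi m)⟩

/-- The sign change of a mask, in Co1. -/
def sgnM (m : ℕ) : Spor.Co1 := toCoOne (sgnW (maskWord m))

/-- The central involution of the model. -/
def zM : Spor.Co1 := sgnM 1

/-- The monomial subgroup of Co1. -/
def NM : Subgroup Spor.Co1 := (MulAction.stabilizer Co0 stdCrossL).map toCoOne

/-- The centralizer of the central involution of the model. -/
def CM : Subgroup Spor.Co1 := Subgroup.centralizer ({zM} : Set Spor.Co1)

/-- Consistency of the two parts at two commuting points of one frame: if `n` moves the central involution to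
the sign change at an octad of mask `m`, `2 ≤ m < 32` (disjoint from the base one up to complement), then
conjugation by `n` maps the elements of the centralizer part fixing that point back into the centralizer
part. -/
def PairCond {D : Type*} [Group D] (π : D →* Spor.Co1) (DN DC : Subgroup D) : Prop :=
  ∀ n ∈ DN, ∀ m : ℕ, 2 ≤ m → m < 32 → π n * zM * (π n)⁻¹ = sgnM m →
    ∀ c ∈ DC, π c * sgnM m = sgnM m * π c → n⁻¹ * c * n ∈ DC

end CfsgLib.CoOneUnique
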