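import Mathlib
import Cfsg.Agent.Lib.CoOneUnique.Defs
import Cfsg.Agent.Lib.CoOneType.Coord
import Cfsg.Agent.Lib.MonsterType.CentralConj
import Cfsg.Agent.S5378

/-!
The model: sign changes and permutations in Co1, and the setting at its central involution.
-/

set_option autoImplicit false
set_option linter.style.longLine false
set_option maxHeartbeats 1000000
set_option maxRecDepth 100000

noncomputable section

namespace CfsgLib.CoOneUnique

open Cfsg CfsgLib.Golay CfsgLib.CoOneGolay CfsgLib.MonsterType CfsgLib.Sporadic.CoOne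
open scoped Pointwise

theorem finite_co1 : Finite Spor.Co1 := by
  have := co0_finite
  exact Finite.of_surjective toCoOne (QuotientGroup.mk'_surjective _)

/-- A permutation of the code in Co1. -/
def permM : ↥M24 →* Spor.Co1 := toCoOne.comp permHom

theorem dec_ones_add (n : ℕ) : dec (n ^^^ ones) = dec n + 1 := by
  have h : dec ones = 1 := funext (by decide +kernel)
  rw [dec_xor, h]

theorem sgn_dec_eq {n : ℕ} {c : golayCode} (hn : isCode n = true) (hc : c.1 = dec n) :
    toCoOne (sgnW c) = sgnM (psi n) := by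
  rcases (code_facts hn).1 with e | e
  · rw [sgnM, show maskWord (psi n) = c from Subtype.ext (by rw [hc]; exact congrArg dec e)]
  · have h : maskWord (psi n) = ⟨1, one_mem_golay⟩ + c := Subtype.ext (by
      show dec (phi (psi n)) = (1 : GolayPt → ZMod 2) + c.1
      rw [e, dec_ones_add, hc, add_comm])
    rw [sgnM, h, Sporadic.CoTwo.sgnW_add, map_mul, ← negW_eq, toCoOne_negW, one_mul]

theorem sgnM_xor (a b : ℕ) : sgnM (a ^^^ b) = sgnM a * sgnM b := by
  rw [sgnM, sgnM, sgnM, ← map_mul, ← Sporadic.CoTwo.sgnW_add]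
  congr 2
  exact Subtype.ext (by show dec (phi (a ^^^ b)) = dec (phi a) + dec (phi b); rw [phi_xor, dec_xor])

theorem sgnM_zero : sgnM 0 = 1 := by
  have h := sgnM_xor 0 0
  rw [Nat.xor_zero] at h
  exact mul_left_cancel (a := sgnM 0) (by rw [mul_one, ← h])

theorem perm_sgnM (σ : ↥M24) (m : ℕ) : permM σ * sgnM m * (permM σ)⁻¹ = sgnM (rhoF σ.1 m) := by
  show toCoOne (permW σ) * toCoOne (sgnW (maskWord m)) * (toCoOne (permW σ))⁻¹ = _
  rw [← map_inv, ← map_mul, ← map_mul, perm_sgn, rhoF_eq]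
  refine sgn_dec_eq (isCode_smul σ.2 (isCode_phi m)) ?_
  funext p
  show dec (phi m) ((σ : Equiv.Perm GolayPt).symm p) = _
  rw [← encS_decS (phi_lt m), ← encS_smul]
  simp only [dec, testBit_encS, decide_eq_true_eq]
  refine if_congr ?_ rfl rfl
  rw [Finset.mem_smul_finset]
  exact ⟨fun h => ⟨_, h, Equiv.apply_symm_apply _ _⟩,
    fun ⟨q, hq, e⟩ => by rw [← e, Equiv.Perm.smul_def, Equiv.symm_apply_apply]; exact hq⟩

theorem sgnM_mul_permM_eq_one {m : ℕ} (hm : m < 2048) {σ : ↥M24} (h : sgnM m * permM σ = 1) : m = 0 ∧ σ = 1 := by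
  have h' : toCoOne (sgnW (maskWord m) * permW σ) = 1 := by rw [map_mul]; exact h
  obtain ⟨d, hd, hdd⟩ : ∃ d : golayCode, (d = 0 ∨ d = ⟨1, one_mem_golay⟩) ∧
      sgnW (maskWord m) * permW σ = sgnW d * permW 1 := by
    rcases toCoOne_eq_one_iff.mp h' with e | e
    · exact ⟨0, Or.inl rfl, by rw [e, Sporadic.CoTwo.sgnW_zero, ← permHom_apply, map_one, mul_one]⟩
    · exact ⟨_, Or.inr rfl, by rw [e, negW_eq, ← permHom_apply, map_one, mul_one]⟩
  obtain rfl := mono_unique hdd
  have hw : maskWord m = d := Sporadic.CoTwo.sgnW_inj (mul_right_cancel hdd)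
  refine ⟨?_, rfl⟩
  have e : dec (phi m) = d.1 := congrArg Subtype.val hw
  have e' : phi m = 0 ∨ phi m = ones := by
    rcases hd with rfl | rfl
    · left
      rw [← enc_dec (phi_lt m), e]
      exact enc_dec (n := 0) (by norm_num) ▸ congrArg enc (funext (by decide +kernel))
    · right
      rw [← enc_dec (phi_lt m), e]
      exact enc_dec (n := ones) (by norm_num [ones]) ▸ congrArg enc (funext (by decide +kernel))
  rw [← psi_phi hm]
  rcases e' with e' | e' <;> rw [e']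
  · decide +kernel
  · exact psi_ones

theorem mem_NM {x : Spor.Co1} : x ∈ NM ↔ ∃ m < 2048, ∃ σ : ↥M24, x = sgnM m * permM σ := by
  constructor
  · rintro ⟨γ, hγ, rfl⟩
    obtain ⟨c, σ, rfl⟩ := mem_stabilizer_stdCrossL.mp hγ
    have hc : isCode (enc c.1) = true := by
      obtain ⟨k, hk, e⟩ := exists_codeWord (mem_golayCode.mp c.2)
      exact mem_golayCode.mp c.2
    exact ⟨psi (enc c.1), psi_lt _, σ, by rw [map_mul, sgn_dec_eq hc (dec_enc c.1).symm]; rfl⟩
  · rintro ⟨m, -, σ, rfl⟩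
    exact ⟨sgnW (maskWord m) * permW σ, mem_stabilizer_stdCrossL.mpr ⟨_, _, rfl⟩, map_mul _ _ _⟩

theorem low_word : ∀ m < 32, CoOneGolay.phi m &&& 351362 = 0 ∨ (CoOneGolay.phi m ^^^ ones) &&& 351362 = 0 := by
  decide +kernel

theorem hyp_conj {G : Type*} [Group G] [Finite G] {z : G} {Q : Subgroup G} (H : CoOneType.Hyp z Q) (c : G) :
    CoOneType.Hyp (c * z * c⁻¹) (Q.map (MulAut.conj c).toMonoidHom) := by
  have hmem : ∀ y, y ∈ Q.map (MulAut.conj c).toMonoidHom ↔ c⁻¹ * y * c ∈ Q := fun y => by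
    rw [Subgroup.mem_map]
    exact ⟨by rintro ⟨q, hq, rfl⟩; simpa [mul_assoc] using hq, fun h => ⟨_, h, by simp [mul_assoc]⟩⟩
  have hcm : ∀ {d : G}, d * (c * z * c⁻¹) = c * z * c⁻¹ * d → c⁻¹ * d * c * z = z * (c⁻¹ * d * c) := by
    intro d h
    calc c⁻¹ * d * c * z = c⁻¹ * (d * (c * z * c⁻¹)) * c := by group
      _ = _ := by rw [h]; group
  have hmap : (Subgroup.centralizer ({c * z * c⁻¹} : Set G)) =
      (Subgroup.centralizer ({z} : Set G)).map (MulAut.conj c).toMonoidHom := by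
    ext y
    rw [Subgroup.mem_map, Subgroup.mem_centralizer_singleton_iff]
    constructor
    · intro h
      exact ⟨_, Subgroup.mem_centralizer_singleton_iff.2 (hcm h), by simp [mul_assoc]⟩
    · rintro ⟨d, hd, rfl⟩
      rw [Subgroup.mem_centralizer_singleton_iff] at hd
      show c * d * c⁻¹ * (c * z * c⁻¹) = c * z * c⁻¹ * (c * d * c⁻¹)
      calc c * d * c⁻¹ * (c * z * c⁻¹) = c * (d * z) * c⁻¹ := by group
        _ = _ := by rw [hd]; group
  have hinj : Function.Injective (MulAut.conj c).toMonoidHom := (MulAut.conj c).injective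
  have horder : orderOf (c * z * c⁻¹) = 2 := ((MulAut.conj c).orderOf_eq z).trans H.hz
  refine ⟨horder, by rw [hmap]; exact Subgroup.map_mono H.hQC, fun d hd y hy => ?_,
    (Subgroup.card_map_of_injective hinj).trans H.card, ⟨?_, horder, ?_⟩, fun d hd hy => ?_,
    by rw [hmap, Subgroup.card_map_of_injective hinj]; exact H.cardC, ?_⟩
  · rw [hmem] at hy ⊢
    have := H.norm _ (hcm hd) _ hy
    simpa [mul_assoc] using this
  · have := Fact.mk Nat.prime_two
    exact LargeExtra.isExtraspecial_of_equiv (Q.equivMapOfInjective _ hinj) H.extra.extra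
  · ext y
    have e : ∀ u : G, u ∈ (Subgroup.center ↥(Q.map (MulAut.conj c).toMonoidHom)).map
        (Q.map (MulAut.conj c).toMonoidHom).subtype ↔
        c⁻¹ * u * c ∈ (Subgroup.center ↥Q).map Q.subtype := by
      intro u
      simp only [Subgroup.mem_map, Subgroup.mem_center_iff, Subgroup.coe_subtype]
      constructor
      · rintro ⟨⟨v, hv⟩, hc', rfl⟩
        refine ⟨⟨_, (hmem v).1 hv⟩, fun w => Subtype.ext ?_, rfl⟩
        have hw : c * w * c⁻¹ ∈ Q.map (MulAut.conj c).toMonoidHom := ⟨w, w.2, rfl⟩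
        have := congrArg Subtype.val (hc' ⟨_, hw⟩)
        change c * w * c⁻¹ * v = v * (c * w * c⁻¹) at this
        show (w : G) * (c⁻¹ * v * c) = c⁻¹ * v * c * w
        calc (w : G) * (c⁻¹ * v * c) = c⁻¹ * (c * w * c⁻¹ * v) * c := by group
          _ = _ := by rw [this]; group
      · rintro ⟨⟨v, hv⟩, hc', e⟩
        refine ⟨⟨u, (hmem u).2 (e ▸ hv)⟩, fun w => Subtype.ext ?_, rfl⟩
        have hw : c⁻¹ * (w : G) * c ∈ Q := (hmem w).1 w.2
        have := congrArg Subtype.val (hc' ⟨_, hw⟩)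
        change c⁻¹ * w * c * v = v * (c⁻¹ * w * c) at this
        rw [show v = c⁻¹ * u * c from e] at this
        show (w : G) * u = u * w
        calc (w : G) * u = c * (c⁻¹ * w * c * (c⁻¹ * u * c)) * c⁻¹ := by group
          _ = _ := by rw [this]; group
    rw [e, H.extra.centre, Subgroup.mem_zpowers_iff, Subgroup.mem_zpowers_iff]
    refine exists_congr fun k => ?_
    rw [conj_zpow]
    exact ⟨fun h => by rw [h]; group, fun h => by rw [← h]; group⟩
  · have : c⁻¹ * d * c ∈ Q := H.self _ (hcm hd) fun q hq => by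
      have := hy (c * q * c⁻¹) ((hmem _).2 (by simpa [mul_assoc] using hq))
      calc q * (c⁻¹ * d * c) = c⁻¹ * (c * q * c⁻¹ * d) * c := by group
        _ = _ := by rw [this]; group
    exact (hmem _).2 this
  · obtain ⟨g, hg, hne⟩ := H.moved
    refine ⟨c * g * c⁻¹, ?_, fun h => hne ?_⟩
    · rw [hmem]
      simpa [mul_assoc] using hg
    · calc g * z * g⁻¹ = c⁻¹ * (c * g * c⁻¹ * (c * z * c⁻¹) * (c * g * c⁻¹)⁻¹) * c := by group
        _ = z := by rw [h]; group

/-- The setting at the central involution of the model, with the extraspecial group monomial. -/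
theorem exists_setting : ∃ QM : Subgroup Spor.Co1, CoOneType.Hyp zM QM ∧ QM ≤ NM ∧ ∀ m < 32, sgnM m ∈ QM := by
  have := finite_co1
  have := Fact.mk Nat.prime_two
  have hn : (psi : _ →* cBig).range.Normal := ker_act ▸ act.normal_ker
  have hF : Cfsg.generalizedFittingSubgroup cBig = psi.range := by
    rw [Components.generalizedFitting_eq_pCore_of_centralizer_le 2 (pCore_cBig.symm ▸ centralizer_le), pCore_cBig]
  have hext : Cfsg.IsExtraspecial 2 (psi : _ →* cBig).range := by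
    have := Sporadic.CoTwo.cTwo_finite
    exact LargeExtra.isExtraspecial_of_equiv (MonoidHom.ofInjective psi_injective) Sporadic.CoTwo.extraspecial_ker
  have hnw : ∃ g : Spor.Co1, (∃ hq : g * zOne * g⁻¹ ∈ cBig, (⟨g * zOne * g⁻¹, hq⟩ : cBig) ∈ psi.range) ∧
      g * zOne * g⁻¹ ≠ zOne := by
    obtain ⟨g, hg, hne⟩ := exists_conj
    exact ⟨g, ⟨hg ▸ (psi kElem).2, kElem, Subtype.ext hg.symm⟩, hne⟩
  have hS : Cfsg.IsExtraspecialCentralizerSetting zOne psi.range 4 :=
    ⟨orderOf_zOne, hF, hext, card_psi.trans (by norm_num), hnw⟩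
  obtain ⟨hEx, hself, hnorm⟩ := setting_extraAt hS
  have H0 : CoOneType.Hyp zOne (qm psi.range) := by
    refine ⟨orderOf_zOne, Subgroup.map_subtype_le _,
      fun c hc y hy => (Subgroup.mem_normalizer_iff.1 (hnorm (Subgroup.mem_centralizer_singleton_iff.2 hc)) y).1 hy,
      ?_, hEx, fun c _ hcy => ?_, ?_, ?_⟩
    · rw [card_qm, card_psi]
    · obtain ⟨a, -, rfl⟩ : c ∈ (Subgroup.center ↥(qm psi.range)).map (qm psi.range).subtype :=
        hself ▸ Subgroup.mem_centralizer_iff.2 hcy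
      exact a.2
    · rw [Subgroup.card_eq_card_quotient_mul_card_subgroup psi.range, card_psi,
        Nat.card_congr ((QuotientGroup.quotientMulEquivOfEq ker_act.symm).trans
          (QuotientGroup.quotientKerEquivOfSurjective _ act_surjective)).toEquiv, Agent.S5378.card_omega]
    · obtain ⟨g, ⟨hq, hgQ⟩, hne⟩ := hnw
      exact ⟨g, ⟨⟨_, hq⟩, hgQ, rfl⟩, hne⟩
  obtain ⟨σ, hσ, hσo⟩ := exists_smul_octad_eq baseOctad_mem zOct_mem
  set c := permM ⟨σ, hσ⟩ with hc
  have hz : c * zOne * c⁻¹ = zM := by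
    show permM ⟨σ, hσ⟩ * toCoOne (sgnW Sporadic.CoTwo.outWord) * _ = _
    rw [sgn_dec_eq (n := 8241104) (by decide +kernel) rfl, perm_sgnM, zM,
      show psi 8241104 = psi (encS baseOctad) by decide +kernel, rhoF_octad baseOctad_mem, hσo, psi_zOct]
  have hsgn : ∀ d : golayCode, (∀ p ∈ baseOctad, d.1 p = 0) → toCoOne (sgnW d) ∈ qm psi.range := by
    intro d hd
    obtain ⟨k, hk⟩ := Sporadic.CoTwo.exists_elem (⟨d, hd⟩, 1)
    refine ⟨psi k, ⟨k, rfl⟩, ?_⟩
    show toCoOne k.1.1 = _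
    rw [hk, show Sporadic.CoTwo.sig (⟨d, hd⟩, (1 : _)) = 1 from Subtype.ext rfl, ← permHom_apply, map_one, mul_one]
  refine ⟨(qm psi.range).map (MulAut.conj c).toMonoidHom, hz ▸ hyp_conj H0 c, ?_, fun m hm => ?_⟩
  · rintro _ ⟨_, ⟨_, ⟨k, rfl⟩, rfl⟩, rfl⟩
    obtain ⟨x, hx⟩ := Sporadic.CoTwo.exists_par k
    have hcN : c ∈ NM := ⟨permW ⟨σ, hσ⟩, mem_stabilizer_stdCrossL.mpr
      ⟨0, ⟨σ, hσ⟩, by rw [Sporadic.CoTwo.sgnW_zero, one_mul]⟩, rfl⟩
    refine mul_mem (mul_mem hcN ?_) (inv_mem hcN)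
    exact ⟨k.1.1, hx ▸ mem_stabilizer_stdCrossL.mpr ⟨_, _, rfl⟩, rfl⟩
  · obtain ⟨n, hn24, hn, hn0, hnm⟩ : ∃ n, n < 2 ^ 24 ∧ isCode n = true ∧ n &&& 351362 = 0 ∧ sgnM m = sgnM (psi n) := by
      have hpn : sgnM (psi (phi m)) = sgnM m := by rw [psi_phi (by omega)]
      rcases low_word m hm with e | e
      · exact ⟨_, phi_lt m, isCode_phi m, e, hpn.symm⟩
      · exact ⟨_, Nat.xor_lt_two_pow (phi_lt m) (by norm_num [ones]), isCode_xor (isCode_phi m) (by decide +kernel),
          e, by rw [psi_xor, psi_ones, Nat.xor_zero, hpn]⟩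
    let d : golayCode := ⟨_, act_code (inv_mem hσ) ⟨dec n, dec_mem_of_isCode hn⟩⟩
    refine ⟨toCoOne (sgnW d), hsgn d fun p hp => ?_, ?_⟩
    · show dec n ((σ⁻¹).symm p) = 0
      have hq : σ p ∈ zOct := hσo ▸ Finset.mem_smul_finset.mpr ⟨p, hp, rfl⟩
      have hb : (351362 : ℕ).testBit (idx (σ p)).val = true := mem_decS.1 hq
      have := congrArg (fun k : ℕ => k.testBit (idx (σ p)).val) hn0
      simp only [Nat.testBit_and, hb, Bool.and_true, Nat.zero_testBit] at this
      have e : (Equiv.symm σ⁻¹) p = σ p := rfl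
      simp [dec, e, this]
    · rw [hnm, ← sgn_dec_eq hn (c := ⟨dec n, dec_mem_of_isCode hn⟩) rfl]
      show c * toCoOne (sgnW d) * c⁻¹ = _
      rw [hc]
      show toCoOne (permW ⟨σ, hσ⟩) * _ * (toCoOne (permW ⟨σ, hσ⟩))⁻¹ = _
      rw [← map_inv, ← map_mul, ← map_mul, perm_sgn]
      congr 2
      refine Subtype.ext (funext fun p => ?_)
      show dec n (σ (σ.symm p)) = dec n p
      rw [Equiv.apply_symm_apply]

end CfsgLib.CoOneUnique
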