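import Mathlib
import Cfsg.Agent.Lib.CoOneGolay.Split

/-!
Facts about the common subgroup of the centralizer of the central involution and the normalizer of the subgroup
of order `2 ^ 11`: it has no character of order two trivial on the extraspecial group, and that group is
recognized among its subgroups.
-/

set_option autoImplicit false
set_option linter.style.longLine false
set_option maxHeartbeats 1000000
set_option maxRecDepth 100000
set_option synthInstance.maxSize 8000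
set_option synthInstance.maxHeartbeats 1000000

namespace CfsgLib.CoOneUnique

open Subgroup CfsgLib.CoOneType CfsgLib.Golay CfsgLib.CoOneGolay

/-- Four generating transvections. -/
def genPairs : List (ℕ × ℕ) := [(1, 2), (2, 4), (4, 8), (8, 1)]

/-- Their action on the upper six bits of the masks. -/
def topTabs : List (List ℕ) := [
  [0,1,2,3,4,5,6,7,8,9,10,11,12,13,14,15,20,21,22,23,16,17,18,19,28,29,30,31,24,25,26,27,34,35,32,33,38,39,36,37,42,43,40,41,46,47,44,45,54,55,52,53,50,51,48,49,62,63,60,61,58,59,56,57],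
  [0,1,3,2,4,5,7,6,24,25,27,26,28,29,31,30,16,17,19,18,20,21,23,22,8,9,11,10,12,13,15,14,32,33,35,34,36,37,39,38,56,57,59,58,60,61,63,62,48,49,51,50,52,53,55,54,40,41,43,42,44,45,47,46],
  [0,1,2,3,6,7,4,5,8,9,10,11,14,15,12,13,48,49,50,51,54,55,52,53,56,57,58,59,62,63,60,61,32,33,34,35,38,39,36,37,40,41,42,43,46,47,44,45,16,17,18,19,22,23,20,21,24,25,26,27,30,31,28,29],
  [0,17,10,27,4,21,14,31,8,25,2,19,12,29,6,23,16,1,26,11,20,5,30,15,24,9,18,3,28,13,22,7,32,49,42,59,36,53,46,63,40,57,34,51,44,61,38,55,48,33,58,43,52,37,62,47,56,41,50,35,60,45,54,39]]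

/-- The image of an upper part. -/
def topImg (t h : ℕ) : ℕ := (topTabs.getD t []).getD h 0

theorem topImg_spec : ∀ t < 4, ∀ h < 64, topImg t h < 64 ∧ ∀ k < 4,
    actL baseMaps (topImg t h * 32) (dv (2 ^ k)) =
      rootV (uv (genPairs.getD t (0, 0)).1) (dv (genPairs.getD t (0, 0)).2)
        (actL baseMaps (h * 32) (rootV (uv (genPairs.getD t (0, 0)).1) (dv (genPairs.getD t (0, 0)).2) (dv (2 ^ k)))) := by
  decide +kernel

theorem topImg_moves : ∀ k < 6, ∃ t < 4, ∃ h < 64, h ^^^ topImg t h = 2 ^ k := by decide +kernel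

/-- One step of the closure. -/
def grow (l : List ℕ) : List ℕ := (l ++ (List.range 4).flatMap fun t => l.map (topImg t)).eraseDups

theorem grow_large : ∀ h < 64, h ≠ 0 → 16 < (grow (grow (grow (grow (grow [h]))))).length := by decide +kernel

theorem pairs_ok : ∀ t < 4, (genPairs.getD t (0, 0)).1 < 16 ∧ (genPairs.getD t (0, 0)).2 < 16 ∧
    (genPairs.getD t (0, 0)).2 ≠ 0 ∧ ort (genPairs.getD t (0, 0)).1 (genPairs.getD t (0, 0)).2 = true ∧
    ort (genPairs.getD t (0, 0)).1 (genPairs.getD t (0, 0)).1 = false := by decide +kernel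

/-- A pair of transvections with a given commutator. -/
def commWit (i j : ℕ) : ℕ × ℕ :=
  ((((List.range 16).flatMap fun b => (List.range 16).map fun c => (b, c)).find? fun p =>
    (List.range 16).all fun u => ort i p.1 && ort p.2 j && Nat.beq (tv i p.1 (tv p.2 j (tv i p.1 (tv p.2 j u)))) (tv i j u)).getD (0, 0))

theorem commWit_spec : ((List.range 16).all fun i => (List.range 16).all fun j => !ort i j ||
    (decide ((commWit i j).1 < 16 ∧ (commWit i j).2 < 16) && ort i (commWit i j).1 && ort (commWit i j).2 j &&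
      (List.range 16).all fun u =>
        Nat.beq (tv i (commWit i j).1 (tv (commWit i j).2 j (tv i (commWit i j).1 (tv (commWit i j).2 j u))))
          (tv i j u))) = true := by decide +kernel

/-- Every transvection is a commutator of two others. -/
theorem tv_comm {i j : ℕ} (hi : i < 16) (hj : j < 16) (h : ort i j = true) :
    ∃ b < 16, ∃ c < 16, ort i b = true ∧ ort c j = true ∧
      ∀ u < 16, tv i b (tv c j (tv i b (tv c j u))) = tv i j u := by
  have e := List.all_eq_true.mp (List.all_eq_true.mp commWit_spec i (List.mem_range.mpr hi)) j (List.mem_range.mpr hj)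
  simp only [h, Bool.not_true, Bool.false_or, Bool.and_eq_true, decide_eq_true_eq, List.all_eq_true, List.mem_range] at e
  obtain ⟨⟨⟨⟨h1, h2⟩, h3⟩, h4⟩, h5⟩ := e
  exact ⟨_, h1, _, h2, h3, h4, fun u hu => Nat.eq_of_beq_eq_true (h5 u hu)⟩

theorem low_flip : ∀ m < 32, ∀ m' < 32, (m' = m ∨ m' = m ^^^ 1) → m' >>> 1 = m >>> 1 := by decide +kernel

variable {G : Type*} [Group G] [Finite G] {z : G} {Q : Subgroup G} {K : Coord z Q 0} {x g : G} {S : Base K x g}

section basic

variable (F : Frame S)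

/-- The part of the normalizer in the centralizer of `z`. -/
def Nc : Subgroup G := centralizer {z} ⊓ CoOneGolay.N F

theorem mem_Nc {n : G} : n ∈ Nc F ↔ n * z = z * n ∧ n ∈ CoOneGolay.N F := by
  rw [Nc, mem_inf, mem_centralizer_singleton_iff]

theorem su_Nc {c : G} (hc : SU K c) : c ∈ Nc F := (mem_Nc F).2 ⟨hc.1, su_normalizer F hc⟩

theorem A_Nc {a : G} (ha : a ∈ A F) : a ∈ Nc F :=
  (mem_Nc F).2 ⟨A_z F ha, le_normalizer (H := A F) ha⟩

theorem Q_le_Nc : Q ≤ Nc F := by
  intro q hq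
  obtain ⟨i, hi, j, hj, hv⟩ := uv_dual (K.vec q)
  obtain ⟨w1, w2⟩ := W_low F (m := 2 * i) (by omega)
  rw [show (2 * i) >>> 1 = i by rw [Nat.shiftRight_eq_div_pow]; omega] at w2
  obtain ⟨c1, c2⟩ := cq_spec F j hj
  have hw : W F (2 * i) ∈ Nc F := A_Nc F (W_mem F (by omega))
  have hc : cq F j ∈ Nc F := su_Nc F (cq_su F hj)
  rcases K.eq_or S.hyp hq (mul_mem w1 c1) (by rw [K.mul w1 c1, w2, c2, hv]) with e | e <;> rw [e]
  exacts [mul_mem hw hc, mul_mem (A_Nc F (z_mem F)) (mul_mem hw hc)]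

theorem low_Q {m : ℕ} (hm : m < 32) : W F m ∈ Q := (W_low F hm).1

theorem top_eq {m m' : ℕ} (hm : m < 2048) (hm' : m' < 2048)
    (h : ∀ k < 4, K.act (W F m) (dv (2 ^ k)) = K.act (W F m') (dv (2 ^ k))) : m >>> 5 = m' >>> 5 := by
  have key : (m ^^^ m') >>> 5 = 0 := by
    refine bt_top _ (by rw [Nat.shiftRight_eq_div_pow]; have := Nat.xor_lt_two_pow (n := 11) hm hm'; omega) fun k hk => ?_
    rw [actL_top ((m ^^^ m') >>> 5 * 32),
      show ((m ^^^ m') >>> 5 * 32) >>> 5 = (m ^^^ m') >>> 5 by simp [Nat.shiftRight_eq_div_pow],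
      ← actL_top, ← W_act F, W_xor, K.act_mul S.hyp (W_z F m) (W_z F m'), ← h k hk,
      ← K.act_mul S.hyp (W_z F m) (W_z F m), W_sq, K.act_one S.hyp]
  rw [Nat.shiftRight_xor_distrib] at key
  exact Nat.xor_eq_zero_iff.1 key

/-- A generating root element acts on the upper parts by its table. -/
theorem exists_mover {t : ℕ} (ht : t < 4) : ∃ a ∈ Nc F, ∀ m < 2048, ∃ m' < 2048,
    a * W F m * a⁻¹ = W F m' ∧ m' >>> 5 = topImg t (m >>> 5) := by
  have H := S.hyp
  obtain ⟨h1, h2, h3, h4, h5⟩ := pairs_ok t ht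
  obtain ⟨a, ha⟩ := exists_adj F h1 h2 h3 h4 h5
  have hsu := (ha.su F h1 h2 h4).1
  refine ⟨a, su_Nc F hsu, fun m hm => ?_⟩
  obtain ⟨m', hm', e⟩ := su_conj F hsu (W_mem F hm)
  refine ⟨m', hm', e, ?_⟩
  have hh : m >>> 5 < 64 := by rw [Nat.shiftRight_eq_div_pow]; omega
  obtain ⟨s1, s2⟩ := topImg_spec t ht _ hh
  have hn : topImg t (m >>> 5) * 32 < 2048 := by omega
  rw [show topImg t (m >>> 5) = (topImg t (m >>> 5) * 32) >>> 5 by simp [Nat.shiftRight_eq_div_pow]]
  refine top_eq F hm' hn fun k hk => ?_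
  rw [← e, W_act F (topImg t (m >>> 5) * 32), s2 k hk, ← ha.root.2.1]
  have hai : a⁻¹ = a := inv_eq_of_mul_eq_one_right ha.root.2.2.1
  rw [hai, K.act_mul H (Commute.mul_left hsu.1 (W_z F m)).eq hsu.1, K.act_mul H hsu.1 (W_z F m), W_act F m,
    actL_top m, actL_top (m >>> 5 * 32), show (m >>> 5 * 32) >>> 5 = m >>> 5 by simp [Nat.shiftRight_eq_div_pow]]

/-- An element commuting with `z` and fixing the four-space is a product of the abelian subgroup and dual lifts. -/
theorem exists_decomp {n : G} (hn : n ∈ Nc F) (h : ∀ k < 4, K.act n (uv (2 ^ k)) = uv (2 ^ k)) :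
    ∃ d < 2048, ∃ j < 16, n = W F d * cq F j := by
  obtain ⟨hz, hN⟩ := (mem_Nc F).1 hn
  have hp : Auto (piHom F ⟨n, hN⟩) := piHom_auto F _ hz
  obtain ⟨j, hj, e⟩ := auto_low F hp fun k hk => by
    have hk' : 2 ^ k < 16 := Nat.pow_lt_pow_right (by norm_num) hk
    have hm : 2 * 2 ^ k < 32 := by omega
    have hpm := hp.low hm
    obtain ⟨u1, u2⟩ := W_low F hm
    obtain ⟨v1, v2⟩ := W_low F hpm
    refine uv_inj _ (hp.Lmap_lt hk') _ hk' ?_
    show uv (app (piHom F ⟨n, hN⟩) (2 * 2 ^ k) >>> 1) = _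
    rw [← v2, W_piHom F _ (by omega), ← K.act_vec S.hyp hz u1, u2,
      show (2 * 2 ^ k) >>> 1 = 2 ^ k by rw [Nat.shiftRight_eq_div_pow]; omega, h k hk]
  have hker : (⟨n, hN⟩ : ↥(CoOneGolay.N F)) * cqN F hj ∈ (piHom F).ker := by
    rw [MonoidHom.mem_ker, map_mul, e, inv_mul_cancel]
  rw [ker_piHom, mem_subgroupOf] at hker
  obtain ⟨d, hd, hnd⟩ := hker
  refine ⟨d, hd, j, hj, ?_⟩
  have hne : cq F j * cq F j = 1 := by rw [← cq_xor, Nat.xor_self, cq_zero]
  calc n = n * cq F j * cq F j := by rw [mul_assoc, hne, mul_one]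
    _ = _ := by rw [show n * cq F j = W F d from hnd]

theorem conj_low {n : G} (hn : n * z = z * n) {m : ℕ} (hm : m < 32) (hu : K.act n (uv (m >>> 1)) = uv (m >>> 1)) :
    n * W F m * n⁻¹ = W F m ∨ n * W F m * n⁻¹ = z * W F m := by
  obtain ⟨w1, w2⟩ := W_low F hm
  exact K.eq_or S.hyp (S.hyp.norm n hn _ w1) w1 (by rw [← K.act_vec S.hyp hn w1, w2, hu])

/-- A homomorphism to the group of order two that is trivial on the extraspecial group is trivial. -/
theorem hom_trivial (f : ↥(Nc F) →* Multiplicative (ZMod 2)) (hf : ∀ n : ↥(Nc F), (n : G) ∈ Q → f n = 1) :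
    f = 1 := by
  have H := S.hyp
  have hA : ∀ m, (hm : m < 2048) → f ⟨W F m, A_Nc F (W_mem F hm)⟩ = 1 := by
    let φ : ℕ → Multiplicative (ZMod 2) := fun m =>
      if hm : m < 2048 then f ⟨W F m, A_Nc F (W_mem F hm)⟩ else 1
    have hφ : ∀ {m}, (hm : m < 2048) → φ m = f ⟨W F m, A_Nc F (W_mem F hm)⟩ := fun {m} hm => dif_pos hm
    have hmul : ∀ {a b}, a < 2048 → b < 2048 → φ (a ^^^ b) = φ a * φ b := by
      intro a b ha hb
      rw [hφ (Nat.xor_lt_two_pow (n := 11) ha hb), hφ ha, hφ hb, ← map_mul]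
      exact congrArg f (Subtype.ext (W_xor F a b))
    have hlow : ∀ {a b}, a < 2048 → b < 2048 → a >>> 5 = b >>> 5 → φ a = φ b := by
      intro a b ha hb he
      have hab : a ^^^ b < 32 := by
        have : (a ^^^ b) >>> 5 = 0 := by rw [Nat.shiftRight_xor_distrib, he, Nat.xor_self]
        rw [Nat.shiftRight_eq_div_pow] at this; omega
      have h1 : φ (a ^^^ b) = 1 := by rw [hφ (by omega)]; exact hf _ (low_Q F hab)
      rw [hmul ha hb] at h1
      have key : ∀ p q : Multiplicative (ZMod 2), p * q = 1 → p = q := by decide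
      exact key _ _ h1
    have hbasis : ∀ k < 6, φ (2 ^ k * 32) = 1 := by
      intro k hk
      obtain ⟨t, ht, h, hh, e⟩ := topImg_moves k hk
      obtain ⟨a, ha, hmove⟩ := exists_mover F ht
      obtain ⟨m', hm', e', etop⟩ := hmove (h * 32) (by omega)
      have h32 : h * 32 < 2048 := by omega
      have hk2 : 2 ^ k * 32 < 2048 := by
        have : 2 ^ k < 64 := Nat.pow_lt_pow_right (n := 6) (by norm_num) hk
        omega
      have hinv : φ m' = φ (h * 32) := by
        rw [hφ hm', hφ h32]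
        have : (⟨W F m', A_Nc F (W_mem F hm')⟩ : ↥(Nc F)) =
            ⟨a, ha⟩ * ⟨W F (h * 32), A_Nc F (W_mem F h32)⟩ * ⟨a, ha⟩⁻¹ := Subtype.ext e'.symm
        rw [this, map_mul, map_mul, map_inv, mul_inv_cancel_comm]
      rw [hlow hk2 (Nat.xor_lt_two_pow (n := 11) h32 hm') (by
        rw [Nat.shiftRight_xor_distrib, etop]
        simp [Nat.shiftRight_eq_div_pow, e]), hmul h32 hm', hinv]
      exact (by decide : ∀ p : Multiplicative (ZMod 2), p * p = 1) _
    intro m hm
    rw [← hφ hm, ← Nat.eq_of_beq_eq_true (List.all_eq_true.mp span_basisN m (List.mem_range.mpr hm))]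
    refine (spanWord_induction (P := fun n => n < 2048 ∧ φ n = 1) basisN ⟨by norm_num, ?_⟩ ?_ ?_ m).2
    · rw [hφ (by norm_num)]; exact hf _ (low_Q F (m := 0) (by norm_num))
    · rintro a b ⟨ha, fa⟩ ⟨hb, fb⟩
      exact ⟨Nat.xor_lt_two_pow (n := 11) ha hb, by rw [hmul ha hb, fa, fb, one_mul]⟩
    · intro b hb
      have hb' : b = 1 ∨ b = 2 ∨ b = 4 ∨ b = 8 ∨ b = 16 ∨ b = 32 ∨ b = 64 ∨ b = 128 ∨ b = 256 ∨ b = 512 ∨ b = 1024 := by
        simpa [basisN] using hb
      refine ⟨by omega, ?_⟩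
      by_cases hlt : b < 32
      · rw [hφ (by omega)]; exact hf _ (low_Q F hlt)
      · obtain ⟨k, hk, rfl⟩ : ∃ k < 6, b = 2 ^ k * 32 := by
          rcases hb' with rfl | rfl | rfl | rfl | rfl | rfl | rfl | rfl | rfl | rfl | rfl <;>
            first | omega | exact ⟨_, by norm_num, rfl⟩ | decide
        exact hbasis k hk
  have hfix : ∀ n : ↥(Nc F), (∀ k < 4, K.act (n : G) (uv (2 ^ k)) = uv (2 ^ k)) → f n = 1 := by
    intro n hn
    obtain ⟨d, hd, j, hj, e⟩ := exists_decomp F n.2 hn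
    have : n = ⟨W F d, A_Nc F (W_mem F hd)⟩ * ⟨cq F j, Q_le_Nc F (cq_spec F j hj).1⟩ := Subtype.ext e
    rw [this, map_mul, hA d hd, hf _ (cq_spec F j hj).1, one_mul]
  have htv : ∀ i < 16, ∀ j < 16, ort i j = true → ∃ c, SU K c ∧ (∀ u < 16, K.act c (uv u) = uv (tv i j u)) ∧
      ∀ hc : c ∈ Nc F, f ⟨c, hc⟩ = 1 := by
    intro i hi j hj ho
    obtain ⟨b, hb, c, hc, hab, hcd, hu⟩ := tv_comm hi hj ho
    obtain ⟨p, hp, hp'⟩ := exists_transvection F hi hb hab
    obtain ⟨q, hq, hq'⟩ := exists_transvection F hc hj hcd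
    refine ⟨p * (q * (p * q)), su_mul H hp (su_mul H hq (su_mul H hp hq)), fun u h16 => ?_, fun h => ?_⟩
    · have l1 := tv_lt c hc j hj u h16
      have l2 := tv_lt i hi b hb _ l1
      rw [K.act_mul H hp.1 (su_mul H hq (su_mul H hp hq)).1, K.act_mul H hq.1 (su_mul H hp hq).1,
        K.act_mul H hp.1 hq.1, hq' u h16, hp' _ l1, hq' _ l2, hp' _ (tv_lt c hc j hj _ l2), hu u h16]
    · have : (⟨p * (q * (p * q)), h⟩ : ↥(Nc F)) =
          ⟨p, su_Nc F hp⟩ * (⟨q, su_Nc F hq⟩ * (⟨p, su_Nc F hp⟩ * ⟨q, su_Nc F hq⟩)) := rfl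
      rw [this, map_mul, map_mul, map_mul]
      exact (by decide : ∀ p q : Multiplicative (ZMod 2), p * (q * (p * q)) = 1) _ _
  refine MonoidHom.ext fun ⟨n, hn⟩ => ?_
  have hnsu : ∀ i < 16, ∃ i' < 16, K.act n (uv i) = uv i' := by
    intro i hi
    obtain ⟨hz, hN⟩ := (mem_Nc F).1 hn
    obtain ⟨w1, w2⟩ := W_low F (m := 2 * i) (by omega)
    rw [show (2 * i) >>> 1 = i by rw [Nat.shiftRight_eq_div_pow]; omega] at w2
    have hl := (piHom_auto F ⟨n, hN⟩ hz).low (m := 2 * i) (by omega)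
    obtain ⟨v1, v2⟩ := W_low F hl
    refine ⟨app (piHom F ⟨n, hN⟩) (2 * i) >>> 1, by rw [Nat.shiftRight_eq_div_pow]; omega, ?_⟩
    rw [← v2, ← w2, W_piHom F _ (by omega), ← K.act_vec H ((mem_Nc F).1 hn).1 w1]
  have aux : ∀ r ≤ 4, ∃ c, ∃ hc : c ∈ Nc F, f ⟨c, hc⟩ = 1 ∧ SU K c ∧
      ∀ k < r, K.act (c * n) (uv (2 ^ k)) = uv (2 ^ k) := by
    intro r
    induction r with
    | zero => exact fun _ => ⟨1, one_mem _, map_one f, su_one H, fun k hk => absurd hk (Nat.not_lt_zero _)⟩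
    | succ r ih =>
      intro hr
      obtain ⟨c, hc, fc, sc, hck⟩ := ih (by omega)
      have hcn : SU K (c * n) := su_mul H sc ⟨((mem_Nc F).1 hn).1, hnsu⟩
      have hr16 : 2 ^ r < 16 := Nat.pow_lt_pow_right (n := 4) (by norm_num) (by omega)
      obtain ⟨b, hb, eb⟩ := hcn.2 _ hr16
      have hb0 : b >>> r ≠ 0 := by
        intro h0
        let a : Fin 4 → ℕ := fun k => 2 ^ (k : ℕ)
        let s : Fin 4 → ZMod 2 := fun k => if (k : ℕ) = r then 1 else if (k : ℕ) < r then zb b k else 0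
        have e : ∀ k : Fin 4, s k • K.act (c * n) (uv (a k)) =
            s k • (if (k : ℕ) = r then uv b else uv (2 ^ (k : ℕ))) := by
          intro k
          by_cases h1 : (k : ℕ) = r
          · rw [if_pos h1, show a k = 2 ^ r from by rw [← h1], eb]
          · by_cases h2 : (k : ℕ) < r
            · rw [if_neg h1, hck k h2]
            · simp [s, h1, h2]
        have hz0 : ∑ k, s k • uv (a k) = 0 := K.act_injective H hcn.1 (by
          have hadd := K.act_add H hcn.1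
          have hsm := K.act_smul H hcn.1
          rw [K.act_zero H hcn.1]
          simp only [Fin.sum_univ_four, hadd, hsm]
          rw [e, e, e, e]
          have := comb_zero r (by omega) b hb h0
          rw [Fin.sum_univ_four] at this
          exact this)
        have hind : ∀ s : Fin 4 → ZMod 2, ∑ k : Fin 4, s k • uv (2 ^ (k : ℕ)) = 0 → s = 0 := by decide +kernel
        have := congrFun (hind s hz0) ⟨r, by omega⟩
        simp [s] at this
      obtain ⟨i, hi, j, hj, ho, i', hi', j', hj', ho', e1, e2⟩ := step r (by omega) b hb hb0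
      obtain ⟨d, hd, hd', fd⟩ := htv i hi j hj ho
      obtain ⟨d', hd2, hd2', fd'⟩ := htv i' hi' j' hj' ho'
      refine ⟨d' * (d * c), mul_mem (su_Nc F hd2) (mul_mem (su_Nc F hd) hc), ?_, su_mul H hd2 (su_mul H hd sc),
        fun k hk => ?_⟩
      · have : (⟨d' * (d * c), mul_mem (su_Nc F hd2) (mul_mem (su_Nc F hd) hc)⟩ : ↥(Nc F)) =
            ⟨d', su_Nc F hd2⟩ * (⟨d, su_Nc F hd⟩ * ⟨c, hc⟩) := rfl
        rw [this, map_mul, map_mul, fc, fd, fd', one_mul, one_mul]
      · rw [show d' * (d * c) * n = d' * (d * (c * n)) by group, K.act_mul H hd2.1 (su_mul H hd hcn).1,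
          K.act_mul H hd.1 hcn.1]
        have h16 : 2 ^ k < 16 := Nat.pow_lt_pow_right (n := 4) (by norm_num) (by omega)
        rcases Nat.lt_or_ge k r with h | h
        · rw [hck k h, hd' _ h16, hd2' _ (tv_lt i hi j hj _ h16), e2 _ h]
        · rw [show k = r by omega, eb, hd' _ hb, hd2' _ (tv_lt i hi j hj _ hb), e1]
  obtain ⟨c, hc, fc, -, hck⟩ := aux 4 le_rfl
  have h1 := hfix (⟨c, hc⟩ * ⟨n, hn⟩) hck
  rw [map_mul, fc, one_mul] at h1
  exact h1

end basic

end CfsgLib.CoOneUnique
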