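import Mathlib
import Cfsg.Agent.Lib.CoOneUnique.Model
import Cfsg.Agent.Lib.CoOneUnique.NormFacts

/-!
# Uniqueness of the first Conway group: the isomorphism of the monomial parts

The normalizer of the subgroup of order `2 ^ 11` is isomorphic to the monomial subgroup of Co1, compatibly with
the coordinates; the extraspecial group is recognized in it; orbit counts in the common subgroup.
-/

set_option autoImplicit false
set_option linter.style.longLine false
set_option linter.unusedSectionVars false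
set_option maxHeartbeats 1000000
set_option maxRecDepth 100000
set_option synthInstance.maxSize 8000
set_option synthInstance.maxHeartbeats 1000000

noncomputable section

namespace CfsgLib.CoOneUnique

open Cfsg Subgroup CfsgLib.CoOneType CfsgLib.Golay CfsgLib.CoOneGolay
open scoped Pointwise

/-- Sign changes times permutations determine their factors. -/
theorem mono_inj {a b : ℕ} (ha : a < 2048) (hb : b < 2048) {σ τ : ↥M24}
    (h : sgnM a * permM σ = sgnM b * permM τ) : a = b ∧ σ = τ := by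
  have hsq : sgnM b * sgnM b = 1 := by rw [← sgnM_xor, Nat.xor_self, sgnM_zero]
  obtain ⟨h1, h2⟩ := sgnM_mul_permM_eq_one (m := b ^^^ a) (Nat.xor_lt_two_pow (n := 11) hb ha) (σ := σ * τ⁻¹) (by
    rw [map_mul, map_inv, sgnM_xor, show sgnM b * sgnM a * (permM σ * (permM τ)⁻¹) =
      sgnM b * (sgnM a * permM σ) * (permM τ)⁻¹ by group, h, ← mul_assoc, hsq, one_mul, mul_inv_cancel])
  exact ⟨(Nat.xor_eq_zero_iff.1 h1).symm, mul_inv_eq_one.1 h2⟩

theorem sgnM_comm (a b : ℕ) : sgnM a * sgnM b = sgnM b * sgnM a := by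
  rw [← sgnM_xor, ← sgnM_xor, Nat.xor_comm]

theorem sgnM_inj {a b : ℕ} (ha : a < 2048) (hb : b < 2048) (h : sgnM a = sgnM b) : a = b :=
  (mono_inj ha hb (σ := 1) (τ := 1) (by rw [h])).1

theorem mono_comm_zM {m : ℕ} {σ : ↥M24} :
    sgnM m * permM σ * zM = zM * (sgnM m * permM σ) ↔ σ ∈ MulAction.stabilizer M24 zOct := by
  rw [mem_stab_iff]
  have e : permM σ * zM = sgnM (rhoF σ.1 1) * permM σ := by
    rw [zM, ← perm_sgnM, inv_mul_cancel_right]
  rw [mul_assoc, e, ← mul_assoc zM, show zM * sgnM m = sgnM m * zM from sgnM_comm _ _, mul_assoc (sgnM m),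
    mul_right_inj, mul_left_inj]
  exact ⟨fun h => sgnM_inj (rhoF_lt _ _) (by norm_num) h, fun h => by rw [h]; rfl⟩

theorem mem_CMNM {x : Spor.Co1} : x ∈ CM ⊓ NM ↔
    ∃ m < 2048, ∃ σ ∈ MulAction.stabilizer M24 zOct, x = sgnM m * permM σ := by
  rw [mem_inf, CM, mem_centralizer_singleton_iff, mem_NM]
  constructor
  · rintro ⟨h, m, hm, σ, rfl⟩
    exact ⟨m, hm, σ, mono_comm_zM.1 h, rfl⟩
  · rintro ⟨m, hm, σ, hσ, rfl⟩
    exact ⟨mono_comm_zM.2 hσ, m, hm, σ, rfl⟩

theorem card_CMNM : Nat.card ↥(CM ⊓ NM) = 2 ^ 11 * 322560 := by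
  have := finite_co1
  let f : Fin 2048 × ↥(MulAction.stabilizer M24 zOct) → ↥(CM ⊓ NM) := fun p =>
    ⟨sgnM p.1 * permM p.2.1, mem_CMNM.2 ⟨p.1, p.1.2, p.2.1, p.2.2, rfl⟩⟩
  have hf : Function.Bijective f := by
    refine ⟨fun p q h => ?_, fun x => ?_⟩
    · obtain ⟨h1, h2⟩ := mono_inj p.1.2 q.1.2 (congrArg Subtype.val h)
      exact Prod.ext (Fin.ext h1) (Subtype.ext h2)
    · obtain ⟨m, hm, σ, hσ, e⟩ := mem_CMNM.1 x.2
      exact ⟨(⟨m, hm⟩, ⟨σ, hσ⟩), Subtype.ext e.symm⟩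
  rw [← Nat.card_congr (Equiv.ofBijective f hf), Nat.card_prod, Nat.card_fin, natCard_stab]
  rfl

/-- The index of a centralizer is the size of the orbit. -/
theorem relIndex_inf_centralizer {G : Type*} [Group G] (H : Subgroup G) (x : G) :
    (H ⊓ centralizer {x}).relIndex H = Nat.card (Set.range fun h : H => (h : G) * x * (h : G)⁻¹) := by
  rw [relIndex, index]
  have key : ∀ a b : H, a⁻¹ * b ∈ (H ⊓ centralizer {x}).subgroupOf H ↔
      (a : G) * x * (a : G)⁻¹ = (b : G) * x * (b : G)⁻¹ := by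
    intro a b
    rw [mem_subgroupOf, mem_inf, mem_centralizer_singleton_iff, Subgroup.coe_mul, Subgroup.coe_inv]
    constructor
    · rintro ⟨-, h⟩
      calc (a : G) * x * (a : G)⁻¹ = a * (x * ((a : G)⁻¹ * b)) * (b : G)⁻¹ := by group
        _ = _ := by rw [← h]; group
    · intro h
      refine ⟨mul_mem (inv_mem a.2) b.2, ?_⟩
      calc (a : G)⁻¹ * b * x = (a : G)⁻¹ * ((b : G) * x * (b : G)⁻¹) * b := by group
        _ = _ := by rw [← h]; group
  refine Nat.card_congr (Equiv.ofBijective (fun q => Quotient.liftOn' q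
    (fun h => (⟨(h : G) * x * (h : G)⁻¹, h, rfl⟩ : Set.range fun h : H => (h : G) * x * (h : G)⁻¹))
    fun a b hab => Subtype.ext ((key a b).1 (QuotientGroup.leftRel_apply.1 hab))) ⟨?_, ?_⟩)
  · intro p q
    induction p using Quotient.inductionOn'
    induction q using Quotient.inductionOn'
    exact fun h => QuotientGroup.eq.2 ((key _ _).2 (congrArg Subtype.val h))
  · rintro ⟨_, h, rfl⟩
    exact ⟨QuotientGroup.mk h, rfl⟩

theorem to_one : ∀ u < 16, u ≠ 0 → ∃ i < 16, ∃ j < 16, ort i j = true ∧ tv i j u = 1 := by decide +kernel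

theorem B_uv_dv : B (uv 1) (dv 1) = 1 := by decide +kernel

theorem grow_card : ∀ h < 64, h ≠ 0 → 16 < (grow (grow (grow (grow (grow [h]))))).toFinset.card := by decide +kernel

/-- A small set of upper parts closed under the movers is trivial. -/
theorem tops_zero (P : ℕ → Prop) (hlt : ∀ h, P h → h < 64) (hcl : ∀ t < 4, ∀ h, P h → P (topImg t h))
    (hcard : ∀ s : Finset ℕ, (∀ h ∈ s, P h) → s.card ≤ 16) {h : ℕ} (hh : P h) : h = 0 := by
  by_contra hne
  have hgrow : ∀ l : List ℕ, (∀ a ∈ l, P a) → ∀ a ∈ grow l, P a := by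
    intro l hl a ha
    simp only [grow, List.mem_eraseDups, List.mem_append, List.mem_flatMap, List.mem_range, List.mem_map] at ha
    rcases ha with ha | ⟨t, ht, b, hb, rfl⟩
    exacts [hl a ha, hcl t ht b (hl b hb)]
  have h1 : ∀ a ∈ [h], P a := fun a ha => by rwa [List.mem_singleton.1 ha]
  have := hcard (grow (grow (grow (grow (grow [h]))))).toFinset fun a ha =>
    hgrow _ (hgrow _ (hgrow _ (hgrow _ (hgrow _ h1)))) a (List.mem_toFinset.1 ha)
  have := grow_card h (hlt h hh) hne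
  omega

variable {G : Type*} [Group G] [Finite G] {z : G} {Q : Subgroup G} {K : Coord z Q 0} {x g : G} {S : Base K x g}

section basic

variable (F : Frame S)

theorem W_N {m : ℕ} (hm : m < 2048) : W F m ∈ CoOneGolay.N F := le_normalizer (H := A F) (W_mem F hm)

theorem W_inv (m : ℕ) : (W F m)⁻¹ = W F m := inv_eq_of_mul_eq_one_right (W_sq F m)

/-- The isomorphism of the monomial parts. -/
theorem exists_phi : ∃ φ : ↥(CoOneGolay.N F) →* Spor.Co1, Function.Injective φ ∧ φ.range = NM ∧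
    ∀ m (hm : m < 2048), φ ⟨W F m, W_N F hm⟩ = sgnM m := by
  have := normal_A F
  obtain ⟨L, hL⟩ := exists_split F
  have hr : ∀ n, piHom F n ∈ rho.range := fun n => by rw [← range_piHom F]; exact ⟨n, rfl⟩
  let e : ↥(CoOneGolay.N F) →* ↥M24 :=
    (MonoidHom.ofInjective rho_injective).symm.toMonoidHom.comp ((piHom F).codRestrict rho.range hr)
  have he : ∀ n, rho (e n) = piHom F n := fun n =>
    congrArg Subtype.val ((MonoidHom.ofInjective rho_injective).apply_symm_apply ⟨piHom F n, hr n⟩)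
  have hker : ∀ n, e n = 1 ↔ (n : G) ∈ A F := by
    intro n
    rw [← mem_subgroupOf (K := CoOneGolay.N F), ← ker_piHom, MonoidHom.mem_ker, ← he, map_eq_one_iff _ rho_injective]
  have hbij : Function.Bijective (e.comp L.subtype) := by
    refine ⟨(injective_iff_map_eq_one _).2 fun l hl => ?_, fun σ => ?_⟩
    · have : (l : ↥(CoOneGolay.N F)) ∈ (A F).subgroupOf (CoOneGolay.N F) ⊓ L :=
        ⟨mem_subgroupOf.2 ((hker _).1 hl), l.2⟩
      rw [disjoint_iff.1 hL.disjoint, mem_bot] at this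
      exact Subtype.ext this
    · obtain ⟨n, hn⟩ : rho σ ∈ (piHom F).range := by rw [range_piHom]; exact ⟨σ, rfl⟩
      obtain ⟨a, ha, l, hl, rfl⟩ := mem_sup_of_normal_left.1 (hL.sup_eq_top ▸ mem_top n :
        n ∈ (A F).subgroupOf (CoOneGolay.N F) ⊔ L)
      refine ⟨⟨l, hl⟩, rho_injective ?_⟩
      show rho (e l) = _
      rw [he, ← hn, map_mul, show piHom F a = 1 by rw [← MonoidHom.mem_ker, ker_piHom]; exact ha, one_mul]
  let s : ↥M24 →* ↥(CoOneGolay.N F) := L.subtype.comp (MulEquiv.ofBijective _ hbij).symm.toMonoidHom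
  have hs : ∀ σ, e (s σ) = σ := fun σ => (MulEquiv.ofBijective _ hbij).apply_symm_apply σ
  have hk : ∀ n, ((n * (s (e n))⁻¹ : ↥(CoOneGolay.N F)) : G) ∈ A F := fun n =>
    (hker _).1 (by rw [map_mul, map_inv, hs, mul_inv_cancel])
  let mask : ↥(CoOneGolay.N F) → ℕ := fun n => ((toA F).symm ⟨_, hk n⟩).1
  have hmlt : ∀ n, mask n < 2048 := fun n => ((toA F).symm ⟨_, hk n⟩).2
  have hmask : ∀ n, W F (mask n) = (n : G) * ((s (e n) : ↥(CoOneGolay.N F)) : G)⁻¹ := fun n => by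
    show W F ((toA F).symm ⟨_, hk n⟩).1 = _
    rw [← toA_apply, Equiv.apply_symm_apply]
    rfl
  have hW : ∀ n : ↥(CoOneGolay.N F), (n : G) = W F (mask n) * ((s (e n) : ↥(CoOneGolay.N F)) : G) := fun n => by
    rw [hmask, inv_mul_cancel_right]
  have hmul : ∀ n n', mask (n * n') = mask n ^^^ rhoF (e n).1 (mask n') := by
    intro n n'
    refine W_injective F (hmlt _) (Nat.xor_lt_two_pow (n := 11) (hmlt _) (rhoF_lt _ _)) ?_
    rw [W_xor, ← app_rho _ (hmlt n'), show rho (e n) = piHom F (s (e n)) by rw [← he, hs], W_piHom F _ (hmlt n'),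
      hmask n, hmask n', hmask (n * n'), map_mul, map_mul, Subgroup.coe_mul, Subgroup.coe_mul]
    group
  let φ : ↥(CoOneGolay.N F) →* Spor.Co1 := MonoidHom.mk' (fun n => sgnM (mask n) * permM (e n)) fun n n' => by
    rw [hmul, sgnM_xor, map_mul, map_mul, ← perm_sgnM]
    group
  have hφ : ∀ m (hm : m < 2048) σ, φ (⟨W F m, W_N F hm⟩ * s σ) = sgnM m * permM σ := by
    intro m hm σ
    have e1 : e (⟨W F m, W_N F hm⟩ * s σ) = σ := by
      rw [map_mul, hs, (hker _).2 (W_mem F hm), one_mul]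
    have e2 : mask (⟨W F m, W_N F hm⟩ * s σ) = m := W_injective F (hmlt _) hm (by
      rw [hmask, e1, Subgroup.coe_mul, mul_inv_cancel_right])
    show sgnM (mask _) * permM (e _) = _
    rw [e1, e2]
  refine ⟨φ, (injective_iff_map_eq_one _).2 fun n hn => ?_, ?_, fun m hm => ?_⟩
  · obtain ⟨h1, h2⟩ := sgnM_mul_permM_eq_one (hmlt n) hn
    refine Subtype.ext ?_
    rw [hW n, h1, h2, map_one]
    exact (mul_one _).trans (word_zero _)
  · ext y
    rw [mem_NM]
    exact ⟨fun ⟨n, hn⟩ => ⟨_, hmlt n, _, hn.symm⟩, fun ⟨m, hm, σ, hy⟩ => ⟨_, (hφ m hm σ).trans hy.symm⟩⟩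
  · have := hφ m hm 1
    rwa [map_one, mul_one, map_one, mul_one] at this

theorem Q_decomp {q : G} (hq : q ∈ Q) : ∃ m < 32, ∃ j < 16, q = W F m * cq F j := by
  obtain ⟨i, hi, j, hj, hv⟩ := uv_dual (K.vec q)
  obtain ⟨w1, w2⟩ := W_low F (m := 2 * i) (by omega)
  rw [show (2 * i) >>> 1 = i by rw [Nat.shiftRight_eq_div_pow]; omega] at w2
  obtain ⟨c1, c2⟩ := cq_spec F j hj
  rcases K.eq_or S.hyp hq (mul_mem w1 c1) (by rw [K.mul w1 c1, w2, c2, hv]) with e | e
  · exact ⟨2 * i, by omega, j, hj, e⟩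
  · exact ⟨1 ^^^ (2 * i), Nat.xor_lt_two_pow (n := 5) (by norm_num) (by omega), j, hj,
      by rw [e, W_xor, W_one, mul_assoc]⟩

theorem xor_top {a b : ℕ} (hb : b < 32) : (a ^^^ b) >>> 5 = a >>> 5 := by
  rw [Nat.shiftRight_xor_distrib, Nat.shiftRight_eq_zero b 5 hb, Nat.xor_zero]

/-- The extraspecial group among the subgroups of the common subgroup. -/
theorem eq_Q_of (Qs : Subgroup G) (hle : Qs ≤ Nc F) (hnorm : ∀ n ∈ Nc F, ∀ q ∈ Qs, n * q * n⁻¹ ∈ Qs)
    (hcard : Nat.card Qs = 512) (hlow : ∀ m < 32, W F m ∈ Qs)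
    (hcomm : ∀ q ∈ Qs, ∀ m < 32, q * W F m * q⁻¹ = W F m ∨ q * W F m * q⁻¹ = z * W F m) : Qs = Q := by
  have H := S.hyp
  have hfix : ∀ q ∈ Qs, ∀ k < 4, K.act q (uv (2 ^ k)) = uv (2 ^ k) := by
    intro q hq k hk
    have hk16 : 2 ^ k < 16 := Nat.pow_lt_pow_right (by norm_num) hk
    obtain ⟨w1, w2⟩ := W_low F (m := 2 * 2 ^ k) (by omega)
    rw [show (2 * 2 ^ k) >>> 1 = 2 ^ k by rw [Nat.shiftRight_eq_div_pow]; omega] at w2
    have hz : q * z = z * q := ((mem_Nc F).1 (hle hq)).1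
    rw [← w2, K.act_vec H hz w1]
    rcases hcomm q hq (2 * 2 ^ k) (by omega) with e | e <;> rw [e]
    rw [K.mul H.extra.z_mem w1, K.vec_z H, zero_add]
  -- the part inside the abelian subgroup
  have stage1 : ∀ d < 2048, W F d ∈ Qs → d >>> 5 = 0 := by
    intro d hd hmem
    refine tops_zero (fun h => h < 64 ∧ ∃ d < 2048, d >>> 5 = h ∧ W F d ∈ Qs) (fun h hh => hh.1)
      (fun t ht h ⟨hlt, d, hd, e, hq⟩ => ?_) (fun s hs => ?_) (h := d >>> 5)
      ⟨by rw [Nat.shiftRight_eq_div_pow]; omega, d, hd, rfl, hmem⟩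
    · obtain ⟨a, ha, hmove⟩ := exists_mover F ht
      obtain ⟨m', hm', e1, e2⟩ := hmove d hd
      exact ⟨(topImg_spec t ht h hlt).1, m', hm', by rw [e2, e], e1 ▸ hnorm a ha _ hq⟩
    · have hW : ∀ p : ↥(s ×ˢ Finset.range 32), W F (p.1.1 * 32 + p.1.2) ∈ Qs := by
        rintro ⟨⟨h, k⟩, hp⟩
        rw [Finset.mem_product, Finset.mem_range] at hp
        obtain ⟨hlt, d, hd, e, hq⟩ := hs h hp.1
        have hk : k < 32 := hp.2
        show W F (h * 32 + k) ∈ Qs
        have hsmall : d ^^^ (h * 32 + k) < 32 := by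
          have h0 : (d ^^^ (h * 32 + k)) >>> 5 = 0 := by
            rw [Nat.shiftRight_xor_distrib, e, show (h * 32 + k) >>> 5 = h by
              rw [Nat.shiftRight_eq_div_pow]; omega, Nat.xor_self]
          rw [Nat.shiftRight_eq_div_pow] at h0
          omega
        rw [show h * 32 + k = d ^^^ (d ^^^ (h * 32 + k)) by rw [← Nat.xor_assoc, Nat.xor_self, Nat.zero_xor],
          W_xor]
        exact mul_mem hq (hlow _ hsmall)
      have := Nat.card_le_card_of_injective (fun p => (⟨_, hW p⟩ : Qs)) (by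
        rintro ⟨⟨h, k⟩, hp⟩ ⟨⟨h', k'⟩, hp'⟩ e
        rw [Finset.mem_product, Finset.mem_range] at hp hp'
        dsimp only at hp hp'
        have := (hs h hp.1).1
        have := (hs h' hp'.1).1
        have := hp.2
        have := hp'.2
        have e' : h * 32 + k = h' * 32 + k' := W_injective F (by omega) (by omega) (congrArg Subtype.val e)
        exact Subtype.ext (Prod.ext (show h = h' by omega) (show k = k' by omega)))
      rw [Nat.card_eq_finsetCard, Finset.card_product, Finset.card_range, hcard] at this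
      omega
  have hQs : Qs ≤ Q := by
    intro q hq
    obtain ⟨d, hd, j, hj, rfl⟩ := exists_decomp F (hle hq) (hfix q hq)
    suffices hd0 : d >>> 5 = 0 by
      rw [Nat.shiftRight_eq_div_pow] at hd0
      exact mul_mem (low_Q F (by omega)) (cq_spec F j hj).1
    refine tops_zero (fun h => h < 64 ∧ ∃ d < 2048, d >>> 5 = h ∧ ∃ j < 16, W F d * cq F j ∈ Qs)
      (fun h hh => hh.1) (fun t ht h ⟨hlt, d, hd, e, j, hj, hq⟩ => ?_) (fun s hs => ?_) (h := d >>> 5)
      ⟨by rw [Nat.shiftRight_eq_div_pow]; omega, d, hd, rfl, j, hj, hq⟩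
    · obtain ⟨a, ha, hmove⟩ := exists_mover F ht
      obtain ⟨m', hm', e1, e2⟩ := hmove d hd
      obtain ⟨m, hm, j', hj', e3⟩ := Q_decomp F (H.norm a ((mem_Nc F).1 ha).1 _ (cq_spec F j hj).1)
      refine ⟨(topImg_spec t ht h hlt).1, m' ^^^ m, Nat.xor_lt_two_pow (n := 11) hm' (by omega),
        by rw [xor_top hm, e2, e], j', hj', ?_⟩
      have := hnorm a ha _ hq
      rwa [show a * (W F d * cq F j) * a⁻¹ = (a * W F d * a⁻¹) * (a * cq F j * a⁻¹) by group, e1, e3, ← mul_assoc,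
        ← W_xor] at this
    · have hch : ∀ h : ↥s, ∃ d < 2048, d >>> 5 = h.1 ∧ ∃ j : Fin 16, W F d * cq F j ∈ Qs := fun h => by
        obtain ⟨-, d, hd, e, j, hj, hq⟩ := hs h.1 h.2
        exact ⟨d, hd, e, ⟨j, hj⟩, hq⟩
      choose d hd he j hq using hch
      have := Nat.card_le_card_of_injective j (by
        intro h h' e
        have hm := mul_mem (hq h) (inv_mem (hq h'))
        rw [e, show W F (d h) * cq F (j h') * (W F (d h') * cq F (j h'))⁻¹ = W F (d h) * (W F (d h'))⁻¹ by group,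
          W_inv, ← W_xor] at hm
        have h0 := stage1 _ (Nat.xor_lt_two_pow (n := 11) (hd h) (hd h')) hm
        rw [Nat.shiftRight_xor_distrib, he, he] at h0
        exact Subtype.ext (Nat.xor_eq_zero_iff.1 h0))
      rwa [Nat.card_eq_finsetCard, Nat.card_fin] at this
  exact eq_of_le_of_card_ge hQs (le_of_eq (H.card.trans hcard.symm))

section iso

variable (φ : ↥(CoOneGolay.N F) →* Spor.Co1) (hinj : Function.Injective φ) (hrange : φ.range = NM)
  (hW : ∀ m (hm : m < 2048), φ ⟨W F m, W_N F hm⟩ = sgnM m)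

include hW in
theorem phi_z : φ ⟨z, le_normalizer (H := A F) (z_mem F)⟩ = zM := by
  rw [show (⟨z, le_normalizer (H := A F) (z_mem F)⟩ : ↥(CoOneGolay.N F)) = ⟨W F 1, W_N F (m := 1) (by norm_num)⟩ from
    Subtype.ext (W_one F).symm, hW 1 (by norm_num)]
  rfl

include hinj hW in
theorem phi_comm_iff (n : ↥(CoOneGolay.N F)) : φ n * zM = zM * φ n ↔ (n : G) * z = z * n := by
  rw [← phi_z F φ hW, ← map_mul, ← map_mul, hinj.eq_iff, Subtype.ext_iff]
  rfl

include hinj hrange hW in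
theorem map_Nc : ((Nc F).subgroupOf (CoOneGolay.N F)).map φ = CM ⊓ NM := by
  ext y
  rw [mem_inf, CM, mem_centralizer_singleton_iff, ← hrange, mem_map]
  constructor
  · rintro ⟨n, hn, rfl⟩
    exact ⟨(phi_comm_iff F φ hinj hW n).2 ((mem_Nc F).1 hn).1, n, rfl⟩
  · rintro ⟨h, n, rfl⟩
    exact ⟨n, (mem_Nc F).2 ⟨(phi_comm_iff F φ hinj hW n).1 h, n.2⟩, rfl⟩

include hinj hrange hW in
theorem card_Nc : Nat.card (Nc F) = 2 ^ 11 * 322560 := by
  rw [← card_CMNM, ← map_Nc F φ hinj hrange hW, card_map_of_injective hinj]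
  exact (Nat.card_congr (subgroupOfEquivOfLe (show Nc F ≤ CoOneGolay.N F from inf_le_right)).toEquiv).symm

include hinj hrange hW in
theorem relIndex_Nc : (Nc F).relIndex (centralizer ({z} : Set G)) = 135 := by
  have h := ((Nc F).subgroupOf (centralizer ({z} : Set G))).card_mul_index
  rw [Nat.card_congr (subgroupOfEquivOfLe (show Nc F ≤ centralizer ({z} : Set G) from inf_le_left)).toEquiv,
    card_Nc F φ hinj hrange hW, S.hyp.cardC] at h
  rw [relIndex]
  omega

theorem exists_flip : ∃ q ∈ Q, q * W F 2 * q⁻¹ = W F 3 := by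
  obtain ⟨c1, c2⟩ := cq_spec F 1 (by norm_num)
  obtain ⟨w1, w2⟩ := W_low F (m := 2) (by norm_num)
  refine ⟨_, c1, ?_⟩
  rw [K.conj w1 c1, w2, c2, show (2 : ℕ) >>> 1 = 1 from rfl, B_uv_dv, if_neg one_ne_zero,
    show (3 : ℕ) = 1 ^^^ 2 from rfl, W_xor, W_one]

theorem low_orbit {m : ℕ} (h2 : 2 ≤ m) (hm : m < 32) : ∃ c ∈ Nc F, c * W F m * c⁻¹ = W F 2 := by
  have H := S.hyp
  obtain ⟨i, hi, j, hj, ho, e⟩ := to_one (m >>> 1) (by rw [Nat.shiftRight_eq_div_pow]; omega)
    (by rw [Nat.shiftRight_eq_div_pow]; omega)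
  obtain ⟨c, hc, hact⟩ := exists_transvection F hi hj ho
  obtain ⟨w1, w2⟩ := W_low F hm
  obtain ⟨v1, v2⟩ := W_low F (m := 2) (by norm_num)
  rcases K.eq_or H (H.norm c hc.1 _ w1) v1 (by
    rw [← K.act_vec H hc.1 w1, w2, hact _ (by rw [Nat.shiftRight_eq_div_pow]; omega), e, v2]; rfl) with h | h
  · exact ⟨c, su_Nc F hc, h⟩
  · obtain ⟨q, hq, eq⟩ := exists_flip F
    refine ⟨q⁻¹ * c, mul_mem (inv_mem (Q_le_Nc F hq)) (su_Nc F hc), ?_⟩
    calc q⁻¹ * c * W F m * (q⁻¹ * c)⁻¹ = q⁻¹ * (c * W F m * c⁻¹) * q := by group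
      _ = q⁻¹ * (W F 1 * W F 2) * q := by rw [h, W_one]
      _ = q⁻¹ * (q * W F 2 * q⁻¹) * q := by rw [← W_xor, eq]; rfl
      _ = _ := by group

theorem orbit_Nc {m : ℕ} (h2 : 2 ≤ m) (hm : m < 32) :
    (Nc F ⊓ centralizer {W F m}).relIndex (Nc F) = 30 := by
  have H := S.hyp
  rw [relIndex_inf_centralizer]
  have hset : (Set.range fun h : Nc F => (h : G) * W F m * (h : G)⁻¹) = W F '' Set.Ico 2 32 := by
    refine Set.Subset.antisymm ?_ ?_
    · rintro _ ⟨⟨n, hn⟩, rfl⟩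
      obtain ⟨hz, hN⟩ := (mem_Nc F).1 hn
      have hauto := piHom_auto F ⟨n, hN⟩ hz
      have hlt : m < 2048 := by omega
      refine ⟨app (piHom F ⟨n, hN⟩) m, ⟨?_, hauto.low hm⟩, W_piHom F _ hlt⟩
      by_contra hsmall
      rcases (show app (piHom F ⟨n, hN⟩) m = 0 ∨ app (piHom F ⟨n, hN⟩) m = 1 by omega) with e | e
      · have := app_inj _ hlt (by norm_num) (e.trans hauto.zero.symm)
        omega
      · have := app_inj _ hlt (by norm_num) (e.trans hauto.one.symm)
        omega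
    · rintro _ ⟨m', ⟨h2', hm'⟩, rfl⟩
      obtain ⟨c, hc, e⟩ := low_orbit F h2 hm
      obtain ⟨c', hc', e'⟩ := low_orbit F h2' hm'
      refine ⟨⟨c'⁻¹ * c, mul_mem (inv_mem hc') hc⟩, ?_⟩
      show c'⁻¹ * c * W F m * (c'⁻¹ * c)⁻¹ = W F m'
      calc c'⁻¹ * c * W F m * (c'⁻¹ * c)⁻¹ = c'⁻¹ * (c * W F m * c⁻¹) * c' := by group
        _ = c'⁻¹ * (c' * W F m' * c'⁻¹) * c' := by rw [e, e']
        _ = _ := by group
  rw [hset, Nat.card_coe_set_eq, Set.InjOn.ncard_image (fun a ha b hb e => W_injective F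
    (by have := ha.2; omega) (by have := hb.2; omega) e), ← Nat.card_coe_set_eq]
  simp

include hinj hrange hW in
/-- The common subgroup at a second point has odd index. -/
theorem odd_relIndex_pair {m : ℕ} (h2 : 2 ≤ m) (hm : m < 32) :
    Odd ((Nc F ⊓ centralizer {W F m}).relIndex (centralizer ({z} : Set G) ⊓ centralizer {W F m})) := by
  classical
  have H := S.hyp
  obtain ⟨w1, w2⟩ := W_low F hm
  have hne : z * W F m ≠ W F m := fun e => H.extra.ne_one (mul_eq_right.1 e)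
  have heven : Even ((centralizer ({z} : Set G) ⊓ centralizer {W F m}).relIndex (centralizer ({z} : Set G))) := by
    rw [relIndex_inf_centralizer, Nat.card_coe_set_eq, Set.ncard_eq_toFinset_card _ (Set.toFinite _),
      ← ZMod.natCast_eq_zero_iff_even]
    rw [Finset.card_eq_sum_ones, Nat.cast_sum, Nat.cast_one]
    refine Finset.sum_involution (fun a _ => z * a) (fun a _ => by decide) (fun a _ _ e => H.extra.ne_one (mul_eq_right.1 e))
      (fun a ha => ?_) (fun a _ => by rw [← mul_assoc, H.extra.sq_one, one_mul])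
    rw [Set.Finite.mem_toFinset] at ha ⊢
    obtain ⟨⟨c, hc⟩, rfl⟩ := ha
    obtain ⟨q, hq, eq⟩ : ∃ q ∈ Q, q * W F m * q⁻¹ = z * W F m := by
      obtain ⟨d, hd, e⟩ := low_orbit F h2 hm
      obtain ⟨q, hq, eq⟩ := exists_flip F
      have hdz := ((mem_Nc F).1 hd).1
      refine ⟨d⁻¹ * q * d, ?_, ?_⟩
      · have := H.norm d⁻¹ (Commute.inv_left hdz).eq q hq
        rwa [inv_inv] at this
      · calc d⁻¹ * q * d * W F m * (d⁻¹ * q * d)⁻¹ = d⁻¹ * (q * (d * W F m * d⁻¹) * q⁻¹) * d := by group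
          _ = d⁻¹ * (z * (d * W F m * d⁻¹)) * d := by
              rw [e, eq, show (3 : ℕ) = 1 ^^^ 2 from rfl, W_xor, W_one]
          _ = (d⁻¹ * z) * d * W F m := by group
          _ = _ := by rw [(Commute.inv_left hdz).eq, inv_mul_cancel_right]
    refine ⟨⟨c, hc⟩ * ⟨q, H.hQC hq⟩, ?_⟩
    show c * q * W F m * (c * q)⁻¹ = z * (c * W F m * c⁻¹)
    calc c * q * W F m * (c * q)⁻¹ = c * (q * W F m * q⁻¹) * c⁻¹ := by group
      _ = (c * z) * W F m * c⁻¹ := by rw [eq]; group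
      _ = _ := by rw [mem_centralizer_singleton_iff.1 hc]; group
  have h1 := relIndex_mul_relIndex (Nc F ⊓ centralizer {W F m})
    (centralizer ({z} : Set G) ⊓ centralizer {W F m}) (centralizer ({z} : Set G))
    (inf_le_inf_right _ inf_le_left) inf_le_left
  have h3 := relIndex_mul_relIndex (Nc F ⊓ centralizer {W F m}) (Nc F) (centralizer ({z} : Set G))
    inf_le_left inf_le_left
  rw [orbit_Nc F h2 hm, relIndex_Nc F φ hinj hrange hW] at h3
  obtain ⟨k, hk⟩ := heven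
  rw [hk, ← h3] at h1
  have h4 : (Nc F ⊓ centralizer {W F m}).relIndex (centralizer ({z} : Set G) ⊓ centralizer {W F m}) * k = 2025 := by
    rw [mul_add] at h1
    omega
  exact Nat.Odd.of_mul_left (h4 ▸ (by decide : Odd 2025))

include hinj hrange hW in
/-- The extraspecial groups correspond. -/
theorem map_Q {QM : Subgroup Spor.Co1} (HM : CoOneType.Hyp zM QM) (hQN : QM ≤ NM) (hlow : ∀ m < 32, sgnM m ∈ QM) :
    (Q.subgroupOf (CoOneGolay.N F)).map φ = QM := by
  have hcm : QM = ((QM.comap φ)).map φ := (map_comap_eq_self (hrange ▸ hQN)).symm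
  have hQs : (QM.comap φ).map (CoOneGolay.N F).subtype = Q := by
    refine eq_Q_of F _ ?_ ?_ ?_ ?_ ?_
    · rintro _ ⟨n, hn, rfl⟩
      exact (mem_Nc F).2 ⟨(phi_comm_iff F φ hinj hW n).1 (mem_centralizer_singleton_iff.1 (HM.hQC hn)), n.2⟩
    · rintro c hc _ ⟨n, hn, rfl⟩
      obtain ⟨hz, hN⟩ := (mem_Nc F).1 hc
      refine ⟨⟨c, hN⟩ * n * ⟨c, hN⟩⁻¹, ?_, rfl⟩
      show φ _ ∈ QM
      rw [map_mul, map_mul, map_inv]
      exact HM.norm _ ((phi_comm_iff F φ hinj hW ⟨c, hN⟩).2 hz) _ hn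
    · rw [card_map_of_injective (subtype_injective _), ← card_map_of_injective hinj, ← hcm, HM.card]
    · exact fun m hm => ⟨⟨W F m, W_N F (by omega)⟩, by show φ _ ∈ QM; rw [hW m (by omega)]; exact hlow m hm, rfl⟩
    · rintro _ ⟨n, hn, rfl⟩ m hm
      have hWm : m < 2048 := by omega
      rcases HM.extra.conj_cases hn (hlow m hm) with e | e
      · left
        rw [← hW m hWm, ← map_inv, ← map_mul, ← map_mul] at e
        exact congrArg Subtype.val (hinj e)
      · right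
        rw [← hW m hWm, ← phi_z F φ hW, ← map_inv, ← map_mul, ← map_mul, ← map_mul] at e
        exact congrArg Subtype.val (hinj e)
  conv_rhs => rw [hcm]
  congr 1
  ext n
  rw [mem_subgroupOf, ← SetLike.ext_iff.1 hQs]
  exact ⟨fun ⟨n', hn', e⟩ => (Subtype.ext e : n' = n) ▸ hn', fun h => ⟨n, h, rfl⟩⟩

end iso

end basic

end CfsgLib.CoOneUnique
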