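import Mathlib
import Cfsg.Agent.Lib.CoOneUnique.NIso
import Cfsg.Agent.Lib.CoOneUnique.CentIso
import Cfsg.Agent.Lib.Golay.CrossMaximal

/-!
# Uniqueness of the first Conway group: assembly

The subgroup of the product generated by the two diagonals covers Co1; once the covering is injective and the
two parts generate the group, the group is Co1.
-/

set_option autoImplicit false
set_option linter.style.longLine false
set_option linter.unusedSectionVars false
set_option maxHeartbeats 1000000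
set_option maxRecDepth 100000
set_option synthInstance.maxSize 8000
set_option synthInstance.maxHeartbeats 1000000

noncomputable section

namespace CfsgLib.CoOneUnique

open Cfsg Subgroup CfsgLib.CoOneType CfsgLib.Golay CfsgLib.CoOneGolay
open CfsgLib.Sporadic.CoOne (toCoOne)
open scoped Pointwise

/-- A fixed point free involution inverts a finite normal subgroup. -/
theorem fpf_inverts {Γ : Type*} [Group Γ] [Finite Γ] (K : Subgroup Γ) [K.Normal] {u : Γ} (hu : u * u = 1)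
    (hfix : ∀ k ∈ K, k * u = u * k → k = 1) {k : Γ} (hk : k ∈ K) : u * k * u = k⁻¹ := by
  have hui : u⁻¹ = u := inv_eq_of_mul_eq_one_right hu
  have hmem : ∀ a : ↥K, (a : Γ)⁻¹ * (u * a * u⁻¹) ∈ K := fun a =>
    mul_mem (inv_mem a.2) (Subgroup.Normal.conj_mem ‹_› _ a.2 u)
  let f : ↥K → ↥K := fun a => ⟨_, hmem a⟩
  have hf : Function.Injective f := by
    intro a b h
    have h' : (a : Γ)⁻¹ * (u * a * u⁻¹) = (b : Γ)⁻¹ * (u * b * u⁻¹) := congrArg Subtype.val h
    have h2 : (b : Γ) * (a : Γ)⁻¹ = 1 := hfix _ (mul_mem b.2 (inv_mem a.2)) (by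
      calc (b : Γ) * (a : Γ)⁻¹ * u = b * ((a : Γ)⁻¹ * (u * a * u⁻¹)) * (u * (a : Γ)⁻¹ * u⁻¹) * u := by group
        _ = _ := by rw [h']; group)
    exact Subtype.ext (mul_inv_eq_one.1 h2).symm
  obtain ⟨a, ha⟩ := (Finite.injective_iff_surjective.1 hf) ⟨k, hk⟩
  have e : (a : Γ)⁻¹ * (u * a * u⁻¹) = k := congrArg Subtype.val ha
  rw [← e, hui]
  calc u * ((a : Γ)⁻¹ * (u * a * u)) * u = u * (a : Γ)⁻¹ * u * a * (u * u) := by group
    _ = _ := by rw [hu, mul_one, mul_inv_rev, mul_inv_rev, mul_inv_rev, inv_inv, hui]; group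

/-- The two parts generate Co1. -/
theorem NM_sup_CM {QM : Subgroup Spor.Co1} (HM : CoOneType.Hyp zM QM) : NM ⊔ CM = ⊤ := by
  have := finite_co1
  have hsurj : Function.Surjective toCoOne := QuotientGroup.mk'_surjective _
  have hnle : ¬ CM ≤ NM := by
    intro h
    have h1 := card_CMNM
    rw [inf_eq_left.2 h, show CM = centralizer {zM} from rfl, HM.cardC] at h1
    norm_num at h1
  have hlt : MulAction.stabilizer Co0 stdCrossL < (NM ⊔ CM).comap toCoOne := by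
    refine lt_of_le_not_ge (fun γ hγ => mem_sup_left ⟨γ, hγ, rfl⟩) fun h => hnle fun c hc => ?_
    obtain ⟨γ, rfl⟩ := hsurj c
    exact ⟨γ, h (mem_sup_right hc), rfl⟩
  rw [← map_comap_eq_self_of_surjective hsurj (NM ⊔ CM), isCoatom_stdCross.2 _ hlt,
    map_top_of_surjective _ hsurj]

variable {G : Type*} [Group G] [Finite G] {z : G} {Q : Subgroup G} {K : Coord z Q 0} {x g : G} {S : Base K x g}

/-- The covering group with its two parts. -/
theorem exists_cover_data (F : Frame S) :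
    ∃ (D : Subgroup (G × Spor.Co1)) (DN DC : Subgroup ↥D), 
      let π := (MonoidHom.snd G Spor.Co1).comp D.subtype
      let p := (MonoidHom.fst G Spor.Co1).comp D.subtype
      DN.map π = NM ∧ DC.map π = CM ∧ Set.InjOn π DN ∧ Set.InjOn π DC ∧ CM ⊓ NM ≤ (DC ⊓ DN).map π ∧
        DN ⊔ DC = ⊤ ∧ PairCond π DN DC ∧ Function.Surjective π ∧ Set.InjOn p DC ∧
        CoOneGolay.N F ≤ p.range ∧ centralizer ({z} : Set G) ≤ p.range := by
  have H := S.hyp
  have := finite_co1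
  obtain ⟨φ, hinj, hrange, hW⟩ := exists_phi F
  obtain ⟨QM, HM, hQN, hlow⟩ := exists_setting
  let φc : ↥(Nc F) →* Spor.Co1 := φ.comp (Subgroup.inclusion inf_le_right)
  have hmapQ := map_Q F φ hinj hrange hW HM hQN hlow
  have hphiQ : (Q.subgroupOf (Nc F)).map φc = QM := by
    rw [← hmapQ]
    ext y
    constructor
    · rintro ⟨n, hn, rfl⟩
      exact ⟨_, hn, rfl⟩
    · rintro ⟨n, hn, rfl⟩
      exact ⟨⟨n, Q_le_Nc F hn⟩, hn, rfl⟩
  have hodd : Odd ((Nc F).relIndex (centralizer ({z} : Set G))) := by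
    rw [relIndex_Nc F φ hinj hrange hW]; decide
  obtain ⟨θ, hθ⟩ := exists_centralizer_iso H HM (Nc F) (Q_le_Nc F) inf_le_left hodd φc
    (hinj.comp (Subgroup.inclusion_injective _))
    (fun n => (phi_comm_iff F φ hinj hW _).2 ((mem_Nc F).1 n.2).1) hphiQ (hom_trivial F)
  have hθ' : ∀ n (hn : n ∈ Nc F) (hc : n ∈ centralizer ({z} : Set G)),
      (θ ⟨n, hc⟩ : Spor.Co1) = φ ⟨n, ((mem_Nc F).1 hn).2⟩ := fun n hn hc => hθ n hn
  let θ' : ↥(centralizer ({z} : Set G)) →* Spor.Co1 := (centralizer {zM}).subtype.comp θ.toMonoidHom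
  have hθi : Function.Injective θ' := Subtype.val_injective.comp θ.injective
  let GN : Subgroup (G × Spor.Co1) := ((CoOneGolay.N F).subtype.prod φ).range
  let GC : Subgroup (G × Spor.Co1) := ((centralizer ({z} : Set G)).subtype.prod θ').range
  refine ⟨GN ⊔ GC, GN.subgroupOf _, GC.subgroupOf _, ?_⟩
  intro π p
  have hNmem : ∀ n, ((CoOneGolay.N F).subtype.prod φ) n ∈ GN ⊔ GC := fun n => mem_sup_left ⟨n, rfl⟩
  have hCmem : ∀ c, ((centralizer ({z} : Set G)).subtype.prod θ') c ∈ GN ⊔ GC := fun c => mem_sup_right ⟨c, rfl⟩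
  have hN : (GN.subgroupOf (GN ⊔ GC)).map π = NM := by
    rw [← hrange]
    ext y
    constructor
    · rintro ⟨d, ⟨n, hn⟩, rfl⟩
      exact ⟨n, congrArg Prod.snd hn⟩
    · rintro ⟨n, rfl⟩
      exact ⟨⟨_, hNmem n⟩, ⟨n, rfl⟩, rfl⟩
  have hC : (GC.subgroupOf (GN ⊔ GC)).map π = CM := by
    ext y
    constructor
    · rintro ⟨d, ⟨c, hc⟩, rfl⟩
      have e : (θ c : Spor.Co1) = π d := congrArg Prod.snd hc
      rw [← e]
      exact (θ c).2
    · intro hy
      refine ⟨⟨_, hCmem (θ.symm ⟨y, hy⟩)⟩, ⟨_, rfl⟩, ?_⟩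
      show (θ (θ.symm ⟨y, hy⟩) : Spor.Co1) = y
      rw [θ.apply_symm_apply]
  refine ⟨hN, hC, ?_, ?_, ?_, ?_, ?_, ?_, ?_, ?_, ?_⟩
  · rintro ⟨d, hd⟩ ⟨n, hn⟩ ⟨d', hd'⟩ ⟨n', hn'⟩ e
    cases hn; cases hn'
    obtain rfl := hinj e
    rfl
  · rintro ⟨d, hd⟩ ⟨c, hc⟩ ⟨d', hd'⟩ ⟨c', hc'⟩ e
    cases hc; cases hc'
    obtain rfl := hθi e
    rfl
  · rw [← map_Nc F φ hinj hrange hW]
    rintro _ ⟨n, hn, rfl⟩
    refine ⟨⟨_, hNmem n⟩, ⟨⟨⟨n, ((mem_Nc F).1 hn).1 |> mem_centralizer_singleton_iff.2⟩, ?_⟩, n, rfl⟩, rfl⟩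
    exact Prod.ext rfl (hθ' n hn _)
  · rw [← subgroupOf_sup le_sup_left le_sup_right, subgroupOf_self]
  · rintro ⟨d, hd⟩ ⟨n, hn⟩ m h2 hm hzm ⟨c, hc⟩ ⟨a, ha⟩ hcomm
    cases hn; cases ha
    change φ n * zM * (φ n)⁻¹ = sgnM m at hzm
    change θ' a * sgnM m = sgnM m * θ' a at hcomm
    have hm2 : m < 2048 := by omega
    have hzn : (n : G) * z * (n : G)⁻¹ = W F m := by
      rw [← hW m hm2, ← phi_z F φ hW, ← map_inv, ← map_mul, ← map_mul] at hzm
      exact congrArg Subtype.val (hinj hzm)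
    have hWC : W F m ∈ centralizer ({z} : Set G) := mem_centralizer_singleton_iff.2 (W_z F m)
    have haW : (a : G) * W F m = W F m * a := by
      rw [← hW m hm2, ← hθ' _ (A_Nc F (W_mem F hm2)) hWC] at hcomm
      exact congrArg Subtype.val (hθi ((map_mul θ' a ⟨_, hWC⟩).trans (hcomm.trans (map_mul θ' ⟨_, hWC⟩ a).symm)))
    set Cx := centralizer ({z} : Set G) ⊓ centralizer {W F m} with hCx
    have hCx' : ∀ b : ↥Cx, (b : G) * z = z * b ∧ (b : G) * W F m = W F m * b := fun b =>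
      ⟨mem_centralizer_singleton_iff.1 b.2.1, mem_centralizer_singleton_iff.1 b.2.2⟩
    have hb : ∀ b : ↥Cx, (n : G)⁻¹ * b * n ∈ centralizer ({z} : Set G) := fun b => by
      have h := (hCx' b).2
      rw [← hzn] at h
      rw [mem_centralizer_singleton_iff]
      calc (n : G)⁻¹ * b * n * z = (n : G)⁻¹ * (b * ((n : G) * z * (n : G)⁻¹)) * n := by group
        _ = _ := by rw [h]; group
    let al : ↥Cx →* Spor.Co1 := θ'.comp (Subgroup.inclusion inf_le_left)
    let be : ↥Cx →* Spor.Co1 := MonoidHom.mk' (fun b => φ n * θ' ⟨_, hb b⟩ * (φ n)⁻¹) fun b b' => by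
      rw [show (⟨_, hb (b * b')⟩ : ↥(centralizer ({z} : Set G))) = ⟨_, hb b⟩ * ⟨_, hb b'⟩ from
        Subtype.ext (by simp only [Subgroup.coe_mul]; group), map_mul]
      group
    have heq : al = be := by
      obtain ⟨w1, w2⟩ := W_low F hm
      refine hom_eq_of_agree H HM (W F m) w1 (W_sq F m)
        (fun e => absurd (W_injective F hm2 (b := 0) (by norm_num) (e.trans (word_zero _).symm)) (by omega))
        (fun e => absurd (W_injective F hm2 (b := 1) (by norm_num) (e.trans (W_one F).symm)) (by omega))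
        al be (hθi.comp (Subgroup.inclusion_injective _))
        (fun b => mem_centralizer_singleton_iff.1 (θ ⟨b, b.2.1⟩).2) (fun b => ?_)
        (Nc F ⊓ centralizer {W F m}) (inf_le_inf_right _ (Q_le_Nc F)) (fun b hbQ => ?_)
        (odd_relIndex_pair F φ hinj hrange hW h2 hm) (fun b hbN => ?_)
      · have hy : (n : G)⁻¹ * z * n ∈ A F := by
          simpa using conj_mem F (inv_mem n.2) (z_mem F)
        have hyC : (n : G)⁻¹ * z * n ∈ centralizer ({z} : Set G) := mem_centralizer_singleton_iff.2 (A_z F hy)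
        have e1 : (θ' ⟨_, hyC⟩) = (φ n)⁻¹ * zM * φ n := by
          show (θ _ : Spor.Co1) = _
          rw [hθ' _ (A_Nc F hy), ← phi_z F φ hW, ← map_inv, ← map_mul, ← map_mul]
          rfl
        have e2 : θ' ⟨_, hb b⟩ * θ' ⟨_, hyC⟩ = θ' ⟨_, hyC⟩ * θ' ⟨_, hb b⟩ := by
          rw [← map_mul, ← map_mul]
          refine congrArg _ (Subtype.ext ?_)
          show (n : G)⁻¹ * b * n * ((n : G)⁻¹ * z * n) = (n : G)⁻¹ * z * n * ((n : G)⁻¹ * b * n)
          calc _ = (n : G)⁻¹ * ((b : G) * z) * n := by group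
            _ = _ := by rw [(hCx' b).1]; group
        rw [e1] at e2
        show φ n * θ' ⟨_, hb b⟩ * (φ n)⁻¹ * zM = zM * (φ n * θ' ⟨_, hb b⟩ * (φ n)⁻¹)
        calc φ n * θ' ⟨_, hb b⟩ * (φ n)⁻¹ * zM
            = φ n * (θ' ⟨_, hb b⟩ * ((φ n)⁻¹ * zM * φ n)) * (φ n)⁻¹ := by group
          _ = _ := by rw [e2]; group
      · show (θ ⟨(b : G), b.2.1⟩ : Spor.Co1) ∈ QM
        rw [hθ' _ (Q_le_Nc F hbQ), ← hphiQ]
        exact ⟨⟨b, Q_le_Nc F hbQ⟩, hbQ, rfl⟩
      · show (θ ⟨(b : G), b.2.1⟩ : Spor.Co1) = φ n * (θ _ : Spor.Co1) * (φ n)⁻¹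
        obtain ⟨-, hbn⟩ := (mem_Nc F).1 hbN.1
        rw [hθ' _ hbN.1, hθ' _ ((mem_Nc F).2 ⟨mem_centralizer_singleton_iff.1 (hb b),
          mul_mem (mul_mem (inv_mem n.2) hbn) n.2⟩), ← map_inv, ← map_mul, ← map_mul]
        exact congrArg φ (Subtype.ext (by show (b : G) = (n : G) * ((n : G)⁻¹ * b * n) * (n : G)⁻¹; group))
    refine ⟨⟨_, hb ⟨a, ⟨a.2, mem_centralizer_singleton_iff.2 haW⟩⟩⟩, Prod.ext rfl ?_⟩
    have h : θ' a = φ n * θ' ⟨_, hb ⟨a, ⟨a.2, mem_centralizer_singleton_iff.2 haW⟩⟩⟩ * (φ n)⁻¹ :=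
      DFunLike.congr_fun heq ⟨a, ⟨a.2, mem_centralizer_singleton_iff.2 haW⟩⟩
    show θ' _ = (φ n)⁻¹ * θ' a * φ n
    rw [h]
    group
  · refine MonoidHom.range_eq_top.1 (eq_top_iff.2 (NM_sup_CM HM ▸ sup_le ?_ ?_))
    · rw [← hN]; exact map_le_range _ _
    · rw [← hC]; exact map_le_range _ _
  · rintro ⟨d, hd⟩ ⟨c, hc⟩ ⟨d', hd'⟩ ⟨c', hc'⟩ e
    cases hc; cases hc'
    obtain rfl : c = c' := Subtype.ext e
    rfl
  · exact fun n hn => ⟨⟨_, hNmem ⟨n, hn⟩⟩, rfl⟩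
  · exact fun c hc => ⟨⟨_, hCmem ⟨c, hc⟩⟩, rfl⟩

/-- With the covering injective, a group generated by the two parts is Co1. -/
theorem iso_co1 (F : Frame S)
    (hcover : ∀ (D : Subgroup (G × Spor.Co1)) (π : ↥D →* Spor.Co1) (DN DC : Subgroup ↥D), DN.map π = NM →
      DC.map π = CM → Set.InjOn π DN → Set.InjOn π DC → CM ⊓ NM ≤ (DC ⊓ DN).map π → DN ⊔ DC = ⊤ →
      PairCond π DN DC → Function.Injective π)
    (hlocal : ∀ M : Subgroup G, centralizer ({z} : Set G) ≤ M → CoOneGolay.N F ≤ M → M = ⊤) :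
    Spor.IsoCo1 G := by
  have := finite_co1
  obtain ⟨D, DN, DC, hN, hC, hNi, hCi, hint, hgen, hpair, hsurj, hpC, hpN, hpZ⟩ := exists_cover_data F
  set π := (MonoidHom.snd G Spor.Co1).comp D.subtype
  set p := (MonoidHom.fst G Spor.Co1).comp D.subtype
  have hinjπ := hcover D π DN DC hN hC hNi hCi hint hgen hpair
  have hpt : Function.Surjective p := MonoidHom.range_eq_top.1 (hlocal _ hpZ hpN)
  let K' : Subgroup Spor.Co1 := p.ker.map π
  have hK : K'.Normal := Subgroup.Normal.map inferInstance π hsurj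
  have hfix : ∀ k ∈ K', k * zM = zM * k → k = 1 := by
    rintro _ ⟨d, hd, rfl⟩ hcomm
    have hmem : π d ∈ DC.map π := by rw [hC]; exact mem_centralizer_singleton_iff.2 hcomm
    obtain ⟨c, hc, e⟩ := hmem
    obtain rfl := hinjπ e
    rw [hpC hc (one_mem DC) ((show p c = 1 from hd).trans (map_one p).symm), map_one]
  have hfix' : ∀ (h : Spor.Co1), ∀ k ∈ K', k * (h * zM * h⁻¹) = h * zM * h⁻¹ * k → k = 1 := by
    intro h k hk hcomm
    have := hfix (h⁻¹ * k * h) (by simpa using hK.conj_mem k hk h⁻¹) (by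
      calc h⁻¹ * k * h * zM = h⁻¹ * (k * (h * zM * h⁻¹)) * h := by group
        _ = _ := by rw [hcomm]; group)
    calc k = h * (h⁻¹ * k * h) * h⁻¹ := by group
      _ = 1 := by rw [this]; group
  have hinv : ∀ m < 2048, inO m = true → ∀ k ∈ K', sgnM m * k * sgnM m = k⁻¹ := by
    intro m hm ho k hk
    obtain ⟨σ, hσ⟩ := exists_rho_eq (m := 1) (m' := m) (by norm_num) hm (by decide +kernel) ho
    refine fpf_inverts K' (by rw [← sgnM_xor, Nat.xor_self, sgnM_zero]) (fun k' hk' e => hfix' (permM σ) k' hk' ?_) hk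
    rw [zM, perm_sgnM, hσ]
    exact e
  have hKbot : ∀ k ∈ K', k = 1 := by
    intro k hk
    have i1 := hinv 1 (by norm_num) (by decide +kernel) k hk
    have i2 := hinv 2 (by norm_num) (by decide +kernel) k hk
    have i3 := hinv 3 (by norm_num) (by decide +kernel) k hk
    have hs : sgnM 1 * sgnM 1 = 1 := by rw [← sgnM_xor, Nat.xor_self, sgnM_zero]
    have e3 : sgnM 1 * sgnM 2 = sgnM 3 := (sgnM_xor 1 2).symm
    have : k = k⁻¹ := by
      rw [← i3, ← e3]
      conv_rhs => rw [show sgnM 1 * sgnM 2 * k * (sgnM 1 * sgnM 2) = sgnM 1 * (sgnM 2 * k * sgnM 2) * sgnM 1 by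
        rw [sgnM_comm 1 2]; nth_rewrite 1 [sgnM_comm 2 1]; group, i2]
      calc k = (sgnM 1 * k * sgnM 1)⁻¹ := by rw [i1, inv_inv]
        _ = _ := by rw [mul_inv_rev, mul_inv_rev, inv_eq_of_mul_eq_one_right hs, mul_assoc]
    refine hfix k hk ?_
    calc k * zM = (zM * zM) * k * zM := by rw [show zM * zM = 1 from hs, one_mul]
      _ = zM * (sgnM 1 * k * sgnM 1) := by rw [show zM = sgnM 1 from rfl]; group
      _ = zM * k := by rw [i1, ← this]
  have hpi : Function.Injective p := (injective_iff_map_eq_one _).2 fun d hd =>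
    hinjπ ((hKbot _ ⟨d, hd, rfl⟩).trans (map_one π).symm)
  exact ⟨(MulEquiv.ofBijective p ⟨hpi, hpt⟩).symm.trans (MulEquiv.ofBijective π ⟨hinjπ, hsurj⟩)⟩

end CfsgLib.CoOneUnique
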