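import Mathlib
import Cfsg.Agent.Lib.CoOneGolay.Frame
import Cfsg.Agent.Lib.CoOneType.Classes
import Cfsg.Agent.Lib.MonsterType.CentralConj
import Cfsg.Agent.S5378

/-!
# Uniqueness of the first Conway group: frames from the hypothesis on the centralizer
-/

set_option autoImplicit false

namespace CfsgLib.CoOneUnique

open Cfsg CfsgLib.MonsterType

/-- The setting of the statement gives a frame. -/
theorem exists_frame_of_setting {G : Type*} [Group G] [Finite G] (z : G)
    (Q : Subgroup (Subgroup.centralizer ({z} : Set G))) [Q.Normal]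
    (hS : Cfsg.IsExtraspecialCentralizerSetting z Q 4)
    (e : (Subgroup.centralizer ({z} : Set G)) ⧸ Q ≃* Cfsg.Omega (ZMod 2) (Cfsg.quadFormPlus 4 (ZMod 2))) :
    ∃ (K : CoOneType.Coord z (qm Q) 0) (x g : G) (S : CoOneType.Base K x g), Nonempty (CoOneType.Frame S) := by
  obtain ⟨hz, -, -, hcard, hnwc⟩ := id hS
  obtain ⟨hEx, hself, hnorm⟩ := setting_extraAt hS
  have H : CoOneType.Hyp z (qm Q) := by
    refine ⟨hz, Subgroup.map_subtype_le _,
      fun c hc y hy => (Subgroup.mem_normalizer_iff.1 (hnorm (Subgroup.mem_centralizer_singleton_iff.2 hc)) y).1 hy,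
      ?_, hEx, fun c _ hcy => ?_, ?_, ?_⟩
    · rw [card_qm, hcard]; norm_num
    · obtain ⟨a, -, rfl⟩ : c ∈ (Subgroup.center ↥(qm Q)).map (qm Q).subtype :=
        hself ▸ Subgroup.mem_centralizer_iff.2 hcy
      exact a.2
    · rw [Subgroup.card_eq_card_quotient_mul_card_subgroup Q, Nat.card_congr e.toEquiv,
        Cfsg.Agent.S5378.card_omega, hcard]
      norm_num
    · obtain ⟨g, ⟨hq, hgQ⟩, hne⟩ := hnwc
      exact ⟨g, ⟨⟨_, hq⟩, hgQ, rfl⟩, hne⟩
  obtain ⟨K₀⟩ := H.exists_plus
  exact H.exists_frame K₀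

end CfsgLib.CoOneUnique
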