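import Mathlib
import Cfsg.Agent.Lib.CoOneUnique.Main
import Cfsg.Agent.Lib.CoOneUnique.LocalTop
import Cfsg.Agent.Lib.CoOneUnique.Setting

/-!
# Uniqueness of the first Conway group: the theorem, given the covering
-/

set_option autoImplicit false
set_option linter.style.longLine false

namespace CfsgLib.CoOneUnique

open Cfsg Subgroup CfsgLib.CoOneType CfsgLib.CoOneGolay CfsgLib.MonsterType

/-- The statement of uniqueness, given that the covering is injective. -/
theorem iso_co1_of_setting {G : Type*} [Group G] [Finite G] (z : G)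
    (Q : Subgroup (centralizer ({z} : Set G))) [Q.Normal]
    (hS : Cfsg.IsExtraspecialCentralizerSetting z Q 4)
    (e : (centralizer ({z} : Set G)) ⧸ Q ≃* Cfsg.Omega (ZMod 2) (Cfsg.quadFormPlus 4 (ZMod 2)))
    (hcover : ∀ (D : Subgroup (G × Spor.Co1)) (π : ↥D →* Spor.Co1) (DN DC : Subgroup ↥D), DN.map π = NM →
      DC.map π = CM → Set.InjOn π DN → Set.InjOn π DC → CM ⊓ NM ≤ (DC ⊓ DN).map π → DN ⊔ DC = ⊤ →
      PairCond π DN DC → Function.Injective π) :
    Spor.IsoCo1 G := by
  obtain ⟨K, x, g, S, ⟨F⟩⟩ := exists_frame_of_setting z Q hS e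
  exact iso_co1 F hcover (eq_top_of_local F)

end CfsgLib.CoOneUnique
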