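import Cfsg.Agent.Lib.CoOneType.Plus
import Cfsg.Agent.S5395

/-!
# Uniqueness of the first Conway group: transport of the action on `Q/⟨z⟩`

An isomorphism between the extraspecial subgroups carries the automorphisms induced by one centralizer
onto the automorphisms induced by the other.
-/

set_option autoImplicit false
set_option linter.style.longLine false
set_option linter.unusedSectionVars false
set_option linter.style.haveILetI false

namespace CfsgLib.CoOneUnique

open Subgroup CfsgLib.CoOneType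

variable {G : Type*} [Group G] [Finite G] {z : G} {Q : Subgroup G}
variable {G' : Type*} [Group G'] [Finite G'] {z' : G'} {Q' : Subgroup G'}

/-- The images of two centralizers in the orthogonal group coincide. -/
theorem range_eq (K : Coord z Q 0) (H : Hyp z Q) (K' : Coord z' Q' 0) (H' : Hyp z' Q') :
    (K.toO H plusEquiv plusEquiv_q).range = (K'.toO H' plusEquiv plusEquiv_q).range := by
  set R := (K.toO H plusEquiv plusEquiv_q).range with hR
  set R' := (K'.toO H' plusEquiv plusEquiv_q).range with hR'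
  have hi : R.index = 2 := K.index_image H
  have hi' : R'.index = 2 := K'.index_image H'
  have hQ := CfsgLib.Orth.plusQ_nondegenerate (F := ZMod 2) 4
  let S : Subgroup (CfsgLib.Orth.O (CfsgLib.Orth.plusQ 4 (ZMod 2))) :=
    { carrier := {g | g ∈ R ↔ g ∈ R'}
      one_mem' := iff_of_true (one_mem R) (one_mem R')
      mul_mem' := fun {a b} (ha : a ∈ R ↔ a ∈ R') (hb : b ∈ R ↔ b ∈ R') => by
        show a * b ∈ R ↔ a * b ∈ R'
        rw [Subgroup.mul_mem_iff_of_index_two hi, Subgroup.mul_mem_iff_of_index_two hi', ha, hb]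
      inv_mem' := fun {a} (ha : a ∈ R ↔ a ∈ R') => by
        show a⁻¹ ∈ R ↔ a⁻¹ ∈ R'
        rw [inv_mem_iff, inv_mem_iff, ha] }
  have hall : CfsgLib.Orth.reflClosure (CfsgLib.Orth.plusQ 4 (ZMod 2)) ≤ S := by
    refine (Subgroup.closure_le _).2 ?_
    rintro _ ⟨u, rfl⟩
    show _ ∈ R ↔ _ ∈ R'
    rcases eq_or_ne (CfsgLib.Orth.plusQ 4 (ZMod 2) u) 0 with hu | hu
    · rw [CfsgLib.Orth.refl_eq_one hu]
      exact iff_of_true (one_mem R) (one_mem R')
    · exact iff_of_false (K.refl_not_mem H u hu) (K'.refl_not_mem H' u hu)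
  rw [CfsgLib.Orth.reflClosure_eq_top hQ (Or.inr (by simp)), top_le_iff] at hall
  ext g
  exact (hall ▸ mem_top g : g ∈ S)

/-- An isometry between the coordinate spaces conjugates one action into the other. -/
theorem exists_act (K : Coord z Q 0) (H : Hyp z Q) (K' : Coord z' Q' 0) (H' : Hyp z' Q') (σ : V → V)
    (hadd : ∀ a b, σ (a + b) = σ a + σ b) (hinj : Function.Injective σ)
    (hq : ∀ v, qV 0 (σ v) = qV 0 v) {c : G} (hc : c * z = z * c) :
    ∃ c' : G', c' * z' = z' * c' ∧ ∀ v, K'.act c' (σ v) = σ (K.act c v) := by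
  let τ : V ≃+ V := AddEquiv.ofBijective (AddMonoidHom.mk' σ hadd) hinj.bijective_of_finite
  let L : (Fin 4 ⊕ Fin 4 → ZMod 2) →ₗ[ZMod 2] (Fin 4 ⊕ Fin 4 → ZMod 2) :=
    (AddMonoidHom.mk' (fun y => plusEquiv (τ (plusEquiv.symm y))) fun a b => by
      rw [map_add plusEquiv.symm, AddEquiv.map_add τ, map_add plusEquiv]).toZModLinearMap 2
  let M : (Fin 4 ⊕ Fin 4 → ZMod 2) →ₗ[ZMod 2] (Fin 4 ⊕ Fin 4 → ZMod 2) :=
    (AddMonoidHom.mk' (fun y => plusEquiv (τ.symm (plusEquiv.symm y))) fun a b => by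
      rw [map_add plusEquiv.symm, AddEquiv.map_add τ.symm, map_add plusEquiv]).toZModLinearMap 2
  have hL : ∀ y, L y = plusEquiv (τ (plusEquiv.symm y)) := fun _ => rfl
  have hM : ∀ y, M y = plusEquiv (τ.symm (plusEquiv.symm y)) := fun _ => rfl
  let t : CfsgLib.Orth.O (CfsgLib.Orth.plusQ 4 (ZMod 2)) := CfsgLib.Orth.mkO L M
    (LinearMap.ext fun y => by
      rw [LinearMap.comp_apply, hM, hL, LinearEquiv.symm_apply_apply, AddEquiv.apply_symm_apply,
        LinearEquiv.apply_symm_apply]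
      rfl)
    (LinearMap.ext fun y => by
      rw [LinearMap.comp_apply, hL, hM, LinearEquiv.symm_apply_apply, AddEquiv.symm_apply_apply,
        LinearEquiv.apply_symm_apply]
      rfl)
    (fun y => by
      rw [hL, plusEquiv_q]
      show qV 0 (σ (plusEquiv.symm y)) = _
      rw [hq, ← plusEquiv_q, LinearEquiv.apply_symm_apply])
  have ht : ∀ v, CfsgLib.Orth.app t (plusEquiv v) = plusEquiv (σ v) := fun v => by
    rw [CfsgLib.Orth.app_mkO, hL, LinearEquiv.symm_apply_apply]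
    rfl
  have hmem : t * K.toO H plusEquiv plusEquiv_q ⟨c, mem_centralizer_singleton_iff.2 hc⟩ * t⁻¹ ∈
      (K'.toO H' plusEquiv plusEquiv_q).range := by
    rw [← range_eq K H K' H']
    haveI := Subgroup.normal_of_index_eq_two (K.index_image H)
    exact Subgroup.Normal.conj_mem inferInstance _ (MonoidHom.mem_range.2 ⟨_, rfl⟩) t
  obtain ⟨c', hc'⟩ := hmem
  refine ⟨c', Hyp.comm, fun v => plusEquiv.injective ?_⟩
  rw [← K'.app_toO H' plusEquiv plusEquiv_q, hc', CfsgLib.Orth.app_mul, CfsgLib.Orth.app_mul, ← ht,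
    CfsgLib.Orth.app_inv_app, K.app_toO H, ht]

/-- An automorphism of `Q` induced by the centralizer is carried to one induced by the other centralizer. -/
theorem exists_match (H : Hyp z Q) (H' : Hyp z' Q') (ψ : ↥Q ≃* ↥Q') {c : G} (hc : c * z = z * c) :
    ∃ c' : G', c' * z' = z' * c' ∧
      ∀ x : ↥Q, (ψ ⟨c * x * c⁻¹, H.norm c hc x x.2⟩ : G') = c' * (ψ x : G') * c'⁻¹ := by
  classical
  obtain ⟨K⟩ := H.exists_plus
  obtain ⟨K'⟩ := H'.exists_plus
  have hψz : ∀ x : ↥Q, ((ψ x : G') = 1 ∨ (ψ x : G') = z') ↔ ((x : G) = 1 ∨ (x : G) = z) := by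
    intro x
    constructor
    · intro h
      refine H.extra.central_cases x.2 fun q hq => ?_
      have h1 : ψ ⟨q, hq⟩ * ψ x = ψ x * ψ ⟨q, hq⟩ := Subtype.ext (by
        show (ψ ⟨q, hq⟩ : G') * ψ x = ψ x * ψ ⟨q, hq⟩
        rcases h with h | h <;> rw [h]
        · simp
        · exact H'.extra.comm_z (ψ _).2)
      rw [← map_mul, ← map_mul] at h1
      exact congrArg Subtype.val (ψ.injective h1)
    · intro h
      refine H'.extra.central_cases (ψ x).2 fun q hq => ?_
      obtain ⟨y, hy⟩ := ψ.surjective ⟨q, hq⟩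
      have h1 : y * x = x * y := Subtype.ext (by
        show (y : G) * x = x * y
        rcases h with h | h <;> rw [h]
        · simp
        · exact H.extra.comm_z y.2)
      have h2 := congrArg (fun w => (ψ w : G')) h1
      simp only [map_mul, hy, Subgroup.coe_mul] at h2
      exact h2
  let σ : V → V := fun v => K'.vec (ψ ⟨K.lift v, K.lift_mem v⟩ : G')
  have hσ : ∀ x : ↥Q, K'.vec (ψ x : G') = σ (K.vec x) := by
    intro x
    let y : ↥Q := ⟨K.lift (K.vec x), K.lift_mem _⟩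
    have h0 : K.vec ((x * y⁻¹ : ↥Q) : G) = 0 := by
      rw [Subgroup.coe_mul, K.mul x.2 (y⁻¹).2, Subgroup.coe_inv, K.vec_inv y.2, K.vec_lift, addV]
    have h1 := (K'.zero_iff (ψ (x * y⁻¹)).2).2 ((hψz _).2 ((K.zero_iff (x * y⁻¹).2).1 h0))
    rw [map_mul, map_inv, Subgroup.coe_mul, Subgroup.coe_inv, K'.mul (ψ x).2 (inv_mem (ψ y).2),
      K'.vec_inv (ψ y).2] at h1
    exact eqV h1
  have hadd : ∀ a b, σ (a + b) = σ a + σ b := by
    intro a b
    have h := hσ (⟨K.lift a, K.lift_mem a⟩ * ⟨K.lift b, K.lift_mem b⟩)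
    rw [map_mul, Subgroup.coe_mul, Subgroup.coe_mul, K'.mul (ψ _).2 (ψ _).2,
      K.mul (K.lift_mem a) (K.lift_mem b), K.vec_lift, K.vec_lift] at h
    exact h.symm
  have hinj : Function.Injective σ := by
    intro a b h
    have h0 : σ (a + b) = 0 := by rw [hadd, h, addV]
    have h1 := (K.zero_iff (K.lift_mem (a + b))).2
      ((hψz ⟨_, K.lift_mem (a + b)⟩).1 ((K'.zero_iff (ψ _).2).1 h0))
    rw [K.vec_lift] at h1
    exact eqV h1
  have hq : ∀ v, qV 0 (σ v) = qV 0 v := by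
    intro v
    have h1 := K'.invol_iff H'.extra.ne_one (ψ ⟨K.lift v, K.lift_mem v⟩).2
    have h2 := K.invol_iff H.extra.ne_one (K.lift_mem v)
    rw [K.vec_lift] at h2
    have h3 : (ψ ⟨K.lift v, K.lift_mem v⟩ : G') * ψ ⟨K.lift v, K.lift_mem v⟩ = 1 ↔
        K.lift v * K.lift v = 1 := by
      rw [← Subgroup.coe_mul, ← map_mul, OneMemClass.coe_eq_one, MulEquiv.map_eq_one_iff,
        ← OneMemClass.coe_eq_one]
      rfl
    have h4 : qV 0 (σ v) = 0 ↔ qV 0 v = 0 := h1.symm.trans (h3.trans h2)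
    rcases zcases (qV 0 (σ v)) with a | a <;> rcases zcases (qV 0 v) with b | b <;> simp_all
  obtain ⟨d, hd, hact⟩ := exists_act K H K' H' σ hadd hinj hq hc
  -- correct by an inner automorphism
  let cj : ↥Q ≃* ↥Q :=
    { toFun := fun x => ⟨c * x * c⁻¹, H.norm c hc x x.2⟩
      invFun := fun x => ⟨c⁻¹ * x * c, by
        simpa using H.norm c⁻¹ ((Commute.inv_left hc).eq) x x.2⟩
      left_inv := fun x => Subtype.ext (show c⁻¹ * (c * x * c⁻¹) * c = x by group)
      right_inv := fun x => Subtype.ext (show c * (c⁻¹ * x * c) * c⁻¹ = x by group)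
      map_mul' := fun x y => Subtype.ext
        (show c * (x * y) * c⁻¹ = c * x * c⁻¹ * (c * y * c⁻¹) by group) }
  let dj : ↥Q' ≃* ↥Q' :=
    { toFun := fun y => ⟨d⁻¹ * y * d, by simpa using H'.norm d⁻¹ ((Commute.inv_left hd).eq) y y.2⟩
      invFun := fun y => ⟨d * y * d⁻¹, H'.norm d hd y y.2⟩
      left_inv := fun y => Subtype.ext (show d * (d⁻¹ * y * d) * d⁻¹ = y by group)
      right_inv := fun y => Subtype.ext (show d⁻¹ * (d * y * d⁻¹) * d = y by group)
      map_mul' := fun x y => Subtype.ext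
        (show d⁻¹ * (x * y) * d = d⁻¹ * x * d * (d⁻¹ * y * d) by group) }
  let α : ↥Q ≃* ↥Q := cj.trans (ψ.trans (dj.trans ψ.symm))
  have hα : ∀ x : ↥Q, α x * x⁻¹ ∈ Subgroup.center ↥Q := by
    intro x
    have h1 : K'.vec ((d⁻¹ * (ψ (cj x) : G') * d)) = K'.vec (ψ x : G') := by
      have h2 : K'.vec (ψ (cj x) : G') = K'.act d (K'.vec (ψ x : G')) := by
        rw [hσ, hσ x, hact, K.act_vec H hc x.2]
        rfl
      rw [K'.act_vec H' hd (ψ x).2] at h2
      have h3 := K'.act_vec H' ((Commute.inv_left hd).eq) (H'.norm d hd _ (ψ x).2)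
      have h4 := K'.act_vec H' ((Commute.inv_left hd).eq) (ψ (cj x)).2
      rw [h2, h3] at h4
      rw [inv_inv] at h4
      rw [← h4]
      congr 1
      group
    have h5 : ((α x * x⁻¹ : ↥Q) : G) = 1 ∨ ((α x * x⁻¹ : ↥Q) : G) = z := by
      refine (hψz _).1 ((K'.zero_iff (ψ _).2).1 ?_)
      rw [map_mul, map_inv, Subgroup.coe_mul, Subgroup.coe_inv, K'.mul (ψ _).2 (inv_mem (ψ x).2),
        K'.vec_inv (ψ x).2]
      have h6 : (ψ (α x) : G') = d⁻¹ * (ψ (cj x) : G') * d := by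
        simp [α, dj, MulEquiv.trans_apply]
      rw [h6, h1, addV]
    refine Subgroup.mem_center_iff.2 fun q => Subtype.ext ?_
    show (q : G) * ((α x * x⁻¹ : ↥Q) : G) = ((α x * x⁻¹ : ↥Q) : G) * q
    rcases h5 with h | h <;> rw [h]
    · simp
    · exact H.extra.comm_z q.2
  obtain ⟨g, hg⟩ := Cfsg.Agent.S5395.result H.extra.extra α hα
  refine ⟨d * (ψ g : G'), ?_, fun x => ?_⟩
  · show Commute _ _
    exact Commute.mul_left hd (H'.extra.comm_z (ψ g).2)
  · have h1 := congrArg (fun w => (ψ w : G')) (hg x)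
    simp only [α, MulEquiv.trans_apply, MulEquiv.apply_symm_apply, map_mul, map_inv, Subgroup.coe_mul,
      Subgroup.coe_inv] at h1
    have h2 : d⁻¹ * (ψ (cj x) : G') * d = (ψ g : G') * ψ x * (ψ g : G')⁻¹ := h1
    show (ψ (cj x) : G') = _
    calc (ψ (cj x) : G') = d * (d⁻¹ * (ψ (cj x) : G') * d) * d⁻¹ := by group
      _ = d * (ψ g : G') * ψ x * (d * (ψ g : G'))⁻¹ := by rw [h2]; group

end CfsgLib.CoOneUnique
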