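import Cfsg.Agent.Lib.CoOneUnique.CoverData

/-!
# The covering certificate on crosses: the covering condition at the base edge, checked
-/

set_option autoImplicit false
set_option maxRecDepth 100000
set_option Elab.async false

namespace CfsgLib.CoOneUnique.CoverData

open CfsgLib.CoOneUnique

theorem goodOK : model.goodOK edgeData = true := by decide +kernel

theorem pairsOK : edgeData.pairsOK = true := by decide +kernel

theorem edgeOK : model.edgeOK edgeData 0 2048 = true := by decide +kernel

end CfsgLib.CoOneUnique.CoverData
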