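import Cfsg.Agent.Lib.CoOneUnique.CoverData

/-!
# The covering certificate on crosses: the matrices of the letters, checked
-/

set_option autoImplicit false
set_option maxRecDepth 100000
set_option Elab.async false

namespace CfsgLib.CoOneUnique.CoverData

open CfsgLib.CoOneUnique

theorem matOK_0 : model.matOK 0 = true := by decide +kernel

theorem matOK_1 : model.matOK 1 = true := by decide +kernel

theorem matOK_2 : model.matOK 2 = true := by decide +kernel

theorem matOK_3 : model.matOK 3 = true := by decide +kernel

theorem matOK_4 : model.matOK 4 = true := by decide +kernel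

theorem matOK_5 : model.matOK 5 = true := by decide +kernel

theorem matOK_6 : model.matOK 6 = true := by decide +kernel

theorem matOK_7 : model.matOK 7 = true := by decide +kernel

theorem matOK_8 : model.matOK 8 = true := by decide +kernel

theorem matOK_9 : model.matOK 9 = true := by decide +kernel

theorem matOK_10 : model.matOK 10 = true := by decide +kernel

theorem matOK_11 : model.matOK 11 = true := by decide +kernel

theorem matOK_12 : model.matOK 12 = true := by decide +kernel

theorem matOK_13 : model.matOK 13 = true := by decide +kernel

theorem matOK_14 : model.matOK 14 = true := by decide +kernel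

theorem matOK_15 : model.matOK 15 = true := by decide +kernel

/-- The matrices. -/
theorem matOK : ∀ j < 16, model.matOK j = true
  | 0, _ => matOK_0
  | 1, _ => matOK_1
  | 2, _ => matOK_2
  | 3, _ => matOK_3
  | 4, _ => matOK_4
  | 5, _ => matOK_5
  | 6, _ => matOK_6
  | 7, _ => matOK_7
  | 8, _ => matOK_8
  | 9, _ => matOK_9
  | 10, _ => matOK_10
  | 11, _ => matOK_11
  | 12, _ => matOK_12
  | 13, _ => matOK_13
  | 14, _ => matOK_14
  | 15, _ => matOK_15
  | n + 16, h => absurd h (Nat.not_lt.mpr (Nat.le_add_left 16 n))


end CfsgLib.CoOneUnique.CoverData
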