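import Cfsg.Agent.Lib.CoOneUnique.CoverData
import Cfsg.Agent.Lib.CoOneUnique.CoverDataNb

/-!
# The covering certificate on crosses: the neighbours of the base cross, checked
-/

set_option autoImplicit false
set_option maxRecDepth 100000
set_option Elab.async false

namespace CfsgLib.CoOneUnique.CoverData

open CfsgLib.CoOneUnique

theorem nbTreeOK : model.nbTreeOK nbData = true := by decide +kernel

theorem nbClosedOK_0 : model.nbClosedOK nbData 0 = true := by decide +kernel

theorem nbClosedOK_1 : model.nbClosedOK nbData 1 = true := by decide +kernel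

theorem nbClosedOK_2 : model.nbClosedOK nbData 2 = true := by decide +kernel

theorem nbClosedOK_3 : model.nbClosedOK nbData 3 = true := by decide +kernel

theorem nbClosedOK_4 : model.nbClosedOK nbData 4 = true := by decide +kernel

theorem nbClosedOK_5 : model.nbClosedOK nbData 5 = true := by decide +kernel

theorem nbClosedOK_6 : model.nbClosedOK nbData 6 = true := by decide +kernel

theorem nbClosedOK_7 : model.nbClosedOK nbData 7 = true := by decide +kernel

theorem nbClosedOK_8 : model.nbClosedOK nbData 8 = true := by decide +kernel

theorem nbClosedOK_9 : model.nbClosedOK nbData 9 = true := by decide +kernel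

theorem nbClosedOK_10 : model.nbClosedOK nbData 10 = true := by decide +kernel

theorem nbClosedOK_11 : model.nbClosedOK nbData 11 = true := by decide +kernel

theorem nbClosedOK_12 : model.nbClosedOK nbData 12 = true := by decide +kernel

theorem nbClosedOK_13 : model.nbClosedOK nbData 13 = true := by decide +kernel

theorem nbClosedOK_14 : model.nbClosedOK nbData 14 = true := by decide +kernel

/-- Closure. -/
theorem nbClosedOK : ∀ j < 15, model.nbClosedOK nbData j = true
  | 0, _ => nbClosedOK_0
  | 1, _ => nbClosedOK_1
  | 2, _ => nbClosedOK_2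
  | 3, _ => nbClosedOK_3
  | 4, _ => nbClosedOK_4
  | 5, _ => nbClosedOK_5
  | 6, _ => nbClosedOK_6
  | 7, _ => nbClosedOK_7
  | 8, _ => nbClosedOK_8
  | 9, _ => nbClosedOK_9
  | 10, _ => nbClosedOK_10
  | 11, _ => nbClosedOK_11
  | 12, _ => nbClosedOK_12
  | 13, _ => nbClosedOK_13
  | 14, _ => nbClosedOK_14
  | n + 15, h => absurd h (Nat.not_lt.mpr (Nat.le_add_left 15 n))


end CfsgLib.CoOneUnique.CoverData
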