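import Cfsg.Agent.Lib.CoOneUnique.CoverData
import Cfsg.Agent.Lib.CoOneUnique.CoverDataNb
import Cfsg.Agent.Lib.CoOneUnique.CoverDataReps

/-!
# The covering certificate on crosses: representative 2, checked
-/

set_option autoImplicit false
set_option maxRecDepth 100000
set_option Elab.async false

namespace CfsgLib.CoOneUnique.CoverData

open CfsgLib.CoOneUnique

theorem repOK_2 : model.repOK rep2 = true := by decide +kernel

theorem seedsOK_2 : model.seedsOK nbData reps rep2 = true := by decide +kernel

theorem posOK_2 : rep2.posOK = true := by decide +kernel

theorem forestOK_2 : Model.forestOK nbData rep2 0 3542 = true := by decide +kernel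

end CfsgLib.CoOneUnique.CoverData
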