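import Cfsg.Agent.Lib.CoOneUnique.CoverFactsRep0
import Cfsg.Agent.Lib.CoOneUnique.CoverFactsRep1
import Cfsg.Agent.Lib.CoOneUnique.CoverFactsRep2
import Cfsg.Agent.Lib.CoOneUnique.CoverFactsRep3
import Cfsg.Agent.Lib.CoOneUnique.CoverFactsRep4
import Cfsg.Agent.Lib.CoOneUnique.CoverFactsRep5

/-!
# The covering certificate on crosses: all representatives, checked
-/

set_option autoImplicit false
set_option maxRecDepth 100000
set_option Elab.async false

namespace CfsgLib.CoOneUnique.CoverData

open CfsgLib.CoOneUnique

/-- For every representative. -/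
theorem repOK : ∀ R ∈ reps, model.repOK R = true := by
  intro R hR
  simp only [reps, List.mem_cons, List.not_mem_nil, or_false] at hR
  rcases hR with rfl | rfl | rfl | rfl | rfl | rfl
  exacts [repOK_0, repOK_1, repOK_2, repOK_3, repOK_4, repOK_5]

/-- For every representative. -/
theorem seedsOK : ∀ R ∈ reps, model.seedsOK nbData reps R = true := by
  intro R hR
  simp only [reps, List.mem_cons, List.not_mem_nil, or_false] at hR
  rcases hR with rfl | rfl | rfl | rfl | rfl | rfl
  exacts [seedsOK_0, seedsOK_1, seedsOK_2, seedsOK_3, seedsOK_4, seedsOK_5]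

/-- For every representative. -/
theorem posOK : ∀ R ∈ reps, R.posOK = true := by
  intro R hR
  simp only [reps, List.mem_cons, List.not_mem_nil, or_false] at hR
  rcases hR with rfl | rfl | rfl | rfl | rfl | rfl
  exacts [posOK_0, posOK_1, posOK_2, posOK_3, posOK_4, posOK_5]

/-- For every representative. -/
theorem forestOK : ∀ R ∈ reps, Model.forestOK nbData R 0 3542 = true := by
  intro R hR
  simp only [reps, List.mem_cons, List.not_mem_nil, or_false] at hR
  rcases hR with rfl | rfl | rfl | rfl | rfl | rfl
  exacts [forestOK_0, forestOK_1, forestOK_2, forestOK_3, forestOK_4, forestOK_5]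

theorem reps_head : reps.getD 0 rep0 = rep0 ∧ rep0.word = [] ∧ rep0.v = model.x0 := ⟨rfl, rfl, rfl⟩

end CfsgLib.CoOneUnique.CoverData
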