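import Cfsg.Agent.Lib.CoOneUnique.CoverCheck

/-!
# The covering certificate on crosses: the residue of the central involution

Found by a search over the 8292375 crosses; checked in the CoverFacts files.
-/

set_option autoImplicit false
set_option maxRecDepth 200000
set_option maxHeartbeats 1000000

namespace CfsgLib.CoOneUnique.CoverData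

open CfsgLib.CoOneUnique

/-- The 256 classes of the fixed lattice of the base point. -/
def resData : ResData where
  off := [[0, 0, 2, 2, 0, 0, 0, 0, 0, 0, 0, 0, 0, 0, 0, 2, 0, 2, 0, 2, 2, 2, 0, 2],
    [2, 0, 0, 0, 2, 2, 0, 0, 0, 0, 0, 0, 0, 0, 0, 0, 0, 2, 0, 2, 0, 2, 2, 2],
    [2, 0, 2, 2, 2, 2, 0, 0, 0, 0, 0, 0, 0, 0, 0, 2, 0, 0, 0, 0, 2, 0, 2, 0],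
    [2, 0, 0, 0, 2, 0, 2, 0, 0, 0, 0, 0, 0, 2, 0, 2, 0, 0, 0, 0, 2, 2, 0, 2],
    [2, 0, 2, 2, 2, 0, 2, 0, 0, 0, 0, 0, 0, 2, 0, 0, 0, 2, 0, 2, 0, 0, 0, 0],
    [0, 0, 0, 0, 0, 2, 2, 0, 0, 0, 0, 0, 0, 2, 0, 2, 0, 2, 0, 2, 2, 0, 2, 0],
    [0, 0, 2, 0, 2, 0, 0, 0, 2, 0, 0, 0, 0, 2, 0, 0, 0, 2, 0, 0, 2, 2, 2, 0],
    [0, 0, 0, 2, 2, 0, 0, 0, 2, 0, 0, 0, 0, 2, 0, 2, 0, 0, 0, 2, 0, 0, 2, 2],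
    [2, 0, 2, 0, 0, 2, 0, 0, 2, 0, 0, 0, 0, 2, 0, 0, 0, 0, 0, 2, 2, 0, 0, 2],
    [2, 0, 2, 0, 0, 0, 2, 0, 2, 0, 0, 0, 0, 0, 0, 2, 0, 2, 0, 0, 0, 0, 2, 2],
    [2, 0, 2, 0, 0, 0, 0, 0, 0, 2, 0, 0, 0, 2, 0, 2, 0, 0, 0, 2, 0, 2, 2, 0],
    [4, 0, -4, 0, 0, 0, 0, 0, 0, 0, 0, 0, 0, 0, 0, 0, 0, 0, 0, 0, 0, 0, 0, 0],
    [4, 0, 4, 0, 0, 0, 0, 0, 0, 0, 0, 0, 0, 0, 0, 0, 0, 0, 0, 0, 0, 0, 0, 0],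
    [4, 0, 0, -4, 0, 0, 0, 0, 0, 0, 0, 0, 0, 0, 0, 0, 0, 0, 0, 0, 0, 0, 0, 0],
    [4, 0, 0, 0, 0, -4, 0, 0, 0, 0, 0, 0, 0, 0, 0, 0, 0, 0, 0, 0, 0, 0, 0, 0],
    [4, 0, 0, 0, 0, 0, -4, 0, 0, 0, 0, 0, 0, 0, 0, 0, 0, 0, 0, 0, 0, 0, 0, 0]]
  syn := [51147, 31699, 16190, 39760, 65502, 40346, 1259, 41692, 24534, 58292, 18189, 4096, 1822, 0, 1877, 149,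
    222, 294, 568, 0, 960, 1024, 0, 0]
  base8 := [8192, 118784, 446549, 524288, 1048661, 2146389, 4194304, 8388608]
  coord := [0, 0, 0, 0, 0, 0, 0, 0, 0, 0, 0, 0, 0, 1, 0, 0, 2, 0, 4, 8, 16, 32, 64, 128]
  back := [151905, 935, 17174, 165741, 132657, 1107, 34219, 37958, 148706, 152922, 49237, 184183, 2048, 185120,
    16631, 21853]
  cases := [.inr [0, 0, 0, 0, 0, 0, 0, 0, 0, 0, 0, 0, 0, 0, 0, 0, 0, 0, 0, 0, 0, 0, 0, 0],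
    .inr [0, -4, 0, 0, 0, 0, 0, 0, 0, 0, 0, 4, 0, 0, 0, 0, 0, 0, 0, 0, 0, 0, 0, 0],
    .inl [[3, 1, 0, 1, 0, 0, 0, 2, 0, 0, 2, 2]],
    .inl [[3, 0, 2, 0, 2, 2, 1, 0, 2, 1, 0]],
    .inr [0, -2, 0, 0, 0, 0, 0, 2, 0, 0, -2, -2, 2, 0, 2, 0, -2, 0, 2, 0, 0, 0, 0, 0],
    .inl [[3, 2, 0, 2, 2, 0, 0, 2, 2, 0, 0, 2], [0, 2, 2, 2, 0, 0, 2, 2, 0, 1, 0]],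
    .inr [0, 2, 0, 0, 0, 0, 0, -2, 0, 0, 2, -2, -2, 0, 2, 0, -2, 0, 2, 0, 0, 0, 0, 0],
    .inr [0, -2, 0, 0, 0, 0, 0, -2, 0, 0, 2, 2, -2, 0, 2, 0, -2, 0, 2, 0, 0, 0, 0, 0],
    .inr [0, 0, 0, 0, 0, 0, 0, -4, 0, 0, 0, 4, 0, 0, 0, 0, 0, 0, 0, 0, 0, 0, 0, 0],
    .inr [0, -4, 0, 0, 0, 0, 0, 4, 0, 0, 0, 0, 0, 0, 0, 0, 0, 0, 0, 0, 0, 0, 0, 0],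
    .inl [[3, 2, 0, 2, 2, 0, 0, 2, 2, 0, 1, 0, 2]],
    .inr [0, 0, 0, 0, 0, 0, 0, 0, 0, 0, -4, 0, 4, 0, 0, 0, 0, 0, 0, 0, 0, 0, 0, 0],
    .inr [0, -2, 0, 0, 0, 0, 0, -2, 0, 0, -2, 2, 2, 0, 2, 0, -2, 0, 2, 0, 0, 0, 0, 0],
    .inr [0, 2, 0, 0, 0, 0, 0, -2, 0, 0, -2, -2, 2, 0, 2, 0, -2, 0, 2, 0, 0, 0, 0, 0],
    .inl [[3, 2, 0, 2, 2, 0, 0, 2, 2, 0, 0, 2], [5, 0, 1, 0, 2, 2, 2, 1, 0, 1]],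
    .inr [0, -2, 0, 0, 0, 0, 0, 2, 0, 0, 2, -2, -2, 0, 2, 0, -2, 0, 2, 0, 0, 0, 0, 0],
    .inl [[3, 2, 0, 2, 2, 0, 0, 2, 2, 0, 0, 2], [4, 0, 2, 2, 2, 0, 0, 2, 2, 0, 1, 0]],
    .inr [0, -2, 0, 0, 0, 0, 0, 2, 0, 0, 2, -2, -2, 0, -2, 0, 2, 0, 2, 0, 0, 0, 0, 0],
    .inr [0, -2, 0, 0, 0, 0, 0, -2, 0, 0, -2, 2, 2, 0, -2, 0, 2, 0, 2, 0, 0, 0, 0, 0],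
    .inr [0, 2, 0, 0, 0, 0, 0, -2, 0, 0, -2, -2, 2, 0, -2, 0, 2, 0, 2, 0, 0, 0, 0, 0],
    .inr [0, 0, 0, 0, 0, 0, 0, -4, 0, 0, 0, 0, 0, 0, 0, 0, 0, 0, 4, 0, 0, 0, 0, 0],
    .inl [[3, 2, 0, 2, 2, 0, 0, 2, 2, 0, 0, 2]],
    .inl [[7, 0, 1, 0, 2, 2, 1, 0, 1]],
    .inl [[4, 0, 2, 0, 2, 0, 2, 2, 0, 1, 0, 2]],
    .inr [0, 2, 0, 0, 0, 0, 0, -2, 0, 0, 2, -2, -2, 0, -2, 0, 2, 0, 2, 0, 0, 0, 0, 0],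
    .inr [0, -2, 0, 0, 0, 0, 0, -2, 0, 0, 2, 2, -2, 0, -2, 0, 2, 0, 2, 0, 0, 0, 0, 0],
    .inr [0, -2, 0, 0, 0, 0, 0, 2, 0, 0, -2, -2, 2, 0, -2, 0, 2, 0, 2, 0, 0, 0, 0, 0],
    .inl [[3, 2, 0, 2, 2, 0, 0, 2, 2, 0, 0, 2], [0, 1, 0, 2, 2, 2, 1, 0, 1]],
    .inr [0, 0, 0, 0, 0, 0, 0, 0, 0, 0, 0, -4, 0, 0, 0, 0, 0, 0, 4, 0, 0, 0, 0, 0],
    .inr [0, -4, 0, 0, 0, 0, 0, 0, 0, 0, 0, 0, 0, 0, 0, 0, 0, 0, 4, 0, 0, 0, 0, 0],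
    .inr [0, 0, 0, 0, 0, 0, 0, 0, 0, 0, 0, 0, 0, 0, -4, 0, 4, 0, 0, 0, 0, 0, 0, 0],
    .inl [[4, 1, 0, 1, 0, 0, 2, 0, 1, 0, 0, 2, 1]],
    .inr [0, 2, 0, 0, 0, 0, 0, -2, 0, 0, 2, -2, 2, 0, -2, 0, -2, 0, 2, 0, 0, 0, 0, 0],
    .inr [0, -2, 0, 0, 0, 0, 0, -2, 0, 0, 2, 2, 2, 0, -2, 0, -2, 0, 2, 0, 0, 0, 0, 0],
    .inl [[3, 2, 0, 2, 2, 0, 0, 2, 2, 0, 1, 0, 2], [0, 2, 0, 0, 0, 0, 0, 2, 1, 0, 1, 0]],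
    .inr [0, 2, 0, 0, 0, 0, 0, 2, 0, 0, -2, 2, -2, 0, -2, 0, -2, 0, 2, 0, 0, 0, 0, 0],
    .inl [[3, 2, 1, 0, 0, 0, 0, 0, 2, 2, 0, 1]],
    .inl [[3]],
    .inr [0, 0, 0, 0, 0, 0, 0, 0, 0, 0, 0, 0, -4, 0, 4, 0, 0, 0, 0, 0, 0, 0, 0, 0],
    .inl [[4, 2, 0, 0, 2, 1, 0, 2, 2, 1, 0, 0]],
    .inl [[3, 1, 0, 1, 0, 0, 0, 2, 0, 0, 2, 2], [5, 0, 2, 0, 2, 0, 0, 2, 1]],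
    .inr [0, -2, 0, 0, 0, 0, 0, 2, 0, 0, 2, -2, 2, 0, -2, 0, -2, 0, 2, 0, 0, 0, 0, 0],
    .inl [[3, 1, 0, 1, 0, 0, 0, 2, 0, 0, 2, 2], [0, 2, 0, 2, 0, 0, 2, 1]],
    .inl [[3, 0, 2, 0, 2, 2, 1, 0, 2, 1, 0], [2, 1, 0, 0, 0, 0, 0, 2, 2, 0, 1]],
    .inl [[3, 0, 2, 0, 0, 0, 0, 0, 2, 1, 0, 1, 0]],
    .inr [0, 0, 0, 0, 0, 0, 0, 0, 0, 0, -4, 0, 0, 0, 4, 0, 0, 0, 0, 0, 0, 0, 0, 0],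
    .inl [[5, 0, 2, 0, 2, 0, 0, 2, 1]],
    .inl [[4, 0, 0, 2, 2, 0, 2, 1, 0, 1, 0]],
    .inl [[5, 0, 2, 0, 2, 0, 1, 0, 0]],
    .inl [[4, 0, 2, 2, 2, 0, 0, 2, 2, 0, 1, 0]],
    .inl [[3, 2, 2, 2, 2, 1, 0, 1, 0, 0, 2]],
    .inr [0, 0, 0, 0, 0, 0, 0, 0, 0, 0, -4, 0, 0, 0, 0, 0, 4, 0, 0, 0, 0, 0, 0, 0],
    .inr [0, -2, 0, 0, 0, 0, 0, -2, 0, 0, -2, 2, -2, 0, 2, 0, 2, 0, 2, 0, 0, 0, 0, 0],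
    .inr [0, 2, 0, 0, 0, 0, 0, -2, 0, 0, -2, -2, -2, 0, 2, 0, 2, 0, 2, 0, 0, 0, 0, 0],
    .inr [0, 2, 0, 0, 0, 0, 0, 2, 0, 0, 2, 2, 2, 0, 2, 0, 2, 0, 2, 0, 0, 0, 0, 0],
    .inl [[3, 2, 0, 2, 2, 0, 0, 2, 2, 0, 1, 0, 2], [3, 0, 2, 0, 2, 2, 0]],
    .inr [0, 0, 0, 0, 0, 0, 0, 0, 0, 0, 0, 0, -4, 0, 0, 0, 4, 0, 0, 0, 0, 0, 0, 0],
    .inl [[4, 1, 0, 1, 0, 0, 2, 1, 0]],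
    .inl [[3, 2, 0, 2, 2, 0, 0, 1, 0, 0]],
    .inl [[3, 0, 2, 0, 2, 2, 0]],
    .inr [0, -2, 0, 0, 0, 0, 0, 2, 0, 0, -2, -2, -2, 0, 2, 0, 2, 0, 2, 0, 0, 0, 0, 0],
    .inl [[3, 1, 0, 1, 0, 0, 0, 2, 0, 0, 2, 2], [0, 2, 0, 2, 0, 2, 2, 0, 0, 2]],
    .inl [[3, 0, 2, 0, 2, 2, 1, 0, 2, 1, 0], [4, 1, 0, 1, 0, 0, 2, 0, 2, 1, 0]],
    .inl [[3, 1, 0, 1, 0, 0, 0, 2, 0, 0, 2, 2], [7, 0, 2, 0, 2, 0, 2, 2, 0, 0, 2]],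
    .inr [0, 0, 0, 0, 0, 0, 0, 0, 0, 0, -4, 4, 0, 0, 0, 0, 0, 0, 0, 0, 0, 0, 0, 0],
    .inr [0, -4, 0, 0, 0, 0, 0, 0, 0, 0, 4, 0, 0, 0, 0, 0, 0, 0, 0, 0, 0, 0, 0, 0],
    .inl [[3, 2, 2, 0, 2, 2, 2, 1, 0, 0, 2, 0]],
    .inr [0, 0, 0, 0, 0, 0, 0, -4, 0, 0, 0, 0, 4, 0, 0, 0, 0, 0, 0, 0, 0, 0, 0, 0],
    .inl [[3, 0, 2, 0, 2, 2, 1, 0, 2, 1, 0], [2, 0, 2, 0, 1, 0, 0, 2, 0, 1]],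
    .inl [[3, 1, 0, 1, 0, 0, 0, 2, 0, 0, 2, 2], [1, 0, 1, 0, 0, 2, 0, 2, 1, 0]],
    .inr [0, 2, 0, 0, 0, 0, 0, -2, 0, 0, -2, 2, -2, 0, 2, 0, -2, 0, 2, 0, 0, 0, 0, 0],
    .inl [[3, 1, 0, 1, 0, 0, 0, 2, 0, 0, 2, 2], [4, 1, 0, 1, 0, 0, 2, 0, 2, 1, 0]],
    .inr [0, 0, 0, 0, 0, 0, 0, -4, 0, 0, 4, 0, 0, 0, 0, 0, 0, 0, 0, 0, 0, 0, 0, 0],
    .inl [[4, 0, 2, 0, 2, 2, 1, 0, 2, 0, 2, 1, 0]],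
    .inr [0, -4, 0, 0, 0, 0, 0, 0, 0, 0, 0, 0, 4, 0, 0, 0, 0, 0, 0, 0, 0, 0, 0, 0],
    .inr [0, 0, 0, 0, 0, 0, 0, 0, 0, 0, 0, -4, 4, 0, 0, 0, 0, 0, 0, 0, 0, 0, 0, 0],
    .inr [0, -2, 0, 0, 0, 0, 0, -2, 0, 0, 2, -2, 2, 0, 2, 0, -2, 0, 2, 0, 0, 0, 0, 0],
    .inl [[3, 2, 0, 2, 2, 0, 0, 2, 2, 0, 1, 0, 2], [0, 1, 0, 2, 2, 2, 1, 0, 1]],
    .inr [0, 2, 0, 0, 0, 0, 0, 2, 0, 0, -2, -2, -2, 0, 2, 0, -2, 0, 2, 0, 0, 0, 0, 0],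
    .inr [0, -2, 0, 0, 0, 0, 0, 2, 0, 0, -2, 2, -2, 0, 2, 0, -2, 0, 2, 0, 0, 0, 0, 0],
    .inr [0, 2, 0, 0, 0, 0, 0, 2, 0, 0, -2, -2, -2, 0, -2, 0, 2, 0, 2, 0, 0, 0, 0, 0],
    .inr [0, -2, 0, 0, 0, 0, 0, 2, 0, 0, -2, 2, -2, 0, -2, 0, 2, 0, 2, 0, 0, 0, 0, 0],
    .inr [0, -2, 0, 0, 0, 0, 0, -2, 0, 0, 2, -2, 2, 0, -2, 0, 2, 0, 2, 0, 0, 0, 0, 0],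
    .inl [[3, 2, 0, 2, 2, 0, 0, 2, 2, 0, 1, 0, 2], [0, 2, 2, 2, 0, 0, 2, 2, 0, 1, 0]],
    .inl [[3, 2, 1, 0, 0, 0, 0, 0, 2, 0, 1]],
    .inl [[3, 2, 2, 2, 2, 0, 2, 1, 0, 0, 0, 0]],
    .inl [[7, 1, 0, 0, 2, 0, 0, 0, 0, 2]],
    .inr [0, 0, 0, 0, 0, 0, 0, 0, 0, 0, 0, 0, -4, 0, 0, 0, 0, 0, 4, 0, 0, 0, 0, 0],
    .inr [0, 2, 0, 0, 0, 0, 0, -2, 0, 0, -2, 2, -2, 0, -2, 0, 2, 0, 2, 0, 0, 0, 0, 0],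
    .inl [[3, 1, 0, 1, 0, 0, 0, 2, 0, 0, 2, 2], [3, 0, 0, 2, 0, 2, 2, 2, 1]],
    .inl [[3, 0, 2, 0, 2, 2, 1, 0, 2, 1, 0], [1, 0, 0, 2, 0, 0, 0, 0, 2]],
    .inl [[3, 1, 0, 1, 0, 0, 0, 2, 0, 0, 2, 2], [0, 0, 2, 0, 2, 2, 2, 1]],
    .inr [0, 0, 0, 0, 0, 0, 0, 0, 0, 0, -4, 0, 0, 0, 0, 0, 0, 0, 4, 0, 0, 0, 0, 0],
    .inl [[3, 0, 2, 2, 0, 0, 2, 2, 2]],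
    .inl [[7, 0, 2, 0, 2, 0, 2, 2, 0, 0, 2]],
    .inl [[4, 0, 1, 0, 0, 2, 0, 2, 2, 1, 0, 2, 2, 0]],
    .inr [0, 2, 0, 0, 0, 0, 0, -2, 0, 0, -2, 2, 2, 0, -2, 0, -2, 0, 2, 0, 0, 0, 0, 0],
    .inl [[7, 0, 1, 0, 2, 2, 1, 0, 1], [4, 0, 2, 2, 2, 0, 0, 2, 2, 0, 1, 0]],
    .inr [0, -2, 0, 0, 0, 0, 0, 2, 0, 0, 2, 2, -2, 0, -2, 0, -2, 0, 2, 0, 0, 0, 0, 0],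
    .inr [0, 2, 0, 0, 0, 0, 0, 2, 0, 0, 2, -2, -2, 0, -2, 0, -2, 0, 2, 0, 0, 0, 0, 0],
    .inl [[3, 0, 0, 2, 0, 2, 2, 2, 1]],
    .inr [0, 0, 0, 0, 0, 0, 0, -4, 0, 0, 0, 0, 0, 0, 4, 0, 0, 0, 0, 0, 0, 0, 0, 0],
    .inl [[5, 0, 1, 0, 2, 2, 2, 1, 0, 1]],
    .inl [[4, 0, 0, 0, 2, 2, 1, 0, 2, 0, 2, 0, 0]],
    .inr [0, 2, 0, 0, 0, 0, 0, 2, 0, 0, -2, -2, 2, 0, -2, 0, -2, 0, 2, 0, 0, 0, 0, 0],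
    .inr [0, -2, 0, 0, 0, 0, 0, 2, 0, 0, -2, 2, 2, 0, -2, 0, -2, 0, 2, 0, 0, 0, 0, 0],
    .inl [[7, 0, 1, 0, 2, 2, 1, 0, 1], [0, 2, 0, 0, 0, 0, 0, 2, 1, 0, 1, 0]],
    .inr [0, 2, 0, 0, 0, 0, 0, -2, 0, 0, 2, 2, -2, 0, -2, 0, -2, 0, 2, 0, 0, 0, 0, 0],
    .inr [0, -4, 0, 0, 0, 0, 0, 0, 0, 0, 0, 0, 0, 0, 4, 0, 0, 0, 0, 0, 0, 0, 0, 0],
    .inr [0, 0, 0, 0, 0, 0, 0, 0, 0, 0, 0, -4, 0, 0, 4, 0, 0, 0, 0, 0, 0, 0, 0, 0],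
    .inl [[5, 2, 0, 2, 0, 1, 0, 0, 2, 0, 1]],
    .inr [0, 0, 0, 0, 0, 0, 0, 0, 0, 0, 0, 0, 0, 0, 0, 0, -4, 0, 4, 0, 0, 0, 0, 0],
    .inl [[5, 2, 0, 2, 2, 0, 2, 0]],
    .inr [0, 0, 0, 0, 0, 0, 0, 0, 0, 0, 0, 0, 0, 0, -4, 0, 0, 0, 4, 0, 0, 0, 0, 0],
    .inr [0, -4, 0, 0, 0, 0, 0, 0, 0, 0, 0, 0, 0, 0, 0, 0, 4, 0, 0, 0, 0, 0, 0, 0],
    .inr [0, 0, 0, 0, 0, 0, 0, 0, 0, 0, 0, -4, 0, 0, 0, 0, 4, 0, 0, 0, 0, 0, 0, 0],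
    .inr [0, -2, 0, 0, 0, 0, 0, -2, 0, 0, 2, -2, -2, 0, 2, 0, 2, 0, 2, 0, 0, 0, 0, 0],
    .inl [[3, 1, 0, 1, 0, 0, 0, 2, 0, 0, 2, 2], [1, 0, 0, 2, 0, 0, 0, 0, 2]],
    .inl [[3, 0, 2, 0, 2, 2, 1, 0, 2, 1, 0], [4, 0, 2, 2, 2, 0, 0, 2, 2, 0, 1, 0]],
    .inl [[3, 1, 0, 1, 0, 0, 0, 2, 0, 0, 2, 2], [7, 1, 0, 0, 2, 0, 0, 0, 0, 2]],
    .inl [[5, 0, 1, 0, 2, 1, 0, 1]],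
    .inl [[4, 1, 0, 1, 0, 0, 2, 0, 2, 1, 0]],
    .inl [[3, 2, 0, 1, 0, 0, 1, 0, 2, 2, 0]],
    .inr [0, 0, 0, 0, 0, 0, 0, -4, 0, 0, 0, 0, 0, 0, 0, 0, 4, 0, 0, 0, 0, 0, 0, 0],
    .inl [[3, 1, 0, 1, 0, 0, 0, 2, 0, 0, 2, 2], [0, 2, 0, 2, 2, 0]],
    .inl [[3, 0, 2, 0, 2, 2, 1, 0, 2, 1, 0], [2, 1, 0, 0, 0, 0, 0, 2, 0, 1]],
    .inl [[3, 1, 0, 1, 0, 0, 0, 2, 0, 0, 2, 2], [3, 0, 2, 0, 2, 2, 0]],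
    .inr [0, -2, 0, 0, 0, 0, 0, -2, 0, 0, -2, -2, 2, 0, 2, 0, 2, 0, 2, 0, 0, 0, 0, 0],
    .inl [],
    .inr [0, 4, 0, 0, 0, 0, 0, 0, 0, 0, 0, 4, 0, 0, 0, 0, 0, 0, 0, 0, 0, 0, 0, 0],
    .inl [[1, 0, 1, 0, 0, 0, 2, 0, 0, 2, 2]],
    .inl [[0, 2, 0, 2, 2, 1, 0, 2, 1, 0]],
    .inl [[3, 1, 0, 1, 0, 0, 0, 2, 0, 0, 2, 2], [4, 1, 0, 1, 0, 0, 2, 1, 0]],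
    .inr [0, 2, 0, 0, 0, 0, 0, 2, 0, 0, -2, 2, 2, 0, 2, 0, -2, 0, 2, 0, 0, 0, 0, 0],
    .inl [[3, 1, 0, 1, 0, 0, 0, 2, 0, 0, 2, 2], [1, 0, 1, 0, 0, 2, 1, 0]],
    .inl [[3, 0, 2, 0, 2, 2, 1, 0, 2, 1, 0], [0, 1, 0, 2, 2, 2, 1, 0, 1]],
    .inr [0, 0, 0, 0, 0, 0, 0, 4, 0, 0, 0, 4, 0, 0, 0, 0, 0, 0, 0, 0, 0, 0, 0, 0],
    .inr [0, 4, 0, 0, 0, 0, 0, 4, 0, 0, 0, 0, 0, 0, 0, 0, 0, 0, 0, 0, 0, 0, 0, 0],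
    .inl [[2, 0, 2, 2, 0, 0, 2, 2, 0, 1, 0, 2]],
    .inr [0, 0, 0, 0, 0, 0, 0, 0, 0, 0, 4, 0, 4, 0, 0, 0, 0, 0, 0, 0, 0, 0, 0, 0],
    .inl [[3, 0, 2, 0, 2, 2, 1, 0, 2, 1, 0], [3, 0, 2, 0, 2, 2, 1, 0, 2, 1, 0]],
    .inl [[3, 1, 0, 1, 0, 0, 0, 2, 0, 0, 2, 2], [3, 2, 1, 0, 0, 0, 0, 0, 2, 0, 1]],
    .inr [0, 2, 0, 0, 0, 0, 0, 2, 0, 0, 2, 2, -2, 0, 2, 0, -2, 0, 2, 0, 0, 0, 0, 0],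
    .inl [[3, 1, 0, 1, 0, 0, 0, 2, 0, 0, 2, 2], [2, 1, 0, 0, 0, 0, 0, 2, 0, 1]],
    .inr [0, 2, 0, 0, 0, 0, 0, 2, 0, 0, 2, 2, -2, 0, -2, 0, 2, 0, 2, 0, 0, 0, 0, 0],
    .inl [[3, 1, 0, 1, 0, 0, 0, 2, 0, 0, 2, 2], [0, 2, 0, 2, 2, 1, 0, 2, 0, 2, 1, 0]],
    .inl [[3, 0, 2, 0, 2, 2, 1, 0, 2, 1, 0], [3, 0, 2, 0, 2, 2, 0]],
    .inl [[3, 1, 0, 1, 0, 0, 0, 2, 0, 0, 2, 2], [4, 0, 2, 0, 2, 2, 1, 0, 2, 0, 2, 1, 0]],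
    .inr [0, 0, 0, 0, 0, 0, 0, 4, 0, 0, 0, 0, 0, 0, 0, 0, 0, 0, 4, 0, 0, 0, 0, 0],
    .inl [[2, 0, 2, 2, 0, 0, 2, 2, 0, 0, 2]],
    .inl [[0, 1, 0, 2, 2, 1, 0, 1]],
    .inl [[0, 2, 0, 2, 0, 2, 2, 0, 1, 0, 2]],
    .inl [[3, 1, 0, 1, 0, 0, 0, 2, 0, 0, 2, 2], [2, 1, 0, 0, 0, 0, 0, 2, 2, 0, 1]],
    .inl [[3, 0, 2, 0, 2, 2, 1, 0, 2, 1, 0], [0, 2, 0, 2, 0, 2, 2, 0, 0, 2]],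
    .inl [[3, 1, 0, 1, 0, 0, 0, 2, 0, 0, 2, 2], [3, 2, 1, 0, 0, 0, 0, 0, 2, 2, 0, 1]],
    .inr [0, 2, 0, 0, 0, 0, 0, 2, 0, 0, -2, 2, 2, 0, -2, 0, 2, 0, 2, 0, 0, 0, 0, 0],
    .inr [0, 0, 0, 0, 0, 0, 0, 0, 0, 0, 0, 4, 0, 0, 0, 0, 0, 0, 4, 0, 0, 0, 0, 0],
    .inr [0, 4, 0, 0, 0, 0, 0, 0, 0, 0, 0, 0, 0, 0, 0, 0, 0, 0, 4, 0, 0, 0, 0, 0],
    .inr [0, 0, 0, 0, 0, 0, 0, 0, 0, 0, 0, 0, 0, 0, 4, 0, 4, 0, 0, 0, 0, 0, 0, 0],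
    .inl [[1, 0, 1, 0, 0, 2, 0, 1, 0, 0, 2, 1]],
    .inl [[3, 0, 2, 0, 2, 2, 1, 0, 2, 1, 0], [0, 0, 2, 0, 2, 2, 2, 1]],
    .inl [[3, 1, 0, 1, 0, 0, 0, 2, 0, 0, 2, 2], [0, 1, 0, 2, 2, 2, 1, 0, 1]],
    .inr [0, -2, 0, 0, 0, 0, 0, 2, 0, 0, -2, -2, -2, 0, -2, 0, -2, 0, 2, 0, 0, 0, 0, 0],
    .inl [[3, 1, 0, 1, 0, 0, 0, 2, 0, 0, 2, 2], [5, 0, 1, 0, 2, 2, 2, 1, 0, 1]],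
    .inl [[2, 1, 0, 0, 0, 0, 0, 2, 2, 0, 1]],
    .inl [[]],
    .inr [0, 0, 0, 0, 0, 0, 0, 0, 0, 0, 0, 0, 4, 0, 4, 0, 0, 0, 0, 0, 0, 0, 0, 0],
    .inl [[2, 0, 0, 2, 1, 0, 2, 2, 1, 0, 0]],
    .inr [0, 2, 0, 0, 0, 0, 0, 2, 0, 0, 2, 2, 2, 0, -2, 0, -2, 0, 2, 0, 0, 0, 0, 0],
    .inl [[3, 2, 0, 2, 2, 0, 0, 2, 2, 0, 1, 0, 2], [0, 2, 0, 2, 2, 1, 0, 2, 0, 2, 1, 0]],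
    .inr [0, -2, 0, 0, 0, 0, 0, -2, 0, 0, -2, 2, -2, 0, -2, 0, -2, 0, 2, 0, 0, 0, 0, 0],
    .inr [0, 2, 0, 0, 0, 0, 0, -2, 0, 0, -2, -2, -2, 0, -2, 0, -2, 0, 2, 0, 0, 0, 0, 0],
    .inl [[0, 2, 0, 0, 0, 0, 0, 2, 1, 0, 1, 0]],
    .inr [0, 0, 0, 0, 0, 0, 0, 0, 0, 0, 4, 0, 0, 0, 4, 0, 0, 0, 0, 0, 0, 0, 0, 0],
    .inl [[0, 2, 0, 2, 0, 0, 2, 1]],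
    .inl [[0, 0, 2, 2, 0, 2, 1, 0, 1, 0]],
    .inl [[0, 2, 0, 2, 0, 1, 0, 0]],
    .inl [[0, 2, 2, 2, 0, 0, 2, 2, 0, 1, 0]],
    .inl [[2, 2, 2, 2, 1, 0, 1, 0, 0, 2]],
    .inr [0, 0, 0, 0, 0, 0, 0, 0, 0, 0, 4, 0, 0, 0, 0, 0, 4, 0, 0, 0, 0, 0, 0, 0],
    .inl [[3, 1, 0, 1, 0, 0, 0, 2, 0, 0, 2, 2], [7, 0, 1, 0, 2, 2, 1, 0, 1]],
    .inl [[3, 0, 2, 0, 2, 2, 1, 0, 2, 1, 0], [4, 1, 0, 1, 0, 0, 2, 1, 0]],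
    .inl [[3, 1, 0, 1, 0, 0, 0, 2, 0, 0, 2, 2], [0, 1, 0, 2, 2, 1, 0, 1]],
    .inr [0, -2, 0, 0, 0, 0, 0, 2, 0, 0, 2, -2, 2, 0, 2, 0, 2, 0, 2, 0, 0, 0, 0, 0],
    .inr [0, 0, 0, 0, 0, 0, 0, 0, 0, 0, 0, 0, 4, 0, 0, 0, 4, 0, 0, 0, 0, 0, 0, 0],
    .inl [[1, 0, 1, 0, 0, 2, 1, 0]],
    .inl [[2, 0, 2, 2, 0, 0, 1, 0, 0]],
    .inl [[0, 2, 0, 2, 2, 0]],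
    .inl [[3, 2, 0, 2, 2, 0, 0, 2, 2, 0, 1, 0, 2], [7, 0, 2, 0, 2, 0, 2, 2, 0, 0, 2]],
    .inr [0, 2, 0, 0, 0, 0, 0, 2, 0, 0, -2, 2, -2, 0, 2, 0, 2, 0, 2, 0, 0, 0, 0, 0],
    .inr [0, 2, 0, 0, 0, 0, 0, -2, 0, 0, 2, -2, 2, 0, 2, 0, 2, 0, 2, 0, 0, 0, 0, 0],
    .inr [0, -2, 0, 0, 0, 0, 0, -2, 0, 0, 2, 2, 2, 0, 2, 0, 2, 0, 2, 0, 0, 0, 0, 0],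
    .inr [0, 0, 0, 0, 0, 0, 0, 0, 0, 0, 4, 4, 0, 0, 0, 0, 0, 0, 0, 0, 0, 0, 0, 0],
    .inr [0, 4, 0, 0, 0, 0, 0, 0, 0, 0, 4, 0, 0, 0, 0, 0, 0, 0, 0, 0, 0, 0, 0, 0],
    .inl [[2, 2, 0, 2, 2, 2, 1, 0, 0, 2, 0]],
    .inr [0, 0, 0, 0, 0, 0, 0, 4, 0, 0, 0, 0, 4, 0, 0, 0, 0, 0, 0, 0, 0, 0, 0, 0],
    .inr [0, -2, 0, 0, 0, 0, 0, 2, 0, 0, 2, 2, 2, 0, 2, 0, -2, 0, 2, 0, 0, 0, 0, 0],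
    .inr [0, 2, 0, 0, 0, 0, 0, 2, 0, 0, 2, -2, 2, 0, 2, 0, -2, 0, 2, 0, 0, 0, 0, 0],
    .inl [[3, 2, 0, 2, 2, 0, 0, 2, 2, 0, 1, 0, 2], [0, 2, 0, 2, 2, 1, 0, 2, 1, 0]],
    .inr [0, -2, 0, 0, 0, 0, 0, -2, 0, 0, -2, -2, -2, 0, 2, 0, -2, 0, 2, 0, 0, 0, 0, 0],
    .inr [0, 0, 0, 0, 0, 0, 0, 4, 0, 0, 4, 0, 0, 0, 0, 0, 0, 0, 0, 0, 0, 0, 0, 0],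
    .inl [[0, 2, 0, 2, 2, 1, 0, 2, 0, 2, 1, 0]],
    .inr [0, 4, 0, 0, 0, 0, 0, 0, 0, 0, 0, 0, 4, 0, 0, 0, 0, 0, 0, 0, 0, 0, 0, 0],
    .inr [0, 0, 0, 0, 0, 0, 0, 0, 0, 0, 0, 4, 4, 0, 0, 0, 0, 0, 0, 0, 0, 0, 0, 0],
    .inl [[3, 1, 0, 1, 0, 0, 0, 2, 0, 0, 2, 2], [4, 0, 2, 2, 2, 0, 0, 2, 2, 0, 1, 0]],
    .inr [0, 2, 0, 0, 0, 0, 0, -2, 0, 0, 2, 2, 2, 0, 2, 0, -2, 0, 2, 0, 0, 0, 0, 0],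
    .inl [[3, 1, 0, 1, 0, 0, 0, 2, 0, 0, 2, 2], [0, 2, 2, 2, 0, 0, 2, 2, 0, 1, 0]],
    .inl [[3, 0, 2, 0, 2, 2, 1, 0, 2, 1, 0], [0, 2, 0, 2, 0, 0, 2, 1]],
    .inl [[3, 1, 0, 1, 0, 0, 0, 2, 0, 0, 2, 2], [0, 2, 0, 0, 0, 0, 0, 2, 1, 0, 1, 0]],
    .inl [[3, 0, 2, 0, 2, 2, 1, 0, 2, 1, 0], [0, 1, 0, 2, 2, 1, 0, 1]],
    .inl [[3, 1, 0, 1, 0, 0, 0, 2, 0, 0, 2, 2], [3, 0, 2, 0, 0, 0, 0, 0, 2, 1, 0, 1, 0]],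
    .inr [0, 2, 0, 0, 0, 0, 0, -2, 0, 0, 2, 2, 2, 0, -2, 0, 2, 0, 2, 0, 0, 0, 0, 0],
    .inl [[2, 1, 0, 0, 0, 0, 0, 2, 0, 1]],
    .inl [[2, 2, 2, 2, 0, 2, 1, 0, 0, 0, 0]],
    .inl [[1, 0, 0, 2, 0, 0, 0, 0, 2]],
    .inr [0, 0, 0, 0, 0, 0, 0, 0, 0, 0, 0, 0, 4, 0, 0, 0, 0, 0, 4, 0, 0, 0, 0, 0],
    .inl [[3, 2, 0, 2, 2, 0, 0, 2, 2, 0, 1, 0, 2], [2, 1, 0, 0, 0, 0, 0, 2, 0, 1]],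
    .inr [0, -2, 0, 0, 0, 0, 0, -2, 0, 0, -2, -2, -2, 0, -2, 0, 2, 0, 2, 0, 0, 0, 0, 0],
    .inr [0, -2, 0, 0, 0, 0, 0, 2, 0, 0, 2, 2, 2, 0, -2, 0, 2, 0, 2, 0, 0, 0, 0, 0],
    .inr [0, 2, 0, 0, 0, 0, 0, 2, 0, 0, 2, -2, 2, 0, -2, 0, 2, 0, 2, 0, 0, 0, 0, 0],
    .inr [0, 0, 0, 0, 0, 0, 0, 0, 0, 0, 4, 0, 0, 0, 0, 0, 0, 0, 4, 0, 0, 0, 0, 0],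
    .inl [[0, 2, 2, 0, 0, 2, 2, 2]],
    .inl [[0, 2, 0, 2, 0, 2, 2, 0, 0, 2]],
    .inl [[0, 1, 0, 0, 2, 0, 2, 2, 1, 0, 2, 2, 0]],
    .inl [[3, 1, 0, 1, 0, 0, 0, 2, 0, 0, 2, 2], [0, 2, 0, 2, 2, 1, 0, 2, 1, 0]],
    .inr [0, -2, 0, 0, 0, 0, 0, -2, 0, 0, -2, -2, 2, 0, -2, 0, -2, 0, 2, 0, 0, 0, 0, 0],
    .inl [[3, 1, 0, 1, 0, 0, 0, 2, 0, 0, 2, 2], [3, 0, 2, 0, 2, 2, 1, 0, 2, 1, 0]],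
    .inl [[3, 0, 2, 0, 2, 2, 1, 0, 2, 1, 0], [4, 0, 2, 0, 2, 2, 1, 0, 2, 0, 2, 1, 0]],
    .inl [[0, 0, 2, 0, 2, 2, 2, 1]],
    .inr [0, 0, 0, 0, 0, 0, 0, 4, 0, 0, 0, 0, 0, 0, 4, 0, 0, 0, 0, 0, 0, 0, 0, 0],
    .inl [[0, 1, 0, 2, 2, 2, 1, 0, 1]],
    .inl [[0, 0, 0, 2, 2, 1, 0, 2, 0, 2, 0, 0]],
    .inl [[3, 0, 2, 0, 2, 2, 1, 0, 2, 1, 0], [0, 2, 0, 0, 0, 0, 0, 2, 1, 0, 1, 0]],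
    .inl [[3, 1, 0, 1, 0, 0, 0, 2, 0, 0, 2, 2], [2, 0, 2, 0, 1, 0, 0, 2, 0, 1]],
    .inr [0, -2, 0, 0, 0, 0, 0, -2, 0, 0, 2, -2, -2, 0, -2, 0, -2, 0, 2, 0, 0, 0, 0, 0],
    .inl [[3, 1, 0, 1, 0, 0, 0, 2, 0, 0, 2, 2], [5, 2, 0, 2, 0, 1, 0, 0, 2, 0, 1]],
    .inr [0, 4, 0, 0, 0, 0, 0, 0, 0, 0, 0, 0, 0, 0, 4, 0, 0, 0, 0, 0, 0, 0, 0, 0],
    .inr [0, 0, 0, 0, 0, 0, 0, 0, 0, 0, 0, 4, 0, 0, 4, 0, 0, 0, 0, 0, 0, 0, 0, 0],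
    .inl [[2, 0, 2, 0, 1, 0, 0, 2, 0, 1]],
    .inr [0, 0, 0, 0, 0, 0, 0, 0, 0, 0, 0, 0, 0, 0, 0, 0, 4, 0, 4, 0, 0, 0, 0, 0],
    .inl [[2, 0, 2, 2, 0, 2, 0]],
    .inr [0, 0, 0, 0, 0, 0, 0, 0, 0, 0, 0, 0, 0, 0, 4, 0, 0, 0, 4, 0, 0, 0, 0, 0],
    .inr [0, 4, 0, 0, 0, 0, 0, 0, 0, 0, 0, 0, 0, 0, 0, 0, 4, 0, 0, 0, 0, 0, 0, 0],
    .inr [0, 0, 0, 0, 0, 0, 0, 0, 0, 0, 0, 4, 0, 0, 0, 0, 4, 0, 0, 0, 0, 0, 0, 0],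
    .inl [[7, 0, 1, 0, 2, 2, 1, 0, 1], [0, 0, 2, 0, 2, 2, 2, 1]],
    .inr [0, 2, 0, 0, 0, 0, 0, -2, 0, 0, 2, 2, -2, 0, 2, 0, 2, 0, 2, 0, 0, 0, 0, 0],
    .inr [0, 2, 0, 0, 0, 0, 0, 2, 0, 0, -2, -2, 2, 0, 2, 0, 2, 0, 2, 0, 0, 0, 0, 0],
    .inr [0, -2, 0, 0, 0, 0, 0, 2, 0, 0, -2, 2, 2, 0, 2, 0, 2, 0, 2, 0, 0, 0, 0, 0],
    .inl [[0, 1, 0, 2, 1, 0, 1]],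
    .inl [[1, 0, 1, 0, 0, 2, 0, 2, 1, 0]],
    .inl [[2, 0, 1, 0, 0, 1, 0, 2, 2, 0]],
    .inr [0, 0, 0, 0, 0, 0, 0, 4, 0, 0, 0, 0, 0, 0, 0, 0, 4, 0, 0, 0, 0, 0, 0, 0],
    .inr [0, -2, 0, 0, 0, 0, 0, 2, 0, 0, 2, 2, -2, 0, 2, 0, 2, 0, 2, 0, 0, 0, 0, 0],
    .inr [0, 2, 0, 0, 0, 0, 0, 2, 0, 0, 2, -2, -2, 0, 2, 0, 2, 0, 2, 0, 0, 0, 0, 0],
    .inr [0, 2, 0, 0, 0, 0, 0, -2, 0, 0, -2, 2, 2, 0, 2, 0, 2, 0, 2, 0, 0, 0, 0, 0],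
    .inl [[7, 0, 1, 0, 2, 2, 1, 0, 1], [4, 1, 0, 1, 0, 0, 2, 0, 2, 1, 0]]]

end CfsgLib.CoOneUnique.CoverData
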