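import Cfsg.Agent.Lib.CoOneUnique.CoverData
import Cfsg.Agent.Lib.CoOneUnique.CoverDataRes

/-!
# The covering certificate on crosses: the residue of the base point, checked
-/

set_option autoImplicit false
set_option maxRecDepth 100000
set_option Elab.async false

namespace CfsgLib.CoOneUnique.CoverData

open CfsgLib.CoOneUnique

theorem resLinOK : model.resLinOK resData = true := by decide +kernel

theorem resCasesOK : model.resCasesOK resData = true := by decide +kernel

end CfsgLib.CoOneUnique.CoverData
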