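import Cfsg.Agent.Lib.CoOneUnique.CoverFactsModel
import Cfsg.Agent.Lib.CoOneUnique.CoverFactsMat
import Cfsg.Agent.Lib.CoOneUnique.CoverFactsNb
import Cfsg.Agent.Lib.CoOneUnique.CoverFactsReps
import Cfsg.Agent.Lib.CoOneUnique.CoverFactsEdge
import Cfsg.Agent.Lib.CoOneUnique.CoverFactsRes

/-!
# The covering certificate on crosses: everything, checked
-/

set_option autoImplicit false
set_option maxRecDepth 100000
set_option Elab.async false

namespace CfsgLib.CoOneUnique.CoverData

open CfsgLib.CoOneUnique


end CfsgLib.CoOneUnique.CoverData
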