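import Cfsg.Agent.Lib.CoOneUnique.CoverEdge
import Cfsg.Agent.Lib.CoOneUnique.CoverFacts

/-!
# The completion of the monomial subgroup and the involution centralizer of Co1 is Co1

The coset graph of crosses is simply connected modulo the residues: the checked certificate gives the conditions
of the generic covering theorem.
-/

set_option autoImplicit false
set_option maxRecDepth 200000
set_option maxHeartbeats 1000000

noncomputable section

namespace CfsgLib.CoOneUnique

open Cfsg CfsgLib.Golay CfsgLib.CoOneGolay

namespace CoverData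

theorem inv_ok : comp model.sigma (LeechOrbit.invP model.sigma) = List.range 24 := by decide +kernel

theorem rlen_ok : ∀ j < 15, (model.rimg.getD j []).length = 11 := by decide +kernel

theorem plt_ok : ∀ a ∈ model.proj, a < 4096 := by decide +kernel

theorem move_ok : model.ptW [15] ≠ model.x0 := by decide +kernel

theorem wit_ok : ∀ m < 2048, fld 5 edgeData.wit m < edgeData.pairs.length := by decide +kernel

theorem valid : Valid model :=
  ⟨basicOK, matOK, rimgOK, levOK, edgeCentOK, inv_ok, rlen_ok, plt_ok, move_ok⟩

theorem repsValid : RepsValid model nbData reps :=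
  ⟨nbTreeOK, nbClosedOK, repOK, seedsOK, posOK, forestOK, rep0, by simp [reps], reps_head.2.2⟩

theorem edgeValid : EdgeValid model edgeData resData :=
  ⟨goodOK, pairsOK, edgeOK, resLinOK, resCasesOK, wit_ok⟩

end CoverData

/-- A checked certificate makes every completion injective. -/
theorem cover_of_valid {M : Model} {N : NbData} {reps : List RepData} {E : EdgeData} {R : ResData} (V : Valid M)
    (P : RepsValid M N reps) (Q : EdgeValid M E R) {D : Type*} [Group D] (π : D →* Spor.Co1) (DN DC : Subgroup D)
    (hN : DN.map π = NM) (hC : DC.map π = CM) (hNi : Set.InjOn π DN) (hCi : Set.InjOn π DC)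
    (hint : CM ⊓ NM ≤ (DC ⊓ DN).map π) (hgen : DN ⊔ DC = ⊤) (hpair : PairCond π DN DC) :
    Function.Injective π := by
  obtain ⟨et, het, hπe⟩ := Subgroup.mem_map.1 (hC ▸ V.e_mem_CM)
  let T : CoverGraph.Completion (crossGraph V) D :=
    { π := π, DN := DN, DC := DC, et := et, π_e := hπe, e_mem := het, mapN := hN, mapC := hC, injN := hNi,
      injC := hCi, inter := hint, gen := hgen, cov := Q.cov V π DN DC hN hC hCi hint hNi hpair het hπe }
  have h0 : M.lev ((crossGraph V).pt 1) = 0 := by
    show M.lev (ptC M 1) = 0
    rw [V.ptC_one, Model.lev, Nat.beq_refl, cond_true]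
  refine CoverGraph.injective T (lev := M.lev) (bound := 4) h0
    ⟨fun g => RepsValid.lev_lt _, fun g hg => ?_, fun g hg => P.cond V g hg, Q.res V⟩
  show g ∈ NM
  rw [V.mem_NM_iff]
  change M.lev (ptC M g) = 0 at hg
  rw [Model.lev] at hg
  cases hb : Nat.beq (ptC M g) M.x0
  · rw [hb, cond_false] at hg
    change 1 + _ = 0 at hg
    omega
  · exact Nat.eq_of_beq_eq_true hb

/-- A completion of the two parts, consistent at pairs of points, is Co1. -/
theorem cover_injective {D : Type*} [Group D] (π : D →* Spor.Co1) (DN DC : Subgroup D) (hN : DN.map π = NM)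
    (hC : DC.map π = CM) (hNi : Set.InjOn π DN) (hCi : Set.InjOn π DC) (hint : CM ⊓ NM ≤ (DC ⊓ DN).map π)
    (hgen : DN ⊔ DC = ⊤) (hpair : PairCond π DN DC) : Function.Injective π :=
  cover_of_valid CoverData.valid CoverData.repsValid CoverData.edgeValid π DN DC hN hC hNi hCi hint hgen hpair

end CfsgLib.CoOneUnique
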