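import Cfsg.Agent.Lib.Sporadic.CoTwoRoots
import Cfsg.Agent.Lib.CoOneGolay.Code

/-!
# The covering certificate on crosses: formats and checks

A cross is the class of `8 e` modulo twice the lattice, as a number below `2 ^ 24`: bit `k` is the pairing with
the dual vector `k`. A letter acts linearly, by the list of the images of the 24 bits. Letters below 15 generate
the monomial group; letter 15 is the edge element, in the centralizer of the central involution of the model.
-/

set_option autoImplicit false

namespace CfsgLib.CoOneUnique

open CfsgLib.Golay CfsgLib.Golay.LeechOrbit CfsgLib.CoOneGolay CfsgLib.Sporadic.CoTwo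

/-- The bits of the pairings of a coordinate list with some vectors. -/
def pairBits : List (List ℤ) → List ℤ → ℕ
  | [], _ => 0
  | d :: r, x => Nat.add (bif decide (dotL x d / 8 % 2 = 1) then 1 else 0) (Nat.mul 2 (pairBits r x))

/-- A packed entry. -/
def fld (b p i : ℕ) : ℕ := Nat.land (Nat.shiftRight p (Nat.mul b i)) (Nat.sub (Nat.pow 2 b) 1)

/-- The steps of the sixteen letters: three permutations, twelve sign changes, the tetrad involution moved by
`sigma` to a sextet refining the base octad. -/
def letterSteps (sigma : List ℕ) : List (List Step) :=
  [[.perm permS], [.perm permT], [.perm permC]] ++ gens.map (fun n => [.sgn n]) ++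
    [[.perm sigma, .xi, .perm (invP sigma)]]

/-- The data common to all the checks. -/
structure Model where
  /-- The image list of the permutation moving the tetrad involution. -/
  sigma : List ℕ
  /-- A basis, by coordinate lists. -/
  basis : List (List ℤ)
  /-- Its duals. -/
  dual : List (List ℤ)
  /-- The matrices of the letters on crosses. -/
  mats : List (List ℕ)
  /-- The images of the eleven mask bits under conjugation by the letters below 15. -/
  rimg : List (List ℕ)
  /-- The cross of the base point. -/
  x0 : ℕ
  /-- The projection used for levels. -/
  proj : List ℕ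
  /-- The maps induced by the letters below 15 on the projection. -/
  pimg : List (List ℕ)
  /-- The table of levels minus one, two bits each. -/
  tbl : ℕ

namespace Model

variable (M : Model)

/-- The class of a coordinate list. -/
def cls (x : List ℤ) : ℕ := pairBits M.dual x

/-- A word of letters on crosses, the last letter first. -/
def appW (w : List ℕ) (m : ℕ) : ℕ := w.foldr (fun j m => spanWord (M.mats.getD j []) m) m

/-- A word of letters on masks by conjugation. -/
def conjW (w : List ℕ) (m : ℕ) : ℕ := w.foldr (fun j m => spanWord (M.rimg.getD j []) m) m

/-- The cross of a word. -/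
def ptW (w : List ℕ) : ℕ := M.appW w M.x0

/-- The level of a cross. -/
def lev (v : ℕ) : ℕ :=
  bif Nat.beq v M.x0 then 0 else Nat.add 1 (Nat.mod (fld 2 M.tbl (spanWord M.proj v)) 3)

/-- The base vectors, duals and letters. -/
def basicOK : Bool :=
  genOK M.sigma && Nat.beq M.basis.length 24 && Nat.beq M.dual.length 24 &&
    (M.basis ++ M.dual).all (fun l => Nat.beq l.length 24 && latA (ofL l)) &&
    ((List.range 24).all fun k => Nat.beq (M.cls (M.basis.getD k [])) (2 ^ k)) &&
    Nat.beq M.mats.length 16 && Nat.beq (M.cls (eightE 23)) M.x0

/-- The matrix of one letter. -/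
def matOK (j : ℕ) : Bool :=
  let w := (letterSteps M.sigma).getD j []
  w.all stepB && Nat.beq (M.mats.getD j []).length 24 &&
    (List.range 24).all fun k => Nat.beq (M.cls (appSteps w (M.basis.getD k []))) ((M.mats.getD j []).getD k 0)

/-- The conjugation of masks by one letter below 15. -/
def rimgOK (j : ℕ) : Bool :=
  (List.range 11).all fun i => Nat.beq ((M.rimg.getD j []).getD i 0)
    (bif Nat.blt j 3 then psi (pmap ([permS, permT, permC].getD j []) (phi (2 ^ i))) else 2 ^ i)

/-- Invariance of the level under one letter below 15. -/
def levOK (j : ℕ) : Bool :=
  Nat.beq (spanWord (M.mats.getD j []) M.x0) M.x0 && Nat.beq M.proj.length 24 &&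
    ((List.range 24).all fun k => Nat.beq (spanWord M.proj ((M.mats.getD j []).getD k 0))
      (spanWord (M.pimg.getD j []) (M.proj.getD k 0))) &&
    (List.range 4096).all fun m => Nat.beq (fld 2 M.tbl (spanWord (M.pimg.getD j []) m) % 3) (fld 2 M.tbl m % 3)

/-- A word in the sixteen letters. -/
def isW (w : List ℕ) : Bool := w.all fun j => Nat.blt j 16

/-- A word in the monomial group. -/
def isN (w : List ℕ) : Bool := w.all fun j => Nat.blt j 15

/-- A word in the monomial group fixing the base octad. -/
def isCN (w : List ℕ) : Bool := isN w && Nat.beq (M.conjW w 1) 1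

end Model

/-! ### Walks inside a residue -/

/-- A walk: a start word and steps, each followed by the edge element. -/
structure Walk where
  /-- The start word. -/
  start : List ℕ
  /-- The steps. -/
  steps : List (List ℕ)

/-- The vertices after the start. -/
def Model.verts (M : Model) (g : List ℕ) : List (List ℕ) → List ℕ
  | [] => []
  | n :: r => M.ptW (g ++ n ++ [15]) :: M.verts (g ++ n ++ [15]) r

/-- A closed walk at `v` through `u` and, last, `w`, the others of level below `k`. -/
def Model.walkOK (M : Model) (k v : ℕ) (W : Walk) (u w : ℕ) : Bool :=
  let vs := M.verts W.start W.steps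
  isW' W.start && W.steps.all M.isCN && Nat.blt 1 W.steps.length && Nat.beq (M.ptW W.start) v &&
    Nat.beq (vs.getD (W.steps.length - 1) 0) v && Nat.beq (vs.getD 0 0) u &&
    Nat.beq (vs.getD (W.steps.length - 2) 0) w && Nat.blt (M.lev u) k &&
    (vs.take (W.steps.length - 2)).all fun p => Nat.blt (M.lev p) k
where
  isW' (l : List ℕ) : Bool := l.all fun j => Nat.blt j 16

/-! ### Neighbours of the base cross -/

/-- The neighbours of the base cross: packed crosses, the spanning tree, and the closure tables. -/
structure NbData where
  /-- The 3542 crosses, 24 bits each. -/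
  nb : ℕ
  /-- For each, the parent and the letter, 16 bits: `parent + 4096 * letter`. -/
  tree : ℕ
  /-- For each letter below 15, the index of the image of each, 12 bits. -/
  img : List ℕ

/-- A neighbour of the base cross. -/
def NbData.at (N : NbData) (i : ℕ) : ℕ := fld 24 N.nb i

/-- The spanning tree. -/
def Model.nbTreeOK (M : Model) (N : NbData) : Bool :=
  Nat.beq (N.at 0) (M.ptW [15]) && (List.range 3541).all fun i =>
    let e := fld 16 N.tree (i + 1)
    Nat.ble (Nat.land e 4095) i && Nat.blt (e / 4096) 15 &&
      Nat.beq (N.at (i + 1)) (spanWord (M.mats.getD (e / 4096) []) (N.at (Nat.land e 4095)))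

/-- Closure under one letter. -/
def Model.nbClosedOK (M : Model) (N : NbData) (j : ℕ) : Bool :=
  (List.range 3542).all fun i =>
    let k := fld 12 (N.img.getD j 0) i
    Nat.blt k 3542 && Nat.beq (spanWord (M.mats.getD j []) (N.at i)) (N.at k)

/-! ### Representatives of the monomial orbits -/

/-- A neighbour representing an orbit of the stabilizer: its index, the representative it is moved to and the
word moving that one onto it, and the walk if it has the same level. -/
structure Seed where
  /-- The index. -/
  idx : ℕ
  /-- The representative. -/
  rep : ℕ
  /-- The word. -/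
  wit : List ℕ
  /-- The first vertex and the walk, for lateral neighbours. -/
  lat : Option (ℕ × Walk)

/-- The data of one representative. -/
structure RepData where
  /-- Its word. -/
  word : List ℕ
  /-- Its cross. -/
  v : ℕ
  /-- The matrix of its word. -/
  A : List ℕ
  /-- Words in the monomial group fixing it, with their matrices. -/
  sg : List (List ℕ × List ℕ)
  /-- The forest: at each position the index (12 bits), the parent position (12 bits) and the stabilizer
  element, or 15 at a seed (4 bits). -/
  tree : ℕ
  /-- The position of each index, 12 bits. -/
  pos : ℕ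
  /-- The seeds. -/
  seeds : List Seed
  /-- A lower neighbour, by index. -/
  u0 : ℕ
  /-- Steps between lower neighbours: source, target, walk. -/
  chain : List (ℕ × ℕ × Walk)

/-- A neighbour of a representative. -/
def RepData.at (R : RepData) (N : NbData) (i : ℕ) : ℕ := spanWord R.A (N.at i)

/-- The word, the matrices and the stabilizer elements. -/
def Model.repOK (M : Model) (R : RepData) : Bool :=
  Model.isW R.word && Nat.beq (M.ptW R.word) R.v &&
    ((List.range 24).all fun k => Nat.beq (M.appW R.word (2 ^ k)) (R.A.getD k 0)) && Nat.beq R.A.length 24 &&
    Nat.ble R.sg.length 15 &&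
    R.sg.all fun s => Model.isN s.1 && Nat.beq s.2.length 24 &&
      ((List.range 24).all fun k => Nat.beq (M.appW s.1 (2 ^ k)) (s.2.getD k 0)) &&
      Nat.beq (spanWord s.2 R.v) R.v

/-- The list of lower neighbours reached by a chain, checked. -/
def Model.chainGo (M : Model) (k v : ℕ) : List (ℕ × ℕ × Walk) → List ℕ → Bool × List ℕ
  | [], acc => (true, acc)
  | (p, w, W) :: r, acc =>
    bif acc.contains p && M.walkOK k v W p w && Nat.blt (M.lev w) k then M.chainGo k v r (w :: acc)
    else (false, acc)

/-- The lower neighbours reached. -/
def Model.proved (M : Model) (N : NbData) (R : RepData) : Bool × List ℕ :=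
  M.chainGo (M.lev R.v) R.v R.chain [R.at N R.u0]

/-- The seeds, the lower neighbour, the chain. -/
def Model.seedsOK (M : Model) (N : NbData) (reps : List RepData) (R : RepData) : Bool :=
  let k := M.lev R.v
  let pr := M.proved N R
  (Nat.beq k 0 || (Nat.blt (M.lev (R.at N R.u0)) k && Nat.blt R.u0 3542 && pr.1 &&
      R.sg.all fun s => pr.2.contains (spanWord s.2 (R.at N R.u0)))) &&
    R.seeds.all fun s =>
      let w := R.at N s.idx
      Nat.blt s.idx 3542 && Nat.blt s.rep reps.length && Model.isN s.wit &&
        Nat.beq (M.appW s.wit (reps.getD s.rep R).v) w &&
        (Nat.beq k 0 || Nat.blt k (M.lev w) ||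
          bif Nat.blt (M.lev w) k then pr.2.contains w
          else match s.lat with
            | some (u, W) => M.walkOK k R.v W u w
            | none => false)

/-- The forest, on a range of positions. -/
def Model.forestOK (N : NbData) (R : RepData) (lo len : ℕ) : Bool :=
  (List.range len).all fun t₀ =>
    let t := lo + t₀
    let e := fld 28 R.tree t
    let k := Nat.land e 4095
    let p := Nat.land (Nat.shiftRight e 12) 4095
    let g := Nat.shiftRight e 24
    Nat.blt k 3542 &&
      (bif Nat.beq g 15 then R.seeds.any fun s => Nat.beq s.idx k
       else Nat.blt p t && Nat.blt g R.sg.length &&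
        Nat.beq (R.at N k) (spanWord (R.sg.getD g ([], [])).2 (R.at N (Nat.land (fld 28 R.tree p) 4095))))

/-- The positions. -/
def RepData.posOK (R : RepData) : Bool :=
  (List.range 3542).all fun k =>
    Nat.blt (fld 12 R.pos k) 3542 && Nat.beq (Nat.land (fld 28 R.tree (fld 12 R.pos k)) 4095) k

/-! ### The covering condition at one edge -/

/-- The word of the sign change of a mask. -/
def sgnWord (m : ℕ) : List ℕ :=
  ((List.range 12).filter fun i => (Nat.land (phi m) 4095).testBit i).map (· + 3)

/-- The data of the covering condition: words fixing the cross of the edge, the octads they reach, the classes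
of some pairs `4 e + 4 e'`, and for the other octads the index of a pair moved by the conjugated sign change. -/
structure EdgeData where
  /-- The good words. -/
  good : List (List ℕ)
  /-- Reached masks: mask, word index, earlier mask. -/
  reach : List (ℕ × ℕ × ℕ)
  /-- The coordinate lists of pairs. -/
  pairs : List (List ℤ)
  /-- Witness index for each mask, 5 bits. -/
  wit : ℕ

/-- The masks reached. -/
def Model.reached (M : Model) (E : EdgeData) : List (ℕ × ℕ × ℕ) → List ℕ → Bool × List ℕ
  | [], acc => (true, acc)
  | (m, i, p) :: r, acc =>
    bif acc.contains p && Nat.blt i E.good.length && Nat.beq (M.conjW (E.good.getD i []) p) m then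
      M.reached E r (m :: acc)
    else (false, acc)

/-- The good words. -/
def Model.goodOK (M : Model) (E : EdgeData) : Bool :=
  E.good.all fun g =>
    let m := M.conjW g 1
    Model.isN g && Nat.beq (spanWord (M.mats.getD 15 []) M.x0) (M.appW g (M.ptW [15])) &&
      (Nat.beq m 1 || (Nat.ble 2 m && Nat.blt m 32 && (List.range 24).all fun j =>
        let w := (letterSteps M.sigma).getD 15 []
        flipL (phi m) (appSteps w (eightE j)) == appSteps w (flipL (phi m) (eightE j))))

/-- The other octads do not contain the edge in their residues. -/
def Model.edgeOK (M : Model) (E : EdgeData) (lo len : ℕ) : Bool :=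
  let pr := M.reached E E.reach [1]
  pr.1 && (List.range len).all fun m₀ =>
    let m := lo + m₀
    !inO m || pr.2.contains m ||
      (let l := E.pairs.getD (fld 5 E.wit m) []
       let p := M.cls l
       let q := M.appW ([15] ++ sgnWord m ++ [15]) p
       !Nat.beq q p && !Nat.beq q (Nat.xor p M.x0))

/-- Each pair is `4 e + 4 e'` with two different positions. -/
def EdgeData.pairsOK (E : EdgeData) : Bool :=
  E.pairs.all fun l => (List.range 24).any fun i => (List.range 24).any fun j =>
    Nat.blt i j && (l == List.ofFn fun k : Fin 24 => bif Nat.beq k.val i || Nat.beq k.val j then 4 else 0)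

/-! ### The residue of the central involution -/

/-- The residue: vectors vanishing on the base octad, the syndrome map, the complement maps, and for each of
the 256 classes a walk from the base cross or a vector of norm 32. -/
structure ResData where
  /-- Vectors vanishing on the base octad. -/
  off : List (List ℤ)
  /-- The syndrome map. -/
  syn : List ℕ
  /-- A basis of the classes of the fixed lattice. -/
  base8 : List ℕ
  /-- The coordinates. -/
  coord : List ℕ
  /-- The map back from syndromes. -/
  back : List ℕ
  /-- For each class either steps from the base cross or a short vector. -/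
  cases : List (List (List ℕ) ⊕ List ℤ)

/-- The linear algebra. -/
def Model.resLinOK (M : Model) (R : ResData) : Bool :=
  Nat.beq R.base8.length 8 && Nat.beq R.syn.length 24 && Nat.beq R.coord.length 24 &&
    R.off.all (fun d => Nat.beq d.length 24 && latA (ofL d) &&
      (List.range 24).all fun i => !(Nat.testBit 351362 i) || decide (d.getD i 0 = 0)) &&
    (List.range 24).all fun k =>
      Nat.beq (pairBits R.off (M.basis.getD k [])) (R.syn.getD k 0) &&
        Nat.blt (R.coord.getD k 0) 256 &&
        Nat.beq (Nat.xor (spanWord R.base8 (R.coord.getD k 0)) (spanWord R.back (R.syn.getD k 0))) (2 ^ k)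

/-- The classes. -/
def Model.resCasesOK (M : Model) (R : ResData) : Bool :=
  Nat.beq R.cases.length 256 && (List.range 256).all fun i =>
    let m := spanWord R.base8 i
    match R.cases.getD i (Sum.inr []) with
    | .inl ns => ns.all M.isCN &&
        Nat.beq (M.ptW (ns.flatMap fun n => n ++ [15])) m
    | .inr x => Nat.beq x.length 24 && latA (ofL x) && decide (dotL x x ≤ 32) && Nat.beq (M.cls x) m

/-- The edge element centralizes the central involution. -/
def Model.edgeCentOK (M : Model) : Bool :=
  (List.range 24).all fun j =>
    let w := (letterSteps M.sigma).getD 15 []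
    flipL 351362 (appSteps w (eightE j)) == appSteps w (flipL 351362 (eightE j))

end CfsgLib.CoOneUnique
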