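import Cfsg.Agent.Lib.CoOneUnique.CoverReps

/-!
# The edge lifts uniquely, and the point stabilizer is covered by its residue

The stabilizer of the edge in the monomial group is generated by elements whose lifts are controlled by the pair
condition; the residue of the central involution consists of the 135 crosses of its fixed lattice.
-/

set_option autoImplicit false
set_option maxRecDepth 100000
set_option maxHeartbeats 1000000

noncomputable section

namespace CfsgLib.CoOneUnique

open Cfsg CfsgLib.Golay CfsgLib.Golay.LeechOrbit CfsgLib.CoOneGolay CfsgLib.MonsterType CfsgLib.Sporadic.CoOne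
  CfsgLib.Sporadic.CoTwo
open scoped Pointwise

/-- A list of masks passing a check is reached by good words. -/
theorem reached_sound {M : Model} (E : EdgeData) (P : ℕ → Prop)
    (hstep : ∀ i < E.good.length, ∀ p, P p → P (M.conjW (E.good.getD i []) p)) :
    ∀ (ch : List (ℕ × ℕ × ℕ)) (acc : List ℕ), (∀ x ∈ acc, P x) → ∀ x ∈ (M.reached E ch acc).2, P x
  | [], acc, h => h
  | (m, i, p) :: r, acc, h => by
    rw [Model.reached]
    cases hc : (acc.contains p && Nat.blt i E.good.length && Nat.beq (M.conjW (E.good.getD i []) p) m)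
    · exact h
    · simp only [Bool.and_eq_true, List.contains_iff_mem] at hc
      refine reached_sound E P hstep r (m :: acc) fun x hx => ?_
      rcases List.mem_cons.1 hx with rfl | hx
      · rw [← Nat.eq_of_beq_eq_true hc.2]
        exact hstep i (Nat.ble_eq.mp hc.1.2) p (h p hc.1.1)
      · exact h x hx

theorem mem_CM {g : Spor.Co1} : g ∈ CM ↔ g * zM = zM * g := Subgroup.mem_centralizer_singleton_iff

/-- A sign change moves a pair class at most by the base cross. -/
theorem clsV_sgn_pair {M : Model} (V : Valid M) (m : ℕ) {v : leechLattice} {i j : Fin 24}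
    (hv : ∀ k : Fin 24, (v : GolayPt → ℤ) (pt k) = if k = i ∨ k = j then 4 else 0) :
    M.clsV (sgnW (maskWord m) • v) = M.clsV v ∨ M.clsV (sgnW (maskWord m) • v) = M.clsV v ^^^ M.x0 := by
  have hlat : ∀ k, M.clsV (LeechEight.latE k) = M.x0 := fun k => by
    rw [← Model.clsV_e0 V.basic]
    exact Model.clsV_congTwo V.basic ((cong_iff_congTwo _ _).1 (latE_cong k none))
  have hval : ∀ k : Fin 24, ((sgnW (maskWord m) • v : leechLattice) : GolayPt → ℤ) (pt k) =
      if (maskWord m).1 (pt k) = 0 then (v : GolayPt → ℤ) (pt k) else -(v : GolayPt → ℤ) (pt k) :=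
    fun k => sgnW_apply _ _ _
  have hne : ∀ a : ZMod 2, a ≠ 0 → a = 1 := by decide
  rcases eq_or_ne ((maskWord m).1 (pt i)) 0 with hi | hi <;> rcases eq_or_ne ((maskWord m).1 (pt j)) 0 with hj | hj
  · left
    congr 1
    apply Subtype.ext; funext p
    rw [← pt_idx p, hval]
    split_ifs with h
    · rfl
    · have h1 : idx p ≠ i := fun e => h (by rw [e]; exact hi)
      have h2 : idx p ≠ j := fun e => h (by rw [e]; exact hj)
      rw [hv, if_neg (by tauto), neg_zero]
  · right
    have e : v = sgnW (maskWord m) • v + LeechEight.latE (pt j) := by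
      apply Subtype.ext; funext p
      rw [AddSubgroup.coe_add, Pi.add_apply, ← pt_idx p, hval, latE_apply]
      by_cases hpj : idx p = j
      · rw [hpj, if_neg hj, hv, if_pos (Or.inr rfl), if_pos rfl]; norm_num
      · rw [if_neg (show ¬ pt (idx p) = pt j from fun h => hpj (by have := congrArg idx h; rwa [idx_pt, idx_pt] at this)),
          add_zero]
        split_ifs with h
        · rfl
        · have h1 : idx p ≠ i := fun e => h (by rw [e]; exact hi)
          rw [hv, if_neg (by tauto), neg_zero]
    conv_rhs => rw [e, Model.clsV_add V.basic, hlat, Nat.xor_assoc, Nat.xor_self, Nat.xor_zero]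
  · right
    have e : v = sgnW (maskWord m) • v + LeechEight.latE (pt i) := by
      apply Subtype.ext; funext p
      rw [AddSubgroup.coe_add, Pi.add_apply, ← pt_idx p, hval, latE_apply]
      by_cases hpi : idx p = i
      · rw [hpi, if_neg hi, hv, if_pos (Or.inl rfl), if_pos rfl]; norm_num
      · rw [if_neg (show ¬ pt (idx p) = pt i from fun h => hpi (by have := congrArg idx h; rwa [idx_pt, idx_pt] at this)),
          add_zero]
        split_ifs with h
        · rfl
        · have h1 : idx p ≠ j := fun e => h (by rw [e]; exact hj)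
          rw [hv, if_neg (by tauto), neg_zero]
    conv_rhs => rw [e, Model.clsV_add V.basic, hlat, Nat.xor_assoc, Nat.xor_self, Nat.xor_zero]
  · left
    rw [← Model.clsV_neg V.basic v]
    congr 1
    apply Subtype.ext; funext p
    rw [AddSubgroup.coe_neg, Pi.neg_apply, ← pt_idx p, hval]
    split_ifs with h
    · have h1 : idx p ≠ i := fun e => hi (by rw [← e]; exact h)
      have h2 : idx p ≠ j := fun e => hj (by rw [← e]; exact h)
      rw [hv, if_neg (by tauto), neg_zero]
    · rfl

/-- The hypotheses at the edge and at the residue. -/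
structure EdgeValid (M : Model) (E : EdgeData) (R : ResData) : Prop where
  /-- Good words. -/
  good : M.goodOK E = true
  /-- Pairs. -/
  pairs : E.pairsOK = true
  /-- Other octads. -/
  edge : M.edgeOK E 0 2048 = true
  /-- Linear algebra. -/
  resLin : M.resLinOK R = true
  /-- Classes. -/
  resCases : M.resCasesOK R = true
  /-- Enough pairs. -/
  witLt : ∀ m < 2048, fld 5 E.wit m < E.pairs.length

namespace EdgeValid

variable {M : Model} {E : EdgeData} {R : ResData} (V : Valid M) (Q : EdgeValid M E R)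
include V Q

/-- A monomial element fixing the edge moves the central involution as some product of good words does. -/
theorem exists_good {g : Spor.Co1} (hg : g ∈ NM) (hy : ptC M (g * ltr M 15) = ptC M (ltr M 15))
    (P : ℕ → Prop) (h1 : P 1) (hstep : ∀ i < E.good.length, ∀ p, P p → P (M.conjW (E.good.getD i []) p)) :
    ∃ m, m < 2048 ∧ P m ∧ g * zM * g⁻¹ = sgnM m := by
  obtain ⟨w, hw, rfl⟩ := Valid.exists_wd hg (M := M)
  obtain ⟨e1, e2, e3⟩ := V.conj_wd w hw (show 1 < 2048 by norm_num)
  set m := M.conjW w 1 with hm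
  refine ⟨m, e2, ?_, e1⟩
  have h := Q.edge
  simp only [Model.edgeOK, Bool.and_eq_true, List.all_eq_true, List.mem_range, Nat.zero_add, Bool.or_eq_true] at h
  obtain ⟨-, h⟩ := h
  rcases h m e2 with (h | h) | h
  · rw [e3] at h
    exact absurd h (by decide +kernel)
  · exact reached_sound E P hstep E.reach [1] (fun x hx => by rwa [List.mem_singleton.1 hx]) m
      (List.contains_iff_mem.1 h)
  · exfalso
    -- the conjugate of the sign change by the edge element is a sign change
    have hk : ltr M 15 * wd M w * ltr M 15 ∈ NM := by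
      have := (V.ptC_eq_iff _ _).1 hy.symm
      rwa [inv_eq_of_mul_eq_one_right Valid.e_sq, ← mul_assoc] at this
    obtain ⟨u, hu, hue⟩ := Valid.exists_wd hk (M := M)
    obtain ⟨d1, d2, -⟩ := V.conj_wd u hu (show 1 < 2048 by norm_num)
    have hez : ltr M 15 * zM * ltr M 15 = zM := by
      rw [mem_CM.1 V.e_mem_CM, mul_assoc, Valid.e_sq, mul_one]
    have hei : (ltr M 15)⁻¹ = ltr M 15 := inv_eq_of_mul_eq_one_right Valid.e_sq
    have hconj : ltr M 15 * sgnM m * ltr M 15 = sgnM (M.conjW u 1) := by
      rw [← d1, hue, ← e1]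
      show ltr M 15 * (wd M w * zM * (wd M w)⁻¹) * ltr M 15 =
        ltr M 15 * wd M w * ltr M 15 * zM * (ltr M 15 * wd M w * ltr M 15)⁻¹
      rw [mul_inv_rev, mul_inv_rev, hei]
      conv_lhs => rw [← hez]
      simp [mul_assoc]
    -- compare on a pair
    have hlt : ∀ j ∈ [15] ++ sgnWord m ++ [15], j < 16 := by
      intro j hj
      simp only [List.mem_append, List.mem_singleton] at hj
      rcases hj with (hj | hj) | hj
      exacts [by omega, by have := Valid.sgnWord_lt m j hj; omega, by omega]
    have hco : toCoOne (wd0 M ([15] ++ sgnWord m ++ [15])) = toCoOne (sgnW (maskWord (M.conjW u 1))) := by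
      show wd M _ = sgnM _
      rw [wd_append, wd_append, wd_singleton, Valid.wd_sgnWord e2, hconj]
    simp only [Bool.and_eq_true, Bool.not_eq_true'] at h
    set l := E.pairs.getD (fld 5 E.wit m) [] with hl
    have hmem : l ∈ E.pairs := by
      rw [hl, List.getD_eq_getElem _ _ (Q.witLt m e2)]; exact List.getElem_mem _
    have hp := List.all_eq_true.1 Q.pairs l hmem
    simp only [List.any_eq_true, List.mem_range, Bool.and_eq_true, beq_iff_eq] at hp
    obtain ⟨i, hi, j, hj, hij, hlist⟩ := hp
    have hij' : i < j := Nat.ble_eq.mp hij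
    have hlen : l.length = 24 := by rw [hlist]; exact List.length_ofFn
    have hval : ∀ k : Fin 24, ofL l (pt k) = if k = ⟨i, hi⟩ ∨ k = ⟨j, hj⟩ then 4 else 0 := fun k => by
      show l.getD (idx (pt k)).val 0 = _
      rw [idx_pt, hlist, List.getD_eq_getElem _ _ (by simp), List.getElem_ofFn]
      simp only [Fin.ext_iff]
      by_cases hk : k.val = i ∨ k.val = j
      · rw [if_pos hk]
        rcases hk with hk | hk <;> simp [hk]
      · rw [if_neg hk]
        push Not at hk
        have f1 : Nat.beq k.val i = false := by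
          rw [← Bool.not_eq_true]; exact fun e => hk.1 (Nat.eq_of_beq_eq_true e)
        have f2 : Nat.beq k.val j = false := by
          rw [← Bool.not_eq_true]; exact fun e => hk.2 (Nat.eq_of_beq_eq_true e)
        simp [f1, f2]
    let v : leechLattice := ⟨ofL l, mem_leechLattice_of_four_dvd (fun p => by
      rw [← pt_idx p, hval]; split_ifs <;> norm_num) (by
      rw [← sum_pt fun p => ofL l p, Finset.sum_congr rfl fun k _ => hval k, Finset.sum_ite, Finset.sum_const_zero,
        add_zero, Finset.sum_const,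
        show (Finset.univ.filter fun k : Fin 24 => k = ⟨i, hi⟩ ∨ k = ⟨j, hj⟩) = {⟨i, hi⟩, ⟨j, hj⟩} by ext; simp,
        Finset.card_pair (by simp; omega)]
      norm_num)⟩
    have hv : M.clsV v = M.cls l := congrArg M.cls (toL_ofL hlen)
    have hq := V.clsV_congr hco v
    rw [V.clsV_wd0 v _ hlt, hv] at hq
    have hfalse : ∀ {a b : ℕ}, Nat.beq a b = false → a ≠ b := fun h e => by simp [e] at h
    rcases clsV_sgn_pair V (M.conjW u 1) (v := v) (i := ⟨i, hi⟩) (j := ⟨j, hj⟩) hval with e | e
    · exact hfalse h.1 (hq.trans (e.trans hv))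
    · rw [hv] at e
      exact hfalse h.2 (hq.trans e)

/-- The edge lifts uniquely. -/
theorem cov {D : Type*} [Group D] (π : D →* Spor.Co1) (DN DC : Subgroup D) (hN : DN.map π = NM) (hC : DC.map π = CM)
    (hCi : Set.InjOn π DC) (hint : CM ⊓ NM ≤ (DC ⊓ DN).map π) (hNi : Set.InjOn π DN)
    (hpair : PairCond π DN DC) {et : D} (het : et ∈ DC) (hπe : π et = ltr M 15) :
    ∀ n ∈ DN, ptC M (π n * ltr M 15) = ptC M (ltr M 15) → et⁻¹ * n * et ∈ DN := by
  have hee : et * et = 1 := hCi (mul_mem het het) (one_mem _) (by rw [map_mul, hπe, Valid.e_sq, map_one])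
  have hei : et⁻¹ = et := inv_eq_of_mul_eq_one_right hee
  have hei' : (ltr M 15)⁻¹ = ltr M 15 := inv_eq_of_mul_eq_one_right Valid.e_sq
  have hlift : ∀ {d : D}, d ∈ DC → π d ∈ NM → d ∈ DN := by
    intro d hd hdN
    obtain ⟨x, ⟨hx1, hx2⟩, hx3⟩ := Subgroup.mem_map.1 (hint ⟨(show π d ∈ CM by
      exact hC ▸ Subgroup.mem_map_of_mem π hd), hdN⟩)
    rwa [← hCi hx1 hd hx3]
  let S : Subgroup D :=
    { carrier := {n | n ∈ DN ∧ et⁻¹ * n * et ∈ DN}
      one_mem' := ⟨one_mem _, by simp [one_mem]⟩
      mul_mem' := fun {a b} ha hb => ⟨mul_mem ha.1 hb.1, by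
        simpa [mul_assoc] using mul_mem ha.2 hb.2⟩
      inv_mem' := fun {a} ha => ⟨inv_mem ha.1, by simpa [mul_assoc] using inv_mem ha.2⟩ }
  -- good elements lift
  have hfixS : ∀ n ∈ DN, ptC M (π n * ltr M 15) = ptC M (ltr M 15) → π n * zM = zM * π n → n ∈ S := by
    intro n hn hy hz
    refine ⟨hn, hlift ?_ ?_⟩
    · obtain ⟨x, ⟨hx1, hx2⟩, hx3⟩ := Subgroup.mem_map.1
        (hint ⟨mem_CM.2 hz, hN ▸ Subgroup.mem_map_of_mem π hn⟩)
      rw [← hNi hx2 hn hx3]
      exact mul_mem (mul_mem (inv_mem het) hx1) het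
    · rw [map_mul, map_mul, map_inv, hπe, mul_assoc]
      exact (V.ptC_eq_iff _ _).1 hy.symm
  have hgood : ∀ i < E.good.length, ∃ n ∈ S, π n = wd M (E.good.getD i []) := by
    intro i hi
    have h := Q.good
    simp only [Model.goodOK, List.all_eq_true] at h
    have hmem : E.good.getD i [] ∈ E.good := by rw [List.getD_eq_getElem _ _ hi]; exact List.getElem_mem _
    have h := h _ hmem
    set g := E.good.getD i []
    simp only [Bool.and_eq_true, Bool.or_eq_true] at h
    obtain ⟨⟨h1, h2⟩, h3⟩ := h
    have hg := isN_lt h1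
    obtain ⟨n, hn, hnπ⟩ := Subgroup.mem_map.1 (hN ▸ Valid.wd_mem_NM (M := M) hg)
    have hy : ptC M (π n * ltr M 15) = ptC M (ltr M 15) := by
      rw [hnπ, V.ptC_wd_mul (isN_lt' h1), ← wd_singleton, V.ptC_wd (by simp)]
      exact (Nat.eq_of_beq_eq_true h2).symm
    obtain ⟨e1, e2, -⟩ := V.conj_wd g hg (show 1 < 2048 by norm_num)
    refine ⟨n, ?_, hnπ⟩
    rcases h3 with h3 | h3
    · refine hfixS n hn hy ?_
      rw [Nat.eq_of_beq_eq_true h3] at e1
      rw [hnπ, zM]
      conv_rhs => rw [← e1, inv_mul_cancel_right]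
    · obtain ⟨⟨h4, h5⟩, h6⟩ := h3
      simp only [List.all_eq_true, List.mem_range, beq_iff_eq] at h6
      have hcm : π et * sgnM (M.conjW g 1) = sgnM (M.conjW g 1) * π et := by
        rw [hπe, sgnM, ltr, ← map_mul, ← map_mul, V.e_comm (maskWord _) rfl h6]
      have hc := hpair n hn (M.conjW g 1) (Nat.ble_eq.mp h4) (Nat.ble_eq.mp h5) (by rw [hnπ]; exact e1) et het hcm
      have hd : et * (n⁻¹ * et * n) ∈ DN := by
        refine hlift (mul_mem het hc) ?_
        rw [map_mul, map_mul, map_mul, map_inv, hπe]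
        have e1 := (V.ptC_eq_iff _ _).1 hy.symm
        rw [hei'] at e1
        have hn' : π n ∈ NM := hN ▸ Subgroup.mem_map_of_mem π hn
        have := mul_mem (inv_mem e1) hn'
        simpa [mul_assoc, hei'] using this
      refine ⟨hn, ?_⟩
      have := inv_mem (mul_mem hd (inv_mem hn))
      simpa [mul_assoc, hei] using this
  intro n hn hy
  let P : ℕ → Prop := fun m => m < 2048 ∧ ∃ s ∈ S, π s * zM * (π s)⁻¹ = sgnM m
  obtain ⟨m, hm, ⟨-, s, hs, hsm⟩, hgm⟩ := Q.exists_good V (hN ▸ Subgroup.mem_map_of_mem π hn) hy P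
    ⟨by norm_num, 1, one_mem _, by simp [zM]⟩ (by
      rintro i hi p ⟨hp, s, hs, hsp⟩
      obtain ⟨g, hgS, hgπ⟩ := hgood i hi
      have h := Q.good
      simp only [Model.goodOK, List.all_eq_true] at h
      have hmem : E.good.getD i [] ∈ E.good := by rw [List.getD_eq_getElem _ _ hi]; exact List.getElem_mem _
      have h := h _ hmem
      simp only [Bool.and_eq_true] at h
      obtain ⟨e1, e2, -⟩ := V.conj_wd _ (isN_lt h.1.1) hp
      refine ⟨e2, g * s, mul_mem hgS hs, ?_⟩
      rw [← e1, map_mul, hgπ, ← hsp]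
      group)
  -- the quotient by the good product fixes the central involution
  have hs' := hs
  obtain ⟨hsN, hsE⟩ := hs'
  have hsy : ptC M (π s * ltr M 15) = ptC M (ltr M 15) := by
    have := hN ▸ Subgroup.mem_map_of_mem π hsE
    rw [map_mul, map_mul, map_inv, hπe, mul_assoc] at this
    exact ((V.ptC_eq_iff _ _).2 this).symm
  have hq : s⁻¹ * n ∈ S := by
    refine hfixS _ (mul_mem (inv_mem hsN) hn) ?_ ?_
    · rw [map_mul, map_inv, mul_assoc]
      have := V.ptC_congr_left (π s)⁻¹ (hy.trans hsy.symm)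
      rwa [inv_mul_cancel_left] at this
    · rw [map_mul, map_inv]
      have e : π n * zM * (π n)⁻¹ = π s * zM * (π s)⁻¹ := hgm.trans hsm.symm
      calc (π s)⁻¹ * π n * zM = (π s)⁻¹ * (π n * zM * (π n)⁻¹) * π n := by group
        _ = _ := by rw [e]; group
  have := mul_mem hs hq
  rw [mul_inv_cancel_left] at this
  exact this.2

omit Q in
theorem fixed_cls {γ : Co0} (hγ : toCoOne γ ∈ CM) :
    ∃ v : leechLattice, (∀ k : Fin 24, (351362 : ℕ).testBit k.val = false → (v : GolayPt → ℤ) (pt k) = 0) ∧
      M.clsV v = ptC M (toCoOne γ) ∧ sqNorm (v : GolayPt → ℤ) = 64 := by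
  set S := sgnW (maskWord 1) with hS
  have hphi : CoOneGolay.phi 1 = 351362 := by decide +kernel
  have hS' : γ * S = S * γ := by
    have h := mem_CM.1 hγ
    rw [zM, sgnM, ← map_mul, ← map_mul, toCoOne_eq_iff] at h
    refine h.resolve_right fun h' => ?_
    -- the trace tells the sign change from its negative
    have h1 : γ⁻¹ * (negW * S) * γ = S := by rw [mul_assoc γ⁻¹, mul_assoc negW, ← h', inv_mul_cancel_left]
    have h2 := congrArg (fun δ => Matrix.trace (LeechEight.mat δ)) h1
    simp only [LeechEight.mat_mul] at h2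
    rw [Matrix.trace_mul_cycle, ← LeechEight.mat_mul, mul_inv_cancel, LeechEight.mat_one, one_mul,
      ← LeechEight.mat_mul, hS, negW_eq, ← sgnW_add, trace_sgnW, trace_sgnW] at h2
    revert h2
    decide +kernel
  have hjb : (maskWord 1).1 (pt 1) ≠ 0 := by
    show dec (CoOneGolay.phi 1) (pt 1) ≠ 0
    rw [hphi]; decide +kernel
  refine ⟨γ • LeechEight.latE (pt 1), fun k hk => ?_, ?_, sqNorm_image_latE γ _⟩
  · have h : S • (γ • LeechEight.latE (pt 1)) = -(γ • LeechEight.latE (pt 1)) := by
      rw [← mul_smul, ← hS', mul_smul, hS, sgnW_latE, if_neg hjb, smul_neg']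
    have := congrArg (fun x : leechLattice => (x : GolayPt → ℤ) (pt k)) h
    simp only [hS, sgnW_apply, AddSubgroup.coe_neg, Pi.neg_apply] at this
    rw [if_pos (by show dec (CoOneGolay.phi 1) (pt k) = 0; rw [hphi, dec, idx_pt, hk]; rfl)] at this
    omega
  · rw [V.ptC_mk]
    exact Model.clsV_congTwo V.basic ((cong_iff_congTwo _ _).1 ((latE_cong _ none).smul' γ))

/-- The point stabilizer is covered by walks from the base. -/
theorem res : ∀ c ∈ (crossGraph V).C, ∃ ns : List Spor.Co1, (∀ n ∈ ns, n ∈ (crossGraph V).N ⊓ (crossGraph V).C) ∧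
    (crossGraph V).pt (ns.foldl (fun g n => g * n * (crossGraph V).e) 1) = (crossGraph V).pt c := by
  intro c hc
  obtain ⟨γ, rfl⟩ := toCoOne_surj c
  obtain ⟨v, hv0, hvc, hvn⟩ := fixed_cls V hc
  have h := Q.resLin
  simp only [Model.resLinOK, Bool.and_eq_true, List.all_eq_true, List.mem_range, Bool.or_eq_true,
    Bool.not_eq_true', decide_eq_true_eq] at h
  obtain ⟨⟨⟨⟨h1, h2⟩, h3⟩, h4⟩, h5⟩ := h
  set m := M.clsV v with hm
  have hoff : ∀ d ∈ R.off, d.length = 24 ∧ latA (ofL d) = true := fun d hd =>
    ⟨Nat.eq_of_beq_eq_true (h4 d hd).1.1, (h4 d hd).1.2⟩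
  have hsyn : spanWord R.syn m = 0 := by
    rw [hm, ← Model.additive_eq V.basic (φ := fun x => pairBits R.off (lv x))
      (fun a b => pairBits_add _ a b hoff) (Nat.eq_of_beq_eq_true h2) (fun k hk b hb => by
        show pairBits R.off (lv b) = _
        rw [hb]; exact Nat.eq_of_beq_eq_true (h5 k hk).1.1) v]
    have hz : ∀ (L : List (List ℤ)), (∀ d ∈ L, dotL (lv v) d = 0) → pairBits L (lv v) = 0 := by
      intro L
      induction L with
      | nil => exact fun _ => rfl
      | cons d L ih =>
        intro hL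
        rw [pairBits_cons, hL d (by simp), ih fun x hx => hL x (List.mem_cons_of_mem _ hx)]
        rfl
    refine hz _ fun d hd => ?_
    obtain ⟨hd1, hd2⟩ := hoff d hd
    rw [← lv_latOf hd2 hd1, dotL_lv]
    refine Finset.sum_eq_zero fun p _ => ?_
    rw [← pt_idx p]
    cases hb : (351362 : ℕ).testBit (idx p).val
    · rw [hv0 _ hb, zero_mul]
    · have := ((h4 d hd).2 _ (idx p).isLt).resolve_left (by rw [hb]; simp)
      show _ * ofL d (pt (idx p)) = 0
      rw [ofL, idx_pt, this, mul_zero]
  have hid : m = spanWord R.base8 (spanWord R.coord m) ^^^ spanWord R.back (spanWord R.syn m) := by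
    have e := linear_eq (n := 24) (f := fun m => spanWord R.base8 (spanWord R.coord m) ^^^
        spanWord R.back (spanWord R.syn m)) (L := (List.range 24).map (2 ^ ·))
      (by simp [spanWord_zero]) (fun a b => by
        simp only [spanWord_xor]; ac_rfl) (by simp) (fun k hk => by
        simp only [spanWord_two_pow]
        rw [show ((List.range 24).map (2 ^ ·)).getD k 0 = 2 ^ k by simp [hk]]
        exact Nat.eq_of_beq_eq_true (h5 k hk).2) (Model.clsV_lt V.basic v)
    rw [spanWord_powers (Model.clsV_lt V.basic v)] at e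
    exact e.symm
  rw [hsyn, spanWord_zero, Nat.xor_zero] at hid
  have hlt : spanWord R.coord m < 256 := by
    refine spanWord_induction (P := fun n => n < 2 ^ 8) R.coord (by norm_num)
      (fun _ _ => Nat.xor_lt_two_pow) (fun x hx => ?_) m
    obtain ⟨k, hk, rfl⟩ := List.mem_iff_getElem.1 hx
    have := Nat.eq_of_beq_eq_true h3
    rw [← List.getD_eq_getElem _ 0 hk]
    exact Nat.ble_eq.mp (h5 k (by omega)).1.2
  have hcs := Q.resCases
  simp only [Model.resCasesOK, Bool.and_eq_true, List.all_eq_true, List.mem_range] at hcs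
  have hcase := hcs.2 _ hlt
  rcases hx : R.cases.getD (spanWord R.coord m) (Sum.inr []) with ns | x
  · rw [hx] at hcase
    simp only [Bool.and_eq_true, List.all_eq_true] at hcase
    obtain ⟨hns, hpt⟩ := hcase
    refine ⟨ns.map (wd M), fun n hn => ?_, ?_⟩
    · obtain ⟨w, hw, rfl⟩ := List.mem_map.1 hn
      exact V.isCN_mem (hns w hw)
    · have key : ∀ (L : List (List ℕ)) (g : List ℕ), (L.map (wd M)).foldl
          (fun g n => g * n * ltr M 15) (wd M g) = wd M (g ++ L.flatMap fun n => n ++ [15]) := by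
        intro L
        induction L with
        | nil => simp
        | cons n r ih =>
          intro g
          rw [List.map_cons, List.foldl_cons, ← wd_singleton M 15, ← wd_append, ← wd_append, wd_singleton, ih]
          simp [List.append_assoc]
      show ptC M ((ns.map (wd M)).foldl (fun g n => g * n * ltr M 15) 1) = ptC M (toCoOne γ)
      rw [← wd_nil M, key, List.nil_append, V.ptC_wd (fun j hj => by
        simp only [List.mem_flatMap, List.mem_append, List.mem_singleton] at hj
        obtain ⟨n, hn, hj | hj⟩ := hj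
        · have := hns n hn
          simp only [Model.isCN, Bool.and_eq_true] at this
          exact isN_lt' this.1 j hj
        · omega), Nat.eq_of_beq_eq_true hpt, ← hid]
      exact hvc
  · rw [hx] at hcase
    simp only [Bool.and_eq_true, decide_eq_true_eq] at hcase
    obtain ⟨⟨⟨x1, x2⟩, x3⟩, x4⟩ := hcase
    exfalso
    obtain ⟨xv, hxv⟩ := exists_lv x2 (Nat.eq_of_beq_eq_true x1)
    have hn32 : sqNorm (xv : GolayPt → ℤ) ≤ 32 := by
      rw [← dot_self, ← dotL_lv, hxv]; exact x3
    have he : M.clsV v = M.clsV xv := by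
      show m = M.cls (lv xv)
      rw [hxv, Nat.eq_of_beq_eq_true x4, ← hid]
    rcases short_congTwo xv.2 hvn.le (by omega) (Model.clsV_inj V.basic he) with e | e | e
    · rw [e] at hvn; omega
    · rw [e, sqNorm_neg] at hvn; omega
    · omega

end EdgeValid

end CfsgLib.CoOneUnique
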