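import Cfsg.Agent.Lib.CoOneUnique.CoverData

/-!
# The covering certificate on crosses: the model and the levels, checked
-/

set_option autoImplicit false
set_option maxRecDepth 100000
set_option Elab.async false

namespace CfsgLib.CoOneUnique.CoverData

open CfsgLib.CoOneUnique

theorem basicOK : model.basicOK = true := by decide +kernel

theorem rimgOK_0 : model.rimgOK 0 = true := by decide +kernel

theorem rimgOK_1 : model.rimgOK 1 = true := by decide +kernel

theorem rimgOK_2 : model.rimgOK 2 = true := by decide +kernel

theorem rimgOK_3 : model.rimgOK 3 = true := by decide +kernel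

theorem rimgOK_4 : model.rimgOK 4 = true := by decide +kernel

theorem rimgOK_5 : model.rimgOK 5 = true := by decide +kernel

theorem rimgOK_6 : model.rimgOK 6 = true := by decide +kernel

theorem rimgOK_7 : model.rimgOK 7 = true := by decide +kernel

theorem rimgOK_8 : model.rimgOK 8 = true := by decide +kernel

theorem rimgOK_9 : model.rimgOK 9 = true := by decide +kernel

theorem rimgOK_10 : model.rimgOK 10 = true := by decide +kernel

theorem rimgOK_11 : model.rimgOK 11 = true := by decide +kernel

theorem rimgOK_12 : model.rimgOK 12 = true := by decide +kernel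

theorem rimgOK_13 : model.rimgOK 13 = true := by decide +kernel

theorem rimgOK_14 : model.rimgOK 14 = true := by decide +kernel

/-- Conjugation of masks. -/
theorem rimgOK : ∀ j < 15, model.rimgOK j = true
  | 0, _ => rimgOK_0
  | 1, _ => rimgOK_1
  | 2, _ => rimgOK_2
  | 3, _ => rimgOK_3
  | 4, _ => rimgOK_4
  | 5, _ => rimgOK_5
  | 6, _ => rimgOK_6
  | 7, _ => rimgOK_7
  | 8, _ => rimgOK_8
  | 9, _ => rimgOK_9
  | 10, _ => rimgOK_10
  | 11, _ => rimgOK_11
  | 12, _ => rimgOK_12
  | 13, _ => rimgOK_13
  | 14, _ => rimgOK_14
  | n + 15, h => absurd h (Nat.not_lt.mpr (Nat.le_add_left 15 n))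

theorem levOK_0 : model.levOK 0 = true := by decide +kernel

theorem levOK_1 : model.levOK 1 = true := by decide +kernel

theorem levOK_2 : model.levOK 2 = true := by decide +kernel

theorem levOK_3 : model.levOK 3 = true := by decide +kernel

theorem levOK_4 : model.levOK 4 = true := by decide +kernel

theorem levOK_5 : model.levOK 5 = true := by decide +kernel

theorem levOK_6 : model.levOK 6 = true := by decide +kernel

theorem levOK_7 : model.levOK 7 = true := by decide +kernel

theorem levOK_8 : model.levOK 8 = true := by decide +kernel

theorem levOK_9 : model.levOK 9 = true := by decide +kernel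

theorem levOK_10 : model.levOK 10 = true := by decide +kernel

theorem levOK_11 : model.levOK 11 = true := by decide +kernel

theorem levOK_12 : model.levOK 12 = true := by decide +kernel

theorem levOK_13 : model.levOK 13 = true := by decide +kernel

theorem levOK_14 : model.levOK 14 = true := by decide +kernel

/-- Invariance of the level. -/
theorem levOK : ∀ j < 15, model.levOK j = true
  | 0, _ => levOK_0
  | 1, _ => levOK_1
  | 2, _ => levOK_2
  | 3, _ => levOK_3
  | 4, _ => levOK_4
  | 5, _ => levOK_5
  | 6, _ => levOK_6
  | 7, _ => levOK_7
  | 8, _ => levOK_8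
  | 9, _ => levOK_9
  | 10, _ => levOK_10
  | 11, _ => levOK_11
  | 12, _ => levOK_12
  | 13, _ => levOK_13
  | 14, _ => levOK_14
  | n + 15, h => absurd h (Nat.not_lt.mpr (Nat.le_add_left 15 n))

theorem edgeCentOK : model.edgeCentOK = true := by decide +kernel

end CfsgLib.CoOneUnique.CoverData
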