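import Mathlib

/-!
# Covering of a coset graph by a completion of two subgroups

`pt` separates the cosets of `N`; `e` in `C` gives the edges. A completion maps bijectively on cosets when the
edge lifts uniquely, and all cycles are made of walks inside residues, level by level.
-/

set_option autoImplicit false

namespace CfsgLib.CoOneUnique.CoverGraph

variable {G V : Type*} [Group G]

/-- The coset graph. -/
structure Graph (G V : Type*) [Group G] where
  /-- The vertex stabilizer. -/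
  N : Subgroup G
  /-- The point stabilizer. -/
  C : Subgroup G
  /-- The edge element. -/
  e : G
  /-- The vertices. -/
  pt : G → V
  /-- Vertices are cosets. -/
  pt_eq : ∀ g h, pt g = pt h ↔ g⁻¹ * h ∈ N
  /-- The edge element lies in the point stabilizer. -/
  e_mem : e ∈ C
  /-- It is an involution. -/
  e_sq : e * e = 1
  /-- It moves the base. -/
  e_not : e ∉ N

variable (Γ : Graph G V)

/-- The next vertices of a walk. -/
def Graph.vertsW : G → List G → List V
  | _, [] => []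
  | g, n :: r => Γ.pt (g * n * Γ.e) :: Graph.vertsW (g * n * Γ.e) r

/-- Neighbours. -/
def Graph.Adj (v w : V) : Prop := ∃ g, ∃ n ∈ Γ.N, Γ.pt g = v ∧ Γ.pt (g * n * Γ.e) = w

/-- A closed walk in a residue at `v`, through `u` and last `w`, the others below `k`. -/
def Graph.Walk (lev : V → ℕ) (k : ℕ) (v u w : V) : Prop :=
  ∃ g, ∃ ns : List G, ∃ mid : List V, (∀ n ∈ ns, n ∈ Γ.N ⊓ Γ.C) ∧ Γ.pt g = v ∧
    Γ.vertsW g ns = mid ++ [w, v] ∧ (mid ++ [w]).head? = some u ∧ lev u < k ∧ ∀ p ∈ mid, lev p < k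

/-- One step between lower neighbours. -/
def Graph.Step (lev : V → ℕ) (v u w : V) : Prop := Γ.Walk lev (lev v) v u w ∧ lev w < lev v

/-- The conditions on the graph. -/
structure Graph.Ok (lev : V → ℕ) (bound : ℕ) : Prop where
  /-- Bounded levels. -/
  lt : ∀ g, lev (Γ.pt g) < bound
  /-- Level zero is the base only. -/
  zero : ∀ g, lev (Γ.pt g) = 0 → g ∈ Γ.N
  /-- The lower neighbours are connected, the lateral edges close up. -/
  cond : ∀ g, 0 < lev (Γ.pt g) → ∃ u0, Γ.Adj (Γ.pt g) u0 ∧ lev u0 < lev (Γ.pt g) ∧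
    ∀ w, Γ.Adj (Γ.pt g) w →
      (lev w < lev (Γ.pt g) → Relation.EqvGen (Γ.Step lev (Γ.pt g)) u0 w) ∧
      (lev w = lev (Γ.pt g) → ∃ u, Γ.Walk lev (lev (Γ.pt g)) (Γ.pt g) u w)
  /-- The point stabilizer is covered by the residue of the base. -/
  res : ∀ c ∈ Γ.C, ∃ ns : List G, (∀ n ∈ ns, n ∈ Γ.N ⊓ Γ.C) ∧
    Γ.pt (ns.foldl (fun g n => g * n * Γ.e) 1) = Γ.pt c

/-- A completion: lifts of both subgroups and of the edge element. -/
structure Completion (D : Type*) [Group D] where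
  /-- The projection. -/
  π : D →* G
  /-- The lift of the vertex stabilizer. -/
  DN : Subgroup D
  /-- The lift of the point stabilizer. -/
  DC : Subgroup D
  /-- The lift of the edge element. -/
  et : D
  /-- It projects to the edge element. -/
  π_e : π et = Γ.e
  /-- It lies in the lift. -/
  e_mem : et ∈ DC
  /-- Images. -/
  mapN : DN.map π = Γ.N
  /-- Images. -/
  mapC : DC.map π = Γ.C
  /-- Injective on the vertex part. -/
  injN : Set.InjOn π DN
  /-- Injective on the point part. -/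
  injC : Set.InjOn π DC
  /-- The intersection is seen in both. -/
  inter : Γ.C ⊓ Γ.N ≤ (DC ⊓ DN).map π
  /-- Generation. -/
  gen : DN ⊔ DC = ⊤
  /-- Edges lift uniquely. -/
  cov : ∀ n ∈ DN, Γ.pt (π n * Γ.e) = Γ.pt Γ.e → et⁻¹ * n * et ∈ DN

variable {Γ} {D : Type*} [Group D] (T : Completion Γ D)

/-- The vertex under an element. -/
def Completion.p (d : D) : V := Γ.pt (T.π d)

/-- The same coset. -/
def Completion.Eqv (a b : D) : Prop := a⁻¹ * b ∈ T.DN

/-- Adjacent cosets. -/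
def Completion.E (a b : D) : Prop := ∃ n ∈ T.DN, T.Eqv (a * n * T.et) b

namespace Completion

theorem eqv_refl (a : D) : T.Eqv a a := by simp [Eqv, one_mem]

theorem eqv_symm {a b : D} (h : T.Eqv a b) : T.Eqv b a := by simpa [Eqv] using inv_mem h

theorem eqv_trans {a b c : D} (h : T.Eqv a b) (h' : T.Eqv b c) : T.Eqv a c := by
  simpa [Eqv, mul_assoc] using mul_mem h h'

theorem p_eqv {a b : D} (h : T.Eqv a b) : T.p a = T.p b := by
  rw [p, p, Γ.pt_eq, ← T.mapN, ← map_inv, ← map_mul]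
  exact Subgroup.mem_map_of_mem T.π h

theorem p_mul (a n : D) (hn : n ∈ T.DN) : T.p (a * n) = T.p a :=
  T.p_eqv (by simpa [Eqv] using inv_mem hn)

theorem e_sq : T.et * T.et = 1 :=
  T.injC (mul_mem T.e_mem T.e_mem) (one_mem _) (by rw [map_mul, T.π_e, Γ.e_sq, map_one])

theorem e_inv : T.et⁻¹ = T.et := inv_eq_of_mul_eq_one_right T.e_sq

theorem exists_lift {g : G} (h : g ∈ Γ.N) : ∃ n ∈ T.DN, T.π n = g := Subgroup.mem_map.1 (T.mapN ▸ h)

theorem exists_lift_inter {g : G} (h : g ∈ Γ.N ⊓ Γ.C) : ∃ n, n ∈ T.DC ∧ n ∈ T.DN ∧ T.π n = g := by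
  obtain ⟨n, ⟨h1, h2⟩, h3⟩ := Subgroup.mem_map.1 (T.inter ⟨h.2, h.1⟩)
  exact ⟨n, h1, h2, h3⟩

theorem π_mem_N {n : D} (h : n ∈ T.DN) : T.π n ∈ Γ.N := T.mapN ▸ Subgroup.mem_map_of_mem T.π h

theorem π_mem_C {n : D} (h : n ∈ T.DC) : T.π n ∈ Γ.C := T.mapC ▸ Subgroup.mem_map_of_mem T.π h

/-- Inside a residue the lift is determined by the vertex. -/
theorem residue_inj {a c c' : D} (hc : c ∈ T.DC) (hc' : c' ∈ T.DC) (h : T.p (a * c) = T.p (a * c')) :
    T.Eqv (a * c) (a * c') := by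
  have hd : c⁻¹ * c' ∈ T.DC := mul_mem (inv_mem hc) hc'
  have hN : T.π (c⁻¹ * c') ∈ Γ.N := by
    rw [p, p, Γ.pt_eq, ← map_inv, ← map_mul] at h
    simpa [mul_assoc] using h
  obtain ⟨n, h1, h2, h3⟩ := T.exists_lift_inter ⟨hN, T.π_mem_C hd⟩
  have he : n = c⁻¹ * c' := T.injC h1 hd h3
  simpa [Eqv, mul_assoc, he] using h2

theorem E_eqv {a a' b b' : D} (ha : T.Eqv a a') (hb : T.Eqv b b') (h : T.E a b) : T.E a' b' := by
  obtain ⟨n, hn, h⟩ := h
  refine ⟨(a⁻¹ * a')⁻¹ * n, mul_mem (inv_mem ha) hn, ?_⟩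
  have h' := T.eqv_trans h hb
  simpa [Eqv, mul_assoc] using h'

theorem E_symm {a b : D} (h : T.E a b) : T.E b a := by
  obtain ⟨n, hn, h⟩ := h
  refine ⟨((a * n * T.et)⁻¹ * b)⁻¹, inv_mem h, ?_⟩
  have : b * ((a * n * T.et)⁻¹ * b)⁻¹ * T.et = a * n := by
    rw [mul_inv_rev, inv_inv, ← mul_assoc, mul_inv_cancel, one_mul, mul_assoc, T.e_sq, mul_one]
  rw [this]
  simpa [Eqv] using inv_mem hn

/-- Edges lift uniquely. -/
theorem E_unique {a b b' : D} (h : T.E a b) (h' : T.E a b') (hp : T.p b = T.p b') : T.Eqv b b' := by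
  obtain ⟨n, hn, h⟩ := h
  obtain ⟨m, hm, h'⟩ := h'
  have hk : n⁻¹ * m ∈ T.DN := mul_mem (inv_mem hn) hm
  have hy : T.p (a * n * T.et) = T.p (a * m * T.et) := by rw [T.p_eqv h, T.p_eqv h', hp]
  have hc := T.cov _ hk (by
    simp only [p, Γ.pt_eq, map_mul, map_inv, T.π_e] at hy ⊢
    have := inv_mem hy
    simpa [mul_assoc] using this)
  refine T.eqv_trans (T.eqv_symm h) (T.eqv_trans ?_ h')
  simpa [Eqv, mul_assoc] using hc

theorem adj_of_E {a b : D} (h : T.E a b) : Γ.Adj (T.p a) (T.p b) := by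
  obtain ⟨n, hn, h⟩ := h
  exact ⟨T.π a, T.π n, T.π_mem_N hn, rfl, by rw [← T.p_eqv h, p, map_mul, map_mul, T.π_e]⟩

theorem exists_E {a : D} {w : V} (h : Γ.Adj (T.p a) w) : ∃ b, T.E a b ∧ T.p b = w := by
  obtain ⟨g, n, hn, hg, hw⟩ := h
  rw [p] at hg
  obtain ⟨m, hm, hm'⟩ := T.exists_lift (g := (T.π a)⁻¹ * g * n)
    (mul_mem ((Γ.pt_eq _ _).1 hg.symm) hn)
  exact ⟨a * m * T.et, ⟨m, hm, T.eqv_refl _⟩, by rw [p, map_mul, map_mul, hm', T.π_e, ← hw]; simp [mul_assoc]⟩

end Completion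

/-- A section up to level `k` along which all edges lift. -/
structure Section (lev : V → ℕ) (k : ℕ) (s : V → D) : Prop where
  /-- It is a section. -/
  p_s : ∀ g, lev (Γ.pt g) < k → T.p (s (Γ.pt g)) = Γ.pt g
  /-- Edges lift. -/
  good : ∀ g g', lev (Γ.pt g) < k → lev (Γ.pt g') < k → Γ.Adj (Γ.pt g) (Γ.pt g') →
    T.E (s (Γ.pt g)) (s (Γ.pt g'))
  /-- The base. -/
  base : ∀ g, lev (Γ.pt g) = 0 → s (Γ.pt g) = 1

theorem adj_range {v w : V} (h : Γ.Adj v w) : ∃ g, Γ.pt g = w := by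
  obtain ⟨g, n, -, -, h⟩ := h
  exact ⟨_, h⟩

theorem adj_symm {v w : V} (h : Γ.Adj v w) : Γ.Adj w v := by
  obtain ⟨g, n, hn, hv, hw⟩ := h
  refine ⟨g * n * Γ.e, 1, one_mem _, hw, ?_⟩
  rw [mul_one, mul_assoc (g * n), Γ.e_sq, mul_one, ← hv, Γ.pt_eq]
  simpa using inv_mem hn

/-- The walk lifted into one residue: it passes the section at every lower vertex. -/
theorem walk_lift {lev : V → ℕ} {k : ℕ} {s : V → D} (hs : Section T lev k s) :
    ∀ (ns : List G) (a : D) (c : D) (mid : List V) (w v : V), c ∈ T.DC →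
      (∀ n ∈ ns, n ∈ Γ.N ⊓ Γ.C) → Γ.vertsW (T.π (a * c)) ns = mid ++ [w, v] →
      lev (T.p (a * c)) < k → T.Eqv (a * c) (s (T.p (a * c))) → (∀ p ∈ mid, lev p < k) →
      ∃ c₁ ∈ T.DC, T.p (a * c₁) = w ∧ (lev w < k → T.Eqv (a * c₁) (s w)) ∧
        (∃ x ∈ T.DC, T.E (a * x) (a * c₁) ∧ lev (T.p (a * x)) < k ∧ T.Eqv (a * x) (s (T.p (a * x)))) ∧
        ∃ c₂ ∈ T.DC, T.p (a * c₂) = v ∧ T.E (a * c₁) (a * c₂) := by
  intro ns
  induction ns with
  | nil => intro a c mid w v _ _ h; simp [Graph.vertsW] at h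
  | cons n r ih =>
    intro a c mid w v hc hns h hlev hsc hmid
    obtain ⟨n₁, hnC, hnN, hnn⟩ := T.exists_lift_inter (hns n (by simp))
    set c' := c * n₁ * T.et with hc'
    have hc'm : c' ∈ T.DC := mul_mem (mul_mem hc hnC) T.e_mem
    have hE : T.E (a * c) (a * c') := ⟨n₁, hnN, by rw [hc', mul_assoc a, mul_assoc, ← mul_assoc a]; exact T.eqv_refl _⟩
    have hπ : T.π (a * c') = T.π (a * c) * n * Γ.e := by simp [hc', map_mul, hnn, T.π_e, mul_assoc]
    rw [Graph.vertsW, ← hπ] at h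
    have hgood : lev (T.p (a * c')) < k → T.Eqv (a * c') (s (T.p (a * c'))) := by
      intro hl
      have hg := hs.good (T.π (a * c)) (T.π (a * c')) hlev hl (T.adj_of_E hE)
      exact T.E_unique (T.E_eqv hsc (T.eqv_refl _) hE) hg (hs.p_s _ hl).symm
    rcases mid with _ | ⟨p, mid⟩
    · rw [List.nil_append, List.cons.injEq] at h
      obtain ⟨hw, hr⟩ := h
      refine ⟨c', hc'm, hw, fun hl => ?_, ⟨c, hc, hE, hlev, hsc⟩, ?_⟩
      · rw [← hw] at hl ⊢; exact hgood hl
      · rcases r with _ | ⟨n', r⟩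
        · simp [Graph.vertsW] at hr
        · obtain ⟨m, hmC, hmN, hmn⟩ := T.exists_lift_inter (hns n' (by simp))
          rw [Graph.vertsW, List.cons.injEq] at hr
          refine ⟨c' * m * T.et, mul_mem (mul_mem hc'm hmC) T.e_mem, ?_, m, hmN, ?_⟩
          · rw [← hr.1]; simp [Completion.p, map_mul, hmn, T.π_e, mul_assoc]
          · rw [show a * c' * m * T.et = a * (c' * m * T.et) by simp [mul_assoc]]; exact T.eqv_refl _
    · rw [List.cons_append, List.cons.injEq] at h
      obtain ⟨hp, hr⟩ := h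
      have hl : lev (T.p (a * c')) < k := by rw [Completion.p, hp]; exact hmid p (by simp)
      exact ih a c' mid w v hc'm (fun x hx => hns x (List.mem_cons_of_mem _ hx)) hr hl (hgood hl)
        fun x hx => hmid x (List.mem_cons_of_mem _ hx)

/-- A closed walk lifts closed. -/
theorem walk_closed {lev : V → ℕ} {k : ℕ} {s : V → D} (hs : Section T lev k s) {v u w : V}
    (hW : Γ.Walk lev k v u w) : ∃ a b : D, T.p a = v ∧ T.p b = w ∧ T.E a (s u) ∧ T.E b a ∧
      (lev w < k → T.Eqv b (s w)) ∧ Γ.Adj v u ∧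
      (w ≠ u → ∃ g', lev (Γ.pt g') < k ∧ T.E (s (Γ.pt g')) b) := by
  obtain ⟨g, ns, mid, hns, hg, hv, hu, hlu, hmid⟩ := hW
  obtain ⟨a₀, ha₀, hA⟩ : ∃ n r, ns = n :: r ∧ Γ.vertsW g ns = Γ.pt (g * n * Γ.e) :: Γ.vertsW (g * n * Γ.e) r := by
    rcases ns with _ | ⟨n, r⟩
    · simp [Graph.vertsW] at hv
    · exact ⟨n, r, rfl, rfl⟩
  obtain ⟨rfl, hA⟩ := hA
  obtain ⟨n₁, hnC, hnN, hnn⟩ := T.exists_lift_inter (hns a₀ (by simp))
  have hu' : Γ.pt (g * a₀ * Γ.e) = u := by
    rw [hA] at hv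
    rcases mid with _ | ⟨p, mid⟩ <;> simp only [List.nil_append, List.cons_append, List.cons.injEq] at hv <;>
      simp only [List.nil_append, List.cons_append, List.head?_cons, Option.some.injEq] at hu <;>
      exact hv.1.trans hu
  -- translate so that the first lifted step ends at the section
  set d := s u * (n₁ * T.et)⁻¹ with hd
  have hsu : T.p (s u) = u := by rw [← hu']; exact hs.p_s _ (by rwa [hu'])
  obtain ⟨m, hm, hmg⟩ := T.exists_lift ((Γ.pt_eq (T.π (s u)) (g * a₀ * Γ.e)).1 (by rw [hu']; exact hsu))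
  set a := s u * m * T.et * n₁⁻¹ with ha
  have hπa : T.π a = g := by
    rw [ha, map_mul, map_mul, map_mul, map_inv, hnn, T.π_e, hmg]
    simp [mul_assoc, Γ.e_sq]
  have hc1 : n₁ * T.et ∈ T.DC := mul_mem hnC T.e_mem
  have hac : a * (n₁ * T.et) = s u * m := by
    rw [ha]; simp [mul_assoc, T.e_sq]
  have hfirst : T.Eqv (a * (n₁ * T.et)) (s (T.p (a * (n₁ * T.et)))) := by
    rw [hac, T.p_mul _ _ hm, hsu]
    simpa [Completion.Eqv] using inv_mem hm
  have hEau : T.E a (s u) := ⟨n₁, hnN, by rw [mul_assoc, hac]; simpa [Completion.Eqv] using inv_mem hm⟩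
  have hpu : T.p (a * (n₁ * T.et)) = u := by rw [hac, T.p_mul _ _ hm, hsu]
  have hadj : Γ.Adj v u := ⟨g, a₀, (hns a₀ (by simp)).1, hg, hu'⟩
  rcases mid with _ | ⟨p, mid⟩
  · -- the walk of two steps
    obtain rfl : w = u := by simpa using hu
    rw [hA, List.nil_append, List.cons.injEq] at hv
    exact ⟨a, s w, by rw [Completion.p, hπa, hg], hsu, hEau, T.E_symm hEau, fun _ => T.eqv_refl _, hadj,
      fun h => absurd rfl h⟩
  · have hp : p = u := by simpa using hu
    rw [hA, List.cons_append, List.cons.injEq] at hv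
    obtain ⟨c₁, hc₁, hp₁, hs₁, ⟨x, hx, hxE, hxl, hxs⟩, c₂, hc₂, hp₂, hE⟩ :=
      walk_lift T hs _ a (n₁ * T.et) mid w v hc1 (fun z hz => hns z (List.mem_cons_of_mem _ hz))
        (by rw [← hv.2, map_mul, hπa, map_mul, hnn, T.π_e, mul_assoc]) (by rwa [hpu]) hfirst
        (fun z hz => hmid z (List.mem_cons_of_mem _ hz))
    have h0 : T.Eqv (a * c₂) (a * 1) := T.residue_inj hc₂ (one_mem _)
      (by rw [hp₂, mul_one, Completion.p, hπa, hg])
    rw [mul_one] at h0
    exact ⟨a, a * c₁, by rw [Completion.p, hπa, hg], hp₁, hEau, T.E_eqv (T.eqv_refl _) h0 hE, hs₁, hadj,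
      fun _ => ⟨T.π (a * x), hxl, T.E_eqv hxs (T.eqv_refl _) hxE⟩⟩

/-- The section exists at every level. -/
theorem exists_section {lev : V → ℕ} {bound : ℕ} (ok : Γ.Ok lev bound) (k : ℕ) :
    ∃ s, Section T lev k s := by
  classical
  induction k with
  | zero => exact ⟨fun _ => 1, fun _ h => absurd h (Nat.not_lt_zero _), fun _ _ h => absurd h (Nat.not_lt_zero _),
      fun _ _ => rfl⟩
  | succ k ih =>
    obtain ⟨s, hs⟩ := ih
    rcases Nat.eq_zero_or_pos k with rfl | hk
    · refine ⟨fun _ => 1, fun g hg => ?_, fun g g' hg hg' hadj => ?_, fun _ _ => rfl⟩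
      · rw [Completion.p, map_one, Γ.pt_eq]
        simpa using ok.zero g (by omega)
      · exfalso
        obtain ⟨h, n, hn, hv, hw⟩ := hadj
        have h1 : h ∈ Γ.N := ok.zero h (by rw [hv]; omega)
        have h2 : h * n * Γ.e ∈ Γ.N := ok.zero _ (by rw [hw]; omega)
        exact Γ.e_not (by simpa [mul_assoc] using mul_mem (inv_mem (mul_mem h1 hn)) h2)
    · -- the lift at a vertex of level `k`
      have hlift : ∀ g, lev (Γ.pt g) = k → ∃ b, T.p b = Γ.pt g ∧ ∀ w, Γ.Adj (Γ.pt g) w → lev w < k →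
          T.E b (s w) := by
        intro g hg
        obtain ⟨u0, hu0, hl0, hw⟩ := ok.cond g (by omega)
        obtain ⟨g0, rfl⟩ := adj_range hu0
        obtain ⟨b, hb, hpb⟩ := T.exists_E (a := s (Γ.pt g0)) (w := Γ.pt g)
          (by rw [hs.p_s g0 (hg ▸ hl0)]; exact adj_symm hu0)
        refine ⟨b, hpb, fun w hwa hwl => ?_⟩
        have hP : ∀ x y, Relation.EqvGen (Γ.Step lev (Γ.pt g)) x y → (T.E b (s x) ↔ T.E b (s y)) := by
          intro x y hxy
          induction hxy with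
          | refl => rfl
          | symm _ _ _ ih => exact ih.symm
          | trans _ _ _ _ _ ih1 ih2 => exact ih1.trans ih2
          | rel x y hst =>
            obtain ⟨hW, hly⟩ := hst
            rw [hg] at hW hly
            obtain ⟨a, b', hpa, hpb', hau, hb'a, hsy, hadj, -⟩ := walk_closed T hs hW
            obtain ⟨gx, rfl⟩ := adj_range hadj
            have hy : T.E (s y) a := T.E_eqv (hsy hly) (T.eqv_refl _) hb'a
            constructor
            · intro hbx
              have := T.E_unique (T.E_symm hbx) (T.E_symm hau) (hpb.trans hpa.symm)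
              exact T.E_symm (T.E_eqv (T.eqv_refl _) (T.eqv_symm this) hy)
            · intro hby
              have := T.E_unique (T.E_symm hby) hy (hpb.trans hpa.symm)
              exact T.E_eqv (T.eqv_symm this) (T.eqv_refl _) hau
        exact (hP _ _ ((hw w hwa).1 (hg ▸ hwl))).1 (T.E_symm hb)
      have hlift' : ∀ v, ∃ b, ∀ g, Γ.pt g = v → lev v = k → T.p b = v ∧
          ∀ w, Γ.Adj v w → lev w < k → T.E b (s w) := by
        intro v
        by_cases h : ∃ g, Γ.pt g = v ∧ lev v = k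
        · obtain ⟨g, rfl, hg⟩ := h
          obtain ⟨b, h1, h2⟩ := hlift g hg
          exact ⟨b, fun _ _ _ => ⟨h1, h2⟩⟩
        · exact ⟨1, fun g hg hl => absurd ⟨g, hg, hl⟩ h⟩
      choose f hf using hlift'
      let s' : V → D := fun v => if lev v = k then f v else s v
      have hk' : ∀ v, lev v = k → s' v = f v := fun v h => if_pos h
      have hlt : ∀ v, lev v < k → s' v = s v := fun v h => if_neg h.ne
      refine ⟨s', fun g hg => ?_, fun g g' hg hg' hadj => ?_, fun g hg => by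
        rw [hlt _ (by omega)]; exact hs.base g hg⟩
      · rcases Nat.lt_succ_iff_lt_or_eq.1 hg with h | h
        · rw [hlt _ h]; exact hs.p_s g h
        · rw [hk' _ h]; exact (hf _ g rfl h).1
      · rcases Nat.lt_succ_iff_lt_or_eq.1 hg with h | h <;> rcases Nat.lt_succ_iff_lt_or_eq.1 hg' with h' | h'
        · rw [hlt _ h, hlt _ h']; exact hs.good g g' h h' hadj
        · rw [hlt _ h, hk' _ h']; exact T.E_symm ((hf _ g' rfl h').2 _ (adj_symm hadj) h)
        · rw [hk' _ h, hlt _ h']; exact (hf _ g rfl h).2 _ hadj h'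
        · -- a lateral edge
          obtain ⟨u0, -, -, hw⟩ := ok.cond g (by omega)
          obtain ⟨u, hW⟩ := (hw _ hadj).2 (h'.trans h.symm)
          rw [h] at hW
          obtain ⟨a, b, hpa, hpb, hau, hba, -, hadju, hpred⟩ := walk_closed T hs hW
          have hlu : lev u < k := by obtain ⟨_, _, _, _, _, _, _, hlu, _⟩ := hW; exact hlu
          have hne : Γ.pt g' ≠ u := fun e => by rw [e] at h'; omega
          obtain ⟨gu, rfl⟩ := adj_range hadju
          have ha : T.Eqv (f (Γ.pt g)) a := T.E_unique (T.E_symm ((hf _ g rfl h).2 _ hadju hlu))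
            (T.E_symm hau) ((hf _ g rfl h).1.trans hpa.symm)
          obtain ⟨g1, hl1, hb⟩ := hpred hne
          have hadj1 : Γ.Adj (Γ.pt g') (Γ.pt g1) := by
            have := T.adj_of_E (T.E_symm hb)
            rwa [hpb, hs.p_s g1 hl1] at this
          have hb' : T.Eqv (f (Γ.pt g')) b := T.E_unique (T.E_symm ((hf _ g' rfl h').2 _ hadj1 hl1)) hb
            ((hf _ g' rfl h').1.trans hpb.symm)
          rw [hk' _ h, hk' _ h']
          exact T.E_eqv (T.eqv_symm ha) (T.eqv_symm hb') (T.E_symm hba)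

/-- The completion maps injectively. -/
theorem injective {lev : V → ℕ} {bound : ℕ} (h0 : lev (Γ.pt 1) = 0) (ok : Γ.Ok lev bound) :
    Function.Injective T.π := by
  obtain ⟨s, hs⟩ := exists_section T ok bound
  have hbase : T.p 1 = Γ.pt 1 := by rw [Completion.p, map_one]
  -- the elements through which the section is reached
  let R : D → Prop := fun d => T.Eqv d (s (T.p d))
  have hN : ∀ d n, n ∈ T.DN → R d → R (d * n) := fun d n hn hd => by
    show T.Eqv _ _
    rw [T.p_mul d n hn]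
    exact T.eqv_trans (by simpa [Completion.Eqv] using inv_mem hn) hd
  have hE : ∀ d, R d → R (d * T.et) := fun d hd => by
    have hE : T.E d (d * T.et) := ⟨1, one_mem _, by rw [mul_one]; exact T.eqv_refl _⟩
    have hg := hs.good _ _ (ok.lt (T.π d)) (ok.lt (T.π (d * T.et))) (T.adj_of_E hE)
    exact T.E_unique (T.E_eqv hd (T.eqv_refl _) hE) hg (hs.p_s _ (ok.lt _)).symm
  have hC : ∀ d c, c ∈ T.DC → R d → R (d * c) := by
    intro d c hc hd
    obtain ⟨ns, hns, hpt⟩ := ok.res _ (T.π_mem_C hc)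
    have key : ∀ (ns : List G) (c₀ : D), (∀ n ∈ ns, n ∈ Γ.N ⊓ Γ.C) → c₀ ∈ T.DC → R (d * c₀) →
        ∃ c₁ ∈ T.DC, R (d * c₁) ∧ T.π c₁ = ns.foldl (fun g n => g * n * Γ.e) (T.π c₀) := by
      intro ns
      induction ns with
      | nil => exact fun c₀ _ h1 h2 => ⟨c₀, h1, h2, rfl⟩
      | cons n r ih =>
        intro c₀ hns h1 h2
        obtain ⟨m, hmC, hmN, hmn⟩ := T.exists_lift_inter (hns n (by simp))
        obtain ⟨c₁, g1, g2, g3⟩ := ih (c₀ * m * T.et) (fun x hx => hns x (List.mem_cons_of_mem _ hx))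
          (mul_mem (mul_mem h1 hmC) T.e_mem) (by
            have := hE _ (hN _ m hmN h2)
            simpa [mul_assoc] using this)
        refine ⟨c₁, g1, g2, ?_⟩
        rw [g3, List.foldl_cons, map_mul, map_mul, hmn, T.π_e]
    obtain ⟨c₁, hc₁, hR, hπ⟩ := key ns 1 hns (one_mem _) (by rwa [mul_one])
    rw [map_one] at hπ
    have he : T.Eqv c₁ c := by
      have := T.residue_inj (a := 1) hc₁ hc (by rw [one_mul, one_mul, Completion.p, Completion.p, hπ, hpt])
      rwa [one_mul, one_mul] at this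
    have := hN _ _ he hR
    simpa [mul_assoc] using this
  let H : Subgroup D :=
    { carrier := {x | ∀ d, R d ↔ R (d * x)}
      one_mem' := fun d => by rw [mul_one]
      mul_mem' := fun {x y} hx hy d => by rw [← mul_assoc]; exact (hx d).trans (hy _)
      inv_mem' := fun {x} hx d => by simpa using (hx (d * x⁻¹)).symm }
  have htop : (⊤ : Subgroup D) ≤ H := by
    rw [← T.gen, sup_le_iff]
    constructor
    · exact fun n hn d => ⟨hN d n hn, fun h => by simpa using hN _ _ (inv_mem hn) h⟩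
    · exact fun c hc d => ⟨hC d c hc, fun h => by simpa using hC _ _ (inv_mem hc) h⟩
  have h1 : R 1 := by
    show T.Eqv _ _
    rw [hbase, hs.base 1 h0]
    exact T.eqv_refl _
  rw [injective_iff_map_eq_one]
  intro d hd
  have hR : R d := by simpa using (htop (Subgroup.mem_top d) 1).1 h1
  have hp : T.p d = Γ.pt 1 := by rw [Completion.p, hd]
  have : T.Eqv d 1 := by
    have := hR
    simp only [R, hp, hs.base 1 h0] at this
    exact this
  exact T.injN (by simpa [Completion.Eqv] using inv_mem this) (one_mem _) (by rw [hd, map_one])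

end CfsgLib.CoOneUnique.CoverGraph
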