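import Cfsg.Agent.Lib.CoOneUnique.CoverLin
import Cfsg.Agent.Lib.CoOneUnique.CoverGraph
import Cfsg.Agent.Lib.CoOneUnique.Model
import Cfsg.Agent.Lib.Golay.CrossMaximal

/-!
# Crosses as numbers: the action of the letters in Co1

`pt` is the cross of an element; letters act by their matrices, and conjugate the sign changes by their images on
masks.
-/

set_option autoImplicit false
set_option maxRecDepth 100000
set_option maxHeartbeats 1000000

noncomputable section

namespace CfsgLib.CoOneUnique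

open Cfsg CfsgLib.Golay CfsgLib.Golay.LeechOrbit CfsgLib.CoOneGolay CfsgLib.MonsterType CfsgLib.Sporadic.CoOne
  CfsgLib.Sporadic.CoTwo
open scoped Pointwise

theorem toCoOne_surj : Function.Surjective toCoOne := QuotientGroup.mk'_surjective _

/-- An element of `M24` with a given image list. -/
def permOf (l : List ℕ) : ↥M24 :=
  if h : genOK l = true then ⟨(exists_perm h).choose, (exists_perm h).choose_spec.1⟩ else 1

theorem toList_permOf {l : List ℕ} (h : genOK l = true) : toList (permOf l).1 = l := by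
  rw [permOf, dif_pos h]
  exact (exists_perm h).choose_spec.2

/-- The permutation letters. -/
def letterPerm : ℕ → ↥M24
  | 0 => ⟨shiftPerm, shiftPerm_mem_M24⟩
  | 1 => ⟨projInv, projInv_mem_M24⟩
  | _ => ⟨cubeTwist, cubeTwist_mem_M24⟩

theorem toList_letterPerm : ∀ j < 3, toList (letterPerm j).1 = [permS, permT, permC].getD j [] := by
  intro j hj
  interval_cases j
  exacts [toList_shiftPerm, toList_projInv, toList_cubeTwist]

theorem isCode_gen (i : ℕ) : isCode (gens.getD i 0) = true := by
  by_cases h : i < gens.length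
  · rw [List.getD_eq_getElem _ _ h]; exact isCode_gens _ (List.getElem_mem h)
  · rw [List.getD_eq_default _ _ (not_lt.1 h)]; exact isCode_zero

/-- The sign letters. -/
def genWord (i : ℕ) : golayCode := ⟨dec (gens.getD i 0), dec_mem_of_isCode (isCode_gen i)⟩

/-- The letters in Co0. -/
def ltr0 (M : Model) (j : ℕ) : Co0 :=
  if j < 3 then permW (letterPerm j)
  else if j < 15 then sgnW (genWord (j - 3))
  else permW (permOf M.sigma) * xiW * (permW (permOf M.sigma))⁻¹

/-- The letters in Co1. -/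
def ltr (M : Model) (j : ℕ) : Spor.Co1 := toCoOne (ltr0 M j)

/-- The words in Co0. -/
def wd0 (M : Model) (w : List ℕ) : Co0 := (w.map (ltr0 M)).prod

/-- The words in Co1. -/
def wd (M : Model) (w : List ℕ) : Spor.Co1 := toCoOne (wd0 M w)

theorem wd_nil (M : Model) : wd M [] = 1 := by simp [wd, wd0]

theorem wd_cons (M : Model) (j : ℕ) (w : List ℕ) : wd M (j :: w) = ltr M j * wd M w := by
  simp [wd, wd0, ltr, map_mul]

theorem wd_append (M : Model) (a b : List ℕ) : wd M (a ++ b) = wd M a * wd M b := by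
  simp [wd, wd0, map_mul]

theorem wd_singleton (M : Model) (j : ℕ) : wd M [j] = ltr M j := by simp [wd_cons, wd_nil]

/-- The cross of an element of Co1. -/
def ptC (M : Model) (g : Spor.Co1) : ℕ := M.clsV (Function.surjInv toCoOne_surj g • e0)

/-- The hypotheses on the model. -/
structure Valid (M : Model) : Prop where
  /-- Base vectors and duals. -/
  basic : M.basicOK = true
  /-- Matrices. -/
  mat : ∀ j < 16, M.matOK j = true
  /-- Images of masks. -/
  rimg : ∀ j < 15, M.rimgOK j = true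
  /-- Levels. -/
  lev : ∀ j < 15, M.levOK j = true
  /-- The edge element centralizes. -/
  cent : M.edgeCentOK = true
  /-- The second list inverts the first. -/
  inv : comp M.sigma (invP M.sigma) = List.range 24
  /-- The lists of mask images have eleven entries. -/
  rlen : ∀ j < 15, (M.rimg.getD j []).length = 11
  /-- The projection has twelve bits. -/
  plt : ∀ a ∈ M.proj, a < 4096
  /-- The edge moves the base. -/
  move : M.ptW [15] ≠ M.x0

namespace Valid

variable {M : Model} (V : Valid M)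
include V

theorem clsV_congr {γ δ : Co0} (h : toCoOne γ = toCoOne δ) (v : leechLattice) :
    M.clsV (γ • v) = M.clsV (δ • v) := by
  rcases toCoOne_eq_iff.1 h with rfl | rfl
  · rfl
  · rw [mul_smul, negW_smul, Model.clsV_neg V.basic]

theorem ptC_mk (γ : Co0) : ptC M (toCoOne γ) = M.clsV (γ • e0) :=
  V.clsV_congr (Function.surjInv_eq toCoOne_surj _) e0

theorem ptC_one : ptC M 1 = M.x0 := by
  rw [← map_one toCoOne, V.ptC_mk, one_smul, Model.clsV_e0 V.basic]

theorem ptC_lt (g : Spor.Co1) : ptC M g < 2 ^ 24 := Model.clsV_lt V.basic _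

/-- The steps of a letter. -/
theorem lv_ltr0 (j : ℕ) (hj : j < 16) (v : leechLattice) :
    lv (ltr0 M j • v) = appSteps ((letterSteps M.sigma).getD j []) (lv v) := by
  obtain ⟨hσ, -⟩ := Model.basic V.basic
  rcases Nat.lt_or_ge j 3 with h3 | h3
  · rw [ltr0, if_pos h3, lv, toL_permW _ (toList_letterPerm j h3)]
    interval_cases j <;> rfl
  rcases Nat.lt_or_ge j 15 with h15 | h15
  · rw [ltr0, if_neg (by omega), if_pos h15]
    have hstep : (letterSteps M.sigma).getD j [] = [.sgn (gens.getD (j - 3) 0)] := by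
      interval_cases j <;> rfl
    rw [hstep]
    exact lv_sgnW _ rfl v
  · obtain rfl : j = 15 := by omega
    have hok := V.mat 15 (by norm_num)
    simp only [Model.matOK, Bool.and_eq_true] at hok
    have hinv : genOK (invP M.sigma) = true := by
      have h := List.all_eq_true.1 hok.1.1 (Step.perm (invP M.sigma))
        (by simp [letterSteps, CfsgLib.Golay.gens])
      exact h
    have he : (permW (permOf M.sigma))⁻¹ = permW (permOf (invP M.sigma)) := by
      refine inv_eq_of_mul_eq_one_right ?_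
      rw [← permHom_apply, ← permHom_apply, ← map_mul,
        show permOf M.sigma * permOf (invP M.sigma) = 1 from Subtype.ext (toList_injective (by
          rw [Subgroup.coe_mul, toList_mul, toList_permOf hσ, toList_permOf hinv, V.inv, Subgroup.coe_one,
            toList_one])), map_one]
    rw [ltr0, if_neg (by omega), if_neg (by omega), he, mul_smul, mul_smul, lv, toL_permW _ (toList_permOf hσ)]
    show moveL (invP M.sigma) (toL (xiF _)) = _
    rw [toL_xiF, toL_permW _ (toList_permOf hinv)]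
    rfl

theorem clsV_ltr0 (j : ℕ) (hj : j < 16) (v : leechLattice) :
    M.clsV (ltr0 M j • v) = spanWord (M.mats.getD j []) (M.clsV v) := by
  have hok := V.mat j hj
  simp only [Model.matOK, Bool.and_eq_true, List.all_eq_true, List.mem_range] at hok
  refine Model.additive_eq V.basic (φ := fun v => M.clsV (ltr0 M j • v))
    (fun a b => by rw [smul_add', Model.clsV_add V.basic]) (Nat.eq_of_beq_eq_true hok.1.2) (fun k hk b hb => ?_) v
  show M.cls (lv (ltr0 M j • b)) = _
  rw [V.lv_ltr0 j hj, hb]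
  exact Nat.eq_of_beq_eq_true (hok.2 k hk)

theorem clsV_wd0 (v : leechLattice) : ∀ (w : List ℕ), (∀ j ∈ w, j < 16) →
    M.clsV (wd0 M w • v) = M.appW w (M.clsV v)
  | [], _ => by simp [wd0, Model.appW]
  | j :: w, h => by
    rw [show wd0 M (j :: w) = ltr0 M j * wd0 M w by simp [wd0], mul_smul, V.clsV_ltr0 j (h j (by simp)),
      clsV_wd0 v w fun x hx => h x (List.mem_cons_of_mem _ hx)]
    rfl

theorem ptC_wd_mul {w : List ℕ} (h : ∀ j ∈ w, j < 16) (g : Spor.Co1) :
    ptC M (wd M w * g) = M.appW w (ptC M g) := by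
  obtain ⟨γ, rfl⟩ := toCoOne_surj g
  rw [wd, ← map_mul, V.ptC_mk, V.ptC_mk, mul_smul, V.clsV_wd0 _ w h]

theorem ptC_wd {w : List ℕ} (h : ∀ j ∈ w, j < 16) : ptC M (wd M w) = M.ptW w := by
  rw [← mul_one (wd M w), V.ptC_wd_mul h, V.ptC_one]
  rfl

theorem mem_NM_iff (g : Spor.Co1) : g ∈ NM ↔ ptC M g = M.x0 := by
  obtain ⟨γ, rfl⟩ := toCoOne_surj g
  have hmem : toCoOne γ ∈ NM ↔ γ ∈ MulAction.stabilizer Co0 stdCrossL := by
    refine ⟨?_, fun h => ⟨γ, h, rfl⟩⟩
    rintro ⟨δ, hδ, e⟩
    rcases toCoOne_eq_iff.1 e.symm with rfl | rfl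
    · exact hδ
    · refine mul_mem (mem_stabilizer_stdCrossL.2 ⟨⟨1, one_mem_golay⟩, 1, ?_⟩) hδ
      rw [← permHom_apply, map_one, mul_one, negW_eq]
  rw [hmem, mem_stabilizer_stdCrossL, ← cong_latE_iff, cong_iff_congTwo, V.ptC_mk, ← Model.clsV_e0 V.basic]
  exact ⟨Model.clsV_congTwo V.basic, Model.clsV_inj V.basic⟩

theorem ptC_congr_left {g h : Spor.Co1} (k : Spor.Co1) (e : ptC M g = ptC M h) :
    ptC M (k * g) = ptC M (k * h) := by
  obtain ⟨γ, rfl⟩ := toCoOne_surj g
  obtain ⟨δ, rfl⟩ := toCoOne_surj h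
  obtain ⟨κ, rfl⟩ := toCoOne_surj k
  rw [V.ptC_mk, V.ptC_mk] at e
  rw [← map_mul, ← map_mul, V.ptC_mk, V.ptC_mk, mul_smul, mul_smul]
  exact Model.clsV_congTwo V.basic ((cong_iff_congTwo _ _).1
    (((cong_iff_congTwo _ _).2 (Model.clsV_inj V.basic e)).smul' κ))

theorem ptC_eq_iff (g h : Spor.Co1) : ptC M g = ptC M h ↔ g⁻¹ * h ∈ NM := by
  rw [V.mem_NM_iff, ← V.ptC_one]
  constructor
  · intro e
    rw [← V.ptC_congr_left g⁻¹ e, inv_mul_cancel]
  · intro e
    have := V.ptC_congr_left g e
    rw [mul_one, mul_inv_cancel_left] at this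
    exact this.symm

omit V in
theorem ltr_mem_NM {j : ℕ} (hj : j < 15) : ltr M j ∈ NM := by
  refine ⟨ltr0 M j, mem_stabilizer_stdCrossL.2 ?_, rfl⟩
  rcases Nat.lt_or_ge j 3 with h | h
  · exact ⟨0, letterPerm j, by rw [ltr0, if_pos h, sgnW_zero, one_mul]⟩
  · exact ⟨genWord (j - 3), 1, by rw [ltr0, if_neg (by omega), if_pos hj, ← permHom_apply, map_one, mul_one]⟩

omit V in
theorem wd_mem_NM : ∀ {w : List ℕ}, (∀ j ∈ w, j < 15) → wd M w ∈ NM
  | [], _ => by rw [wd_nil]; exact one_mem _
  | j :: w, h => by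
    rw [wd_cons]
    exact mul_mem (ltr_mem_NM (h j (by simp))) (wd_mem_NM fun x hx => h x (List.mem_cons_of_mem _ hx))

omit V in
theorem rimg_linear (σ : Equiv.Perm GolayPt) {L : List ℕ} (hL : L.length = 11)
    (h : ∀ i < 11, rhoF σ (2 ^ i) = L.getD i 0) {m : ℕ} (hm : m < 2048) : rhoF σ m = spanWord L m := by
  refine linear_eq ?_ (rhoF_xor σ) hL h (n := 11) hm
  have h0 := rhoF_xor σ 0 0
  rwa [Nat.xor_self, Nat.xor_self] at h0

theorem conj_ltr {j : ℕ} (hj : j < 15) {m : ℕ} (hm : m < 2048) :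
    ltr M j * sgnM m * (ltr M j)⁻¹ = sgnM (spanWord (M.rimg.getD j []) m) ∧
      spanWord (M.rimg.getD j []) m < 2048 ∧ inO (spanWord (M.rimg.getD j []) m) = inO m := by
  have hok := V.rimg j hj
  simp only [Model.rimgOK, List.all_eq_true, List.mem_range] at hok
  rcases Nat.lt_or_ge j 3 with h | h
  · have e : rhoF (letterPerm j).1 m = spanWord (M.rimg.getD j []) m := rimg_linear _ (V.rlen j hj) (fun i hi => by
      rw [Nat.eq_of_beq_eq_true (hok i hi), rhoF_eq, toList_letterPerm j h]
      rw [show Nat.blt j 3 = true by simp [Nat.blt, Nat.ble_eq]; omega, cond_true]) hm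
    rw [← e, ltr, ltr0, if_pos h]
    exact ⟨perm_sgnM _ _, rhoF_lt _ _, inO_rhoF (letterPerm j).2 hm⟩
  · have e : spanWord (M.rimg.getD j []) m = m := by
      refine (linear_eq (f := fun a => a) rfl (fun _ _ => rfl) (V.rlen j hj) (fun i hi => ?_) (n := 11) hm).symm
      have := Nat.eq_of_beq_eq_true (hok i hi)
      have hb : Nat.blt j 3 = false := by
        rw [← Bool.not_eq_true]
        simp [Nat.blt, Nat.ble_eq]; omega
      rw [hb, cond_false] at this
      exact this.symm
    rw [e, ltr, ltr0, if_neg (by omega), if_pos hj, sgn_dec_eq (isCode_gen (j - 3)) rfl]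
    exact ⟨by rw [← sgnM_xor, Nat.xor_comm, sgnM_xor, mul_inv_cancel_right], hm, rfl⟩

theorem conj_wd : ∀ (w : List ℕ), (∀ j ∈ w, j < 15) → ∀ {m : ℕ}, m < 2048 →
    wd M w * sgnM m * (wd M w)⁻¹ = sgnM (M.conjW w m) ∧ M.conjW w m < 2048 ∧ inO (M.conjW w m) = inO m
  | [], _, m, hm => by simp [wd_nil, Model.conjW, hm]
  | j :: w, h, m, hm => by
    obtain ⟨e1, e2, e3⟩ := conj_wd w (fun x hx => h x (List.mem_cons_of_mem _ hx)) hm
    obtain ⟨d1, d2, d3⟩ := V.conj_ltr (h j (by simp)) e2
    refine ⟨?_, d2, d3.trans e3⟩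
    rw [wd_cons]
    calc ltr M j * wd M w * sgnM m * (ltr M j * wd M w)⁻¹
        = ltr M j * (wd M w * sgnM m * (wd M w)⁻¹) * (ltr M j)⁻¹ := by group
      _ = _ := by rw [e1, d1]; rfl

omit V in
theorem sgn_code (k : ℕ) : sgnM (CoOneGolay.psi (codeWord k)) =
    wd M (((List.range 12).filter fun i => k.testBit i).map (· + 3)) := by
  have key : ∀ (gs : List ℕ) (s k : ℕ), (∀ i < gs.length, gs.getD i 0 = gens.getD (s + i) 0) → s + gs.length ≤ 12 →
      sgnM (CoOneGolay.psi (spanWord gs k)) = wd M (((List.range' 0 gs.length).filter fun i => k.testBit i).map (· + (s + 3))) := by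
    intro gs
    induction gs with
    | nil => intro s k _ _; simp [spanWord, CoOneGolay.psi, spanWord_zero, sgnM_zero, wd_nil]
    | cons g gs ih =>
      intro s k hg hs
      simp only [List.length_cons] at hg hs
      have h0 := hg 0 (by omega)
      simp only [List.getD_cons_zero, Nat.add_zero] at h0
      have hl : ltr M (s + 3) = sgnM (CoOneGolay.psi g) := by
        rw [ltr, ltr0, if_neg (by omega), if_pos (by omega), sgn_dec_eq (isCode_gen _) rfl, h0,
          show s + 3 - 3 = s by omega]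
      have hrest := ih (s + 1) (k >>> 1) (fun i hi => by
        rw [← List.getD_cons_succ (x := g), hg (i + 1) (by omega), show s + 1 + i = s + (i + 1) by omega]) (by omega)
      have hmap : (((List.range' 0 (gs.length + 1)).filter fun i => k.testBit i).map (· + (s + 3))) =
          (bif k.testBit 0 then [s + 3] else []) ++
            ((List.range' 0 gs.length).filter fun i => (k >>> 1).testBit i).map (· + (s + 1 + 3)) := by
        rw [← List.range_eq_range', List.range_succ_eq_map, List.filter_cons, List.filter_map,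
          ← List.range_eq_range']
        have hb : ((fun i => k.testBit i) ∘ Nat.succ) = fun i => (k >>> 1).testBit i := by
          funext i; simp [Nat.testBit_shiftRight, add_comm]
        rw [hb]
        cases k.testBit 0 <;>
          simp only [Bool.false_eq_true, if_false, if_true, List.map_cons, List.map_map, cond_false, cond_true,
            List.nil_append, List.singleton_append, Nat.zero_add, List.cons.injEq, true_and] <;>
          exact congrArg (List.map · _) (funext fun i => by simp; omega)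
      rw [spanWord_cons, psi_xor, sgnM_xor, hrest, List.length_cons, hmap, wd_append]
      congr 1
      cases k.testBit 0
      · simp [CoOneGolay.psi, spanWord_zero, sgnM_zero, wd_nil]
      · simp [hl, wd_singleton]
  have h := key gens 0 k (fun i _ => by rw [Nat.zero_add]) le_rfl
  exact h

omit V in
theorem wd_sgnWord {m : ℕ} (hm : m < 2048) : wd M (sgnWord m) = sgnM m := by
  rw [sgnWord, ← sgn_code]
  congr 1
  rw [show codeWord ((CoOneGolay.phi m).land 4095) = CoOneGolay.phi m from isCode_iff.1 (isCode_phi m), psi_phi hm]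

omit V in
theorem sgnWord_lt (m : ℕ) : ∀ j ∈ sgnWord m, j < 15 := by
  intro j hj
  simp only [sgnWord, List.mem_map, List.mem_filter, List.mem_range] at hj
  obtain ⟨i, ⟨hi, -⟩, rfl⟩ := hj
  omega

omit V in
/-- Words exhaust the monomial subgroup. -/
theorem exists_wd {g : Spor.Co1} (hg : g ∈ NM) : ∃ w : List ℕ, (∀ j ∈ w, j < 15) ∧ wd M w = g := by
  have := finite_co1
  let S : Submonoid Spor.Co1 :=
    { carrier := {x | ∃ w : List ℕ, (∀ j ∈ w, j < 15) ∧ wd M w = x}
      one_mem' := ⟨[], by simp, wd_nil M⟩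
      mul_mem' := by
        rintro _ _ ⟨a, ha, rfl⟩ ⟨b, hb, rfl⟩
        exact ⟨a ++ b, fun j hj => (List.mem_append.1 hj).elim (ha j) (hb j), wd_append M a b⟩ }
  have hinv : ∀ x ∈ S, x⁻¹ ∈ S := fun x hx => by
    rw [← pow_orderOf_eq_one x |> fun h => eq_inv_of_mul_eq_one_left (a := x ^ (orderOf x - 1)) (b := x)
      (by rw [← pow_succ, Nat.sub_add_cancel (orderOf_pos x), h])]
    exact pow_mem hx _
  let H : Subgroup Spor.Co1 := { S with inv_mem' := fun {x} hx => hinv x hx }
  have hperm : ∀ σ : ↥M24, permM σ ∈ H := by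
    rintro ⟨σ, hσ⟩
    have h' : σ ∈ G0 := by rw [G0_eq_M24]; exact hσ
    let P : Subgroup (Equiv.Perm GolayPt) := (H.comap permM).map M24.subtype
    have : G0 ≤ P := by
      rw [G0, Subgroup.closure_le]
      rintro x (rfl | rfl | rfl)
      · exact ⟨letterPerm 0, ⟨[0], by simp, by rw [wd_singleton, ltr, ltr0, if_pos (by norm_num)]; rfl⟩, rfl⟩
      · exact ⟨letterPerm 1, ⟨[1], by simp, by rw [wd_singleton, ltr, ltr0, if_pos (by norm_num)]; rfl⟩, rfl⟩
      · exact ⟨letterPerm 2, ⟨[2], by simp, by rw [wd_singleton, ltr, ltr0, if_pos (by norm_num)]; rfl⟩, rfl⟩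
    obtain ⟨τ, hτ, e⟩ := this h'
    obtain rfl : τ = ⟨σ, hσ⟩ := Subtype.ext e
    exact hτ
  obtain ⟨m, hm, σ, rfl⟩ := mem_NM.1 hg
  exact H.mul_mem ⟨sgnWord m, sgnWord_lt m, wd_sgnWord hm⟩ (hperm σ)

omit V in
theorem e_sq : ltr M 15 * ltr M 15 = 1 := by
  have hx : xiW * xiW = 1 := Subtype.ext (Equiv.ext fun v => Subtype.ext (xiF_xiF v.2))
  rw [ltr, ← map_mul, ltr0, if_neg (by norm_num), if_neg (by norm_num),
    show ∀ a : Co0, a * xiW * a⁻¹ * (a * xiW * a⁻¹) = a * (xiW * xiW) * a⁻¹ from fun a => by group, hx,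
    mul_one, mul_inv_cancel, map_one]

theorem e_not : ltr M 15 ∉ NM := by
  rw [V.mem_NM_iff, ← wd_singleton, V.ptC_wd (by simp)]
  exact V.move

theorem e_comm {n : ℕ} (c : golayCode) (hc : c.1 = dec n)
    (h : ∀ j < 24, flipL n (appSteps ((letterSteps M.sigma).getD 15 []) (eightE j)) =
      appSteps ((letterSteps M.sigma).getD 15 []) (flipL n (eightE j))) :
    sgnW c * ltr0 M 15 = ltr0 M 15 * sgnW c := by
  refine ext_latE fun j => lv_injective ?_
  rw [← pt_idx j, mul_smul, mul_smul, lv_sgnW c hc, V.lv_ltr0 15 (by norm_num), V.lv_ltr0 15 (by norm_num),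
    lv_sgnW c hc, lv_latE]
  exact h _ (idx j).isLt

theorem e_mem_CM : ltr M 15 ∈ CM := by
  have h := V.cent
  simp only [Model.edgeCentOK, List.all_eq_true, List.mem_range, beq_iff_eq] at h
  rw [CM, Subgroup.mem_centralizer_singleton_iff, zM, sgnM, ltr, ← map_mul, ← map_mul,
    V.e_comm (n := 351362) (maskWord 1) (by show dec (CoOneGolay.phi 1) = _; rw [show CoOneGolay.phi 1 = 351362 by decide +kernel]) h]

end Valid

/-- The coset graph of crosses. -/
def crossGraph {M : Model} (V : Valid M) : CoverGraph.Graph Spor.Co1 ℕ where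
  N := NM
  C := CM
  e := ltr M 15
  pt := ptC M
  pt_eq := V.ptC_eq_iff
  e_mem := V.e_mem_CM
  e_sq := Valid.e_sq
  e_not := V.e_not

end CfsgLib.CoOneUnique
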