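import Cfsg.Agent.Lib.CoOneUnique.CoverCheck
import Cfsg.Agent.Lib.CoOneUnique.Defs

/-!
# Crosses as numbers: linearity

The pairings with a dual basis identify the lattice modulo twice itself with the numbers below `2 ^ 24`, and an
automorphism acts by the list of the images of the basis.
-/

set_option autoImplicit false
set_option maxRecDepth 20000

noncomputable section

namespace CfsgLib.CoOneUnique

open Cfsg CfsgLib.Golay CfsgLib.Golay.LeechOrbit CfsgLib.CoOneGolay CfsgLib.MonsterType CfsgLib.Sporadic.CoOne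
  CfsgLib.Sporadic.CoTwo

/-- A vector whose coordinate list is a member. -/
def latOf (l : List ℤ) (h : latA (ofL l) = true) : leechLattice := ⟨ofL l, mem_of_latA h⟩

theorem lv_latOf {l : List ℤ} (h : latA (ofL l) = true) (hl : l.length = 24) : lv (latOf l h) = l := toL_ofL hl

theorem exists_lv {l : List ℤ} (h : latA (ofL l) = true) (hl : l.length = 24) : ∃ v : leechLattice, lv v = l :=
  ⟨_, lv_latOf h hl⟩

theorem dotL_lv (v w : leechLattice) : dotL (lv v) (lv w) = dotInt (v : GolayPt → ℤ) (w : GolayPt → ℤ) :=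
  (dotInt_eq_dotL _ _).symm

theorem pairBits_nil (x : List ℤ) : pairBits [] x = 0 := rfl

theorem pairBits_cons (d : List ℤ) (r : List (List ℤ)) (x : List ℤ) :
    pairBits (d :: r) x = (bif decide (dotL x d / 8 % 2 = 1) then 1 else 0) + 2 * pairBits r x := rfl

theorem xor_step (a b : Bool) (m n : ℕ) :
    (bif a then 1 else 0) + 2 * m ^^^ ((bif b then 1 else 0) + 2 * n) =
      (bif (a ^^ b) then 1 else 0) + 2 * (m ^^^ n) := by
  refine Nat.eq_of_testBit_eq fun i => ?_
  rcases i with _ | i
  · cases a <;> cases b <;> simp [Nat.testBit_zero] <;> omega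
  · have e : ∀ (c : Bool) (k : ℕ), ((bif c then 1 else 0) + 2 * k) / 2 = k := by
      intro c k; cases c <;> simp <;> omega
    rw [Nat.testBit_xor, Nat.testBit_succ, Nat.testBit_succ, Nat.testBit_succ, e, e, e, Nat.testBit_xor]

/-- The pairings are additive. -/
theorem pairBits_add : ∀ (D : List (List ℤ)) (x y : leechLattice),
    (∀ d ∈ D, d.length = 24 ∧ latA (ofL d) = true) →
      pairBits D (lv (x + y)) = pairBits D (lv x) ^^^ pairBits D (lv y)
  | [], x, y, _ => by simp [pairBits_nil]
  | d :: r, x, y, h => by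
    obtain ⟨hd, hr⟩ := List.forall_mem_cons.1 h
    obtain ⟨w, rfl⟩ := exists_lv hd.2 hd.1
    rw [pairBits_cons, pairBits_cons, pairBits_cons, pairBits_add r x y hr, xor_step]
    congr 3
    obtain ⟨a, ha⟩ := eight_dvd_dot x.2 w.2
    obtain ⟨b, hb⟩ := eight_dvd_dot y.2 w.2
    rw [dotL_lv, dotL_lv, dotL_lv, AddSubgroup.coe_add, dot_add_left, ha, hb, ← mul_add,
      Int.mul_ediv_cancel_left _ (by norm_num : (8 : ℤ) ≠ 0), Int.mul_ediv_cancel_left _ (by norm_num : (8 : ℤ) ≠ 0),
      Int.mul_ediv_cancel_left _ (by norm_num : (8 : ℤ) ≠ 0)]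
    rcases Int.emod_two_eq_zero_or_one a with h1 | h1 <;> rcases Int.emod_two_eq_zero_or_one b with h2 | h2 <;>
      rw [Int.add_emod, h1, h2] <;> rfl

theorem pairBits_lt : ∀ (D : List (List ℤ)) (x : List ℤ), pairBits D x < 2 ^ D.length
  | [], x => by simp [pairBits_nil]
  | d :: r, x => by
    rw [pairBits_cons, List.length_cons, pow_succ]
    have := pairBits_lt r x
    cases decide (dotL x d / 8 % 2 = 1) <;> simp <;> omega

theorem spanWord_powers_aux : ∀ (n s m : ℕ), m < 2 ^ n →
    spanWord ((List.range' s n).map (2 ^ ·)) m = 2 ^ s * m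
  | 0, s, m, h => by
    rw [pow_zero, Nat.lt_one_iff] at h
    subst h
    simp [spanWord]
  | n + 1, s, m, h => by
    rw [List.range'_succ, List.map_cons, spanWord_cons, spanWord_powers_aux n (s + 1) (m >>> 1) (by
      rw [Nat.shiftRight_eq_div_pow, pow_one]; rw [pow_succ] at h; omega)]
    refine Nat.eq_of_testBit_eq fun i => ?_
    rw [Nat.testBit_xor, Nat.testBit_two_pow_mul, Nat.testBit_two_pow_mul, Nat.testBit_shiftRight]
    cases hb : m.testBit 0 <;> simp only [cond_false, cond_true, Nat.zero_testBit, Nat.testBit_two_pow,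
      Bool.false_xor]
    · rcases Nat.lt_or_ge i s with hi | hi
      · simp [hi.not_ge, show ¬ s + 1 ≤ i by omega]
      · rcases eq_or_lt_of_le hi with rfl | hi'
        · simp [hb]
        · simp [hi, show s + 1 ≤ i by omega, show 1 + (i - (s + 1)) = i - s by omega]
    · rcases Nat.lt_or_ge i s with hi | hi
      · simp [hi.not_ge, show ¬ s + 1 ≤ i by omega, show s ≠ i by omega]
      · rcases eq_or_lt_of_le hi with rfl | hi'
        · simp [hb]
        · simp [hi, show s + 1 ≤ i by omega, show 1 + (i - (s + 1)) = i - s by omega, show s ≠ i by omega]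

/-- A number is the span of the powers of two. -/
theorem spanWord_powers {n m : ℕ} (h : m < 2 ^ n) : spanWord ((List.range n).map (2 ^ ·)) m = m := by
  rw [List.range_eq_range', spanWord_powers_aux n 0 m h, pow_zero, one_mul]

/-- A linear map is determined by the images of the powers of two. -/
theorem linear_eq {n : ℕ} {f : ℕ → ℕ} {L : List ℕ} (hf0 : f 0 = 0) (hf : ∀ a b, f (a ^^^ b) = f a ^^^ f b)
    (hL : L.length = n) (h : ∀ k < n, f (2 ^ k) = L.getD k 0) {m : ℕ} (hm : m < 2 ^ n) :
    f m = spanWord L m := by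
  have key : ∀ (gs : List ℕ) (m : ℕ), f (spanWord gs m) = spanWord (gs.map f) m := by
    intro gs
    induction gs with
    | nil => exact fun m => hf0
    | cons g gs ih =>
      intro m
      rw [List.map_cons, spanWord_cons, spanWord_cons, hf, ih]
      cases m.testBit 0 <;> simp [hf0]
  rw [← spanWord_powers hm, key, spanWord_powers hm, List.map_map]
  congr 1
  refine List.ext_getElem (by simp [hL]) fun i h1 h2 => ?_
  simp only [List.length_map, List.length_range] at h1
  simp only [List.getElem_map, List.getElem_range, Function.comp_apply]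
  rw [h i h1, List.getD_eq_getElem _ _ h2]

theorem linear_word {n : ℕ} {L L' : List ℕ} (hL' : L'.length = n)
    (h : ∀ k < n, spanWord L (2 ^ k) = L'.getD k 0) {m : ℕ} (hm : m < 2 ^ n) : spanWord L m = spanWord L' m :=
  linear_eq (spanWord_zero L) (spanWord_xor L) hL' h hm

/-- The standard vector at the base. -/
def e0 : leechLattice := LeechEight.latE none

namespace Model

variable {M : Model}

theorem basic (h : M.basicOK = true) : genOK M.sigma = true ∧ M.basis.length = 24 ∧ M.dual.length = 24 ∧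
    (∀ l ∈ M.basis, l.length = 24 ∧ latA (ofL l) = true) ∧ (∀ l ∈ M.dual, l.length = 24 ∧ latA (ofL l) = true) ∧
    (∀ k < 24, M.cls (M.basis.getD k []) = 2 ^ k) ∧ M.mats.length = 16 ∧ M.cls (eightE 23) = M.x0 := by
  simp only [Model.basicOK, Bool.and_eq_true, List.all_eq_true, List.mem_append, List.mem_range] at h
  obtain ⟨⟨⟨⟨⟨⟨h1, h2⟩, h3⟩, h4⟩, h5⟩, h6⟩, h7⟩ := h
  refine ⟨h1, Nat.eq_of_beq_eq_true h2, Nat.eq_of_beq_eq_true h3, fun l hl => ?_, fun l hl => ?_,
    fun k hk => Nat.eq_of_beq_eq_true (h5 k hk), Nat.eq_of_beq_eq_true h6, Nat.eq_of_beq_eq_true h7⟩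
  · exact ⟨Nat.eq_of_beq_eq_true (h4 l (Or.inl hl)).1, (h4 l (Or.inl hl)).2⟩
  · exact ⟨Nat.eq_of_beq_eq_true (h4 l (Or.inr hl)).1, (h4 l (Or.inr hl)).2⟩

/-- The class of a vector, as a number. -/
def clsV (M : Model) (v : leechLattice) : ℕ := M.cls (lv v)

variable (hM : M.basicOK = true)
include hM

theorem clsV_add (x y : leechLattice) : M.clsV (x + y) = M.clsV x ^^^ M.clsV y :=
  pairBits_add _ x y (basic hM).2.2.2.2.1

theorem clsV_zero : M.clsV 0 = 0 := by
  have h := clsV_add hM 0 0
  rwa [add_zero, Nat.xor_self] at h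

theorem clsV_lt (v : leechLattice) : M.clsV v < 2 ^ 24 := by
  have := pairBits_lt M.dual (lv v)
  rwa [(basic hM).2.2.1] at this

theorem clsV_neg (v : leechLattice) : M.clsV (-v) = M.clsV v := by
  have h := clsV_add hM (-v) v
  rw [neg_add_cancel, clsV_zero hM] at h
  exact Nat.xor_eq_zero_iff.1 h.symm

theorem clsV_two (z : leechLattice) : M.clsV (z + z) = 0 := by rw [clsV_add hM, Nat.xor_self]

/-- The base vector. -/
theorem exists_basis {k : ℕ} (hk : k < 24) :
    ∃ b : leechLattice, lv b = M.basis.getD k [] ∧ M.clsV b = 2 ^ k := by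
  obtain ⟨-, h2, -, h4, -, h6, -⟩ := basic hM
  have hmem : M.basis.getD k [] ∈ M.basis := by
    rw [List.getD_eq_getElem _ _ (by omega)]; exact List.getElem_mem _
  obtain ⟨b, hb⟩ := exists_lv (h4 _ hmem).2 (h4 _ hmem).1
  exact ⟨b, hb, by rw [clsV, hb, h6 k hk]⟩

theorem clsV_congTwo {x y : leechLattice} (h : CongTwo (x : GolayPt → ℤ) (y : GolayPt → ℤ)) :
    M.clsV x = M.clsV y := by
  obtain ⟨z, hz, e⟩ := h
  have hx : x = y + (⟨z, hz⟩ + ⟨z, hz⟩) := Subtype.ext (by
    simp only [AddSubgroup.coe_add]; rw [← two_nsmul, ← e, add_sub_cancel])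
  rw [hx, clsV_add hM, clsV_two hM, Nat.xor_zero]

theorem exists_span (m : ℕ) : ∃ v : leechLattice, M.clsV v = spanWord ((List.range 24).map (2 ^ ·)) m := by
  refine spanWord_induction (P := fun n => ∃ v : leechLattice, M.clsV v = n) _ ⟨0, clsV_zero hM⟩ ?_ ?_ m
  · rintro a b ⟨x, rfl⟩ ⟨y, rfl⟩; exact ⟨x + y, clsV_add hM x y⟩
  · intro g hg
    obtain ⟨k, hk, rfl⟩ := List.mem_map.1 hg
    obtain ⟨b, -, hb⟩ := exists_basis hM (List.mem_range.1 hk)
    exact ⟨b, hb⟩

/-- The numbers separate the classes. -/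
theorem clsV_inj {x y : leechLattice} (h : M.clsV x = M.clsV y) :
    CongTwo (x : GolayPt → ℤ) (y : GolayPt → ℤ) := by
  classical
  have hfin : Finite ModTwo := Nat.finite_of_card_ne_zero (by rw [natCard_modTwo]; norm_num)
  have hrep : ∀ q : ModTwo, ∃ v : leechLattice, classOf (v : GolayPt → ℤ) = q := fun q => by
    obtain ⟨v, rfl⟩ := QuotientAddGroup.mk_surjective q
    exact ⟨v, by simp [classOf]⟩
  choose rep hrep using hrep
  have hcl : ∀ v : leechLattice, M.clsV (rep (classOf (v : GolayPt → ℤ))) = M.clsV v := fun v =>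
    clsV_congTwo hM ((classOf_eq_iff (rep _).2 v.2).1 (hrep _))
  let g : ModTwo → Fin (2 ^ 24) := fun q => ⟨M.clsV (rep q), clsV_lt hM _⟩
  have hsurj : Function.Surjective g := fun m => by
    obtain ⟨v, hv⟩ := exists_span hM m.1
    rw [spanWord_powers m.2] at hv
    exact ⟨classOf (v : GolayPt → ℤ), Fin.ext ((hcl v).trans hv)⟩
  have hinj := (Nat.bijective_iff_surjective_and_card g).2 ⟨hsurj, by rw [natCard_modTwo, Nat.card_fin]⟩
  refine (classOf_eq_iff x.2 y.2).1 (hinj.1 (Fin.ext ?_))
  show M.clsV (rep _) = M.clsV (rep _)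
  rw [hcl, hcl, h]

/-- An additive function killing twice the lattice is linear in the class. -/
theorem additive_eq {φ : leechLattice → ℕ} (hadd : ∀ a b, φ (a + b) = φ a ^^^ φ b) {L : List ℕ}
    (hL : L.length = 24) (h : ∀ k < 24, ∀ b : leechLattice, lv b = M.basis.getD k [] → φ b = L.getD k 0)
    (v : leechLattice) : φ v = spanWord L (M.clsV v) := by
  have hz : φ 0 = 0 := by
    have h := hadd 0 0
    rwa [add_zero, Nat.xor_self] at h
  have gen : ∀ (S : List ℕ) (T : List ℕ) (m : ℕ), S.length = T.length →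
      (∀ k < S.length, ∃ b : leechLattice, M.clsV b = S.getD k 0 ∧ φ b = T.getD k 0) →
        ∃ u : leechLattice, M.clsV u = spanWord S m ∧ φ u = spanWord T m := by
    intro S
    induction S with
    | nil => intro T m hl _; obtain rfl : T = [] := List.eq_nil_of_length_eq_zero hl.symm
             exact ⟨0, clsV_zero hM, hz⟩
    | cons a S ih =>
      intro T m hl hb
      rcases T with _ | ⟨t, T⟩
      · simp at hl
      obtain ⟨u, hu1, hu2⟩ := ih T (m >>> 1) (by simpa using hl) fun k hk => by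
        simpa using hb (k + 1) (by simpa using hk)
      obtain ⟨b, hb1, hb2⟩ := hb 0 (by simp)
      simp only [List.getD_cons_zero] at hb1 hb2
      rw [spanWord_cons, spanWord_cons]
      cases hm : m.testBit 0
      · exact ⟨u, by simp [hu1], by simp [hu2]⟩
      · exact ⟨b + u, by rw [clsV_add hM, hb1, hu1]; rfl, by rw [hadd, hb2, hu2]; rfl⟩
  obtain ⟨u, hu1, hu2⟩ := gen ((List.range 24).map (2 ^ ·)) L (M.clsV v) (by simp [hL]) fun k hk => by
    simp only [List.length_map, List.length_range] at hk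
    obtain ⟨b, hb1, hb2⟩ := exists_basis hM hk
    exact ⟨b, by simp [hb2, hk], h k hk b hb1⟩
  rw [spanWord_powers (clsV_lt hM v)] at hu1
  obtain ⟨z, hz', e⟩ := clsV_inj hM hu1.symm
  have hv : v = u + (⟨z, hz'⟩ + ⟨z, hz'⟩) := Subtype.ext (by
    simp only [AddSubgroup.coe_add]; rw [← two_nsmul, ← e, add_sub_cancel])
  rw [← hu2, hv, hadd, hadd, Nat.xor_self, Nat.xor_zero]

theorem clsV_e0 : M.clsV e0 = M.x0 := by
  rw [clsV, show e0 = LeechEight.latE (pt 23) from congrArg LeechEight.latE (by decide : (none : GolayPt) = pt 23),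
    lv_latE]
  exact (basic hM).2.2.2.2.2.2.2

end Model

end CfsgLib.CoOneUnique
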