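import Cfsg.Agent.Lib.CoOneUnique.CoverGroup

/-!
# Soundness of the certificate at the orbit representatives

Every cross is a monomial image of a representative, and at each one the lower neighbours are connected and the
lateral edges close up inside residues.
-/

set_option autoImplicit false
set_option maxRecDepth 100000
set_option maxHeartbeats 1000000

noncomputable section

namespace CfsgLib.CoOneUnique

open Cfsg CfsgLib.Golay CfsgLib.Golay.LeechOrbit CfsgLib.CoOneGolay CfsgLib.MonsterType CfsgLib.Sporadic.CoOne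
  CfsgLib.Sporadic.CoTwo
open scoped Pointwise

theorem isW_lt {w : List ℕ} (h : Model.isW w = true) : ∀ j ∈ w, j < 16 := fun j hj =>
  Nat.ble_eq.mp (List.all_eq_true.1 h j hj)

theorem isN_lt {w : List ℕ} (h : Model.isN w = true) : ∀ j ∈ w, j < 15 := fun j hj =>
  Nat.ble_eq.mp (List.all_eq_true.1 h j hj)

theorem isN_lt' {w : List ℕ} (h : Model.isN w = true) : ∀ j ∈ w, j < 16 := fun j hj => by
  have := isN_lt h j hj; omega

namespace Valid

variable {M : Model} (V : Valid M)
include V

omit V in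
theorem appW_linear (w : List ℕ) {L : List ℕ} (hL : L.length = 24)
    (h : ∀ k < 24, M.appW w (2 ^ k) = L.getD k 0) {v : ℕ} (hv : v < 2 ^ 24) : M.appW w v = spanWord L v := by
  refine linear_eq ?_ ?_ hL h hv
  · clear h hv hL
    induction w with
    | nil => rfl
    | cons j w ih => show spanWord _ (M.appW w 0) = 0; rw [ih, spanWord_zero]
  · clear h hv hL
    intro a b
    induction w with
    | nil => rfl
    | cons j w ih => show spanWord _ (M.appW w _) = _; rw [ih, spanWord_xor]; rfl

theorem isCN_mem {w : List ℕ} (h : M.isCN w = true) : wd M w ∈ NM ⊓ CM := by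
  simp only [Model.isCN, Bool.and_eq_true] at h
  refine ⟨wd_mem_NM (isN_lt h.1), ?_⟩
  have e := (V.conj_wd w (isN_lt h.1) (show 1 < 2048 by norm_num)).1
  rw [Nat.eq_of_beq_eq_true h.2] at e
  show wd M w ∈ CM
  rw [CM, Subgroup.mem_centralizer_singleton_iff, zM]
  conv_rhs => rw [← e, inv_mul_cancel_right]

theorem vertsW_eq : ∀ (ns : List (List ℕ)) (g : List ℕ), (∀ j ∈ g, j < 16) → (∀ n ∈ ns, ∀ j ∈ n, j < 16) →
    (crossGraph V).vertsW (wd M g) (ns.map (wd M)) = M.verts g ns
  | [], g, _, _ => rfl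
  | n :: r, g, hg, hn => by
    have hlt : ∀ j ∈ g ++ n ++ [15], j < 16 := by
      intro j hj
      simp only [List.mem_append, List.mem_singleton] at hj
      rcases hj with (hj | hj) | hj
      exacts [hg j hj, hn n (by simp) j hj, by omega]
    have e : wd M g * wd M n * ltr M 15 = wd M (g ++ n ++ [15]) := by rw [wd_append, wd_append, wd_singleton]
    rw [List.map_cons, CoverGraph.Graph.vertsW, Model.verts]
    show ptC M (wd M g * wd M n * ltr M 15) :: (crossGraph V).vertsW (wd M g * wd M n * ltr M 15) _ = _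
    rw [e, V.ptC_wd hlt, vertsW_eq r _ hlt fun x hx => hn x (List.mem_cons_of_mem _ hx)]

omit V in
theorem verts_length : ∀ (ns : List (List ℕ)) (g : List ℕ), (M.verts g ns).length = ns.length
  | [], _ => rfl
  | n :: r, g => by simp [Model.verts, verts_length r]

/-- A checked walk is a walk. -/
theorem walk_of_ok {k v u w : ℕ} {W : Walk} (h : M.walkOK k v W u w = true) :
    (crossGraph V).Walk M.lev k v u w := by
  simp only [Model.walkOK, Bool.and_eq_true, List.all_eq_true] at h
  obtain ⟨⟨⟨⟨⟨⟨⟨⟨h1, h2⟩, h3⟩, h4⟩, h5⟩, h6⟩, h7⟩, h8⟩, h9⟩ := h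
  have hlen : 1 < W.steps.length := Nat.ble_eq.mp h3
  have hg : ∀ j ∈ W.start, j < 16 := fun j hj => Nat.ble_eq.mp (List.all_eq_true.1 h1 j hj)
  have hn : ∀ n ∈ W.steps, ∀ j ∈ n, j < 16 := fun n hn => by
    have := h2 n hn
    simp only [Model.isCN, Bool.and_eq_true] at this
    exact isN_lt' this.1
  set vs := M.verts W.start W.steps with hvs
  have hl : vs.length = W.steps.length := verts_length _ _
  have e5 := Nat.eq_of_beq_eq_true h5
  have e6 := Nat.eq_of_beq_eq_true h6
  have e7 := Nat.eq_of_beq_eq_true h7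
  rw [List.getD_eq_getElem _ _ (by omega)] at e5 e6 e7
  refine ⟨wd M W.start, W.steps.map (wd M), vs.take (W.steps.length - 2), ?_,
    (V.ptC_wd hg).trans (Nat.eq_of_beq_eq_true h4), ?_, ?_, Nat.ble_eq.mp h8, fun p hp => Nat.ble_eq.mp (h9 p hp)⟩
  · intro n hn'
    obtain ⟨x, hx, rfl⟩ := List.mem_map.1 hn'
    exact V.isCN_mem (h2 x hx)
  · rw [V.vertsW_eq _ _ hg hn]
    conv_lhs => rw [← hvs, ← List.take_append_drop (W.steps.length - 2) vs]
    congr 1
    rw [List.drop_eq_getElem_cons (by omega), List.drop_eq_getElem_cons (by omega), List.drop_of_length_le (by omega)]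
    rw [e7]
    congr 2
    rw [← e5]
    congr 1
    omega
  · rcases Nat.lt_or_ge 2 W.steps.length with h | h
    · rw [List.head?_append, List.head?_take, if_neg (by omega), List.head?_eq_getElem?,
        List.getElem?_eq_getElem (by omega)]
      simp [e6]
    · have h2' : W.steps.length = 2 := by omega
      rw [show vs.take (W.steps.length - 2) = [] by simp [h2']]
      simp only [List.nil_append, List.head?_cons, Option.some.injEq]
      rw [← e6, ← e7]
      congr 1
      omega

theorem appW_ptC {m : List ℕ} (hm : ∀ j ∈ m, j < 16) (g : Spor.Co1) :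
    M.appW m (ptC M g) = ptC M (wd M m * g) := (V.ptC_wd_mul hm g).symm

/-- Levels are invariant. -/
theorem lev_ltr {j : ℕ} (hj : j < 15) (g : Spor.Co1) : M.lev (ptC M (ltr M j * g)) = M.lev (ptC M g) := by
  have hok := V.lev j hj
  simp only [Model.levOK, Bool.and_eq_true, List.all_eq_true, List.mem_range] at hok
  obtain ⟨⟨⟨-, h2⟩, h3⟩, h4⟩ := hok
  have hpt : ptC M (ltr M j * g) = spanWord (M.mats.getD j []) (ptC M g) := by
    rw [← wd_singleton, V.ptC_wd_mul (by simp; omega)]; rfl
  have hx0 : ptC M (ltr M j * g) = M.x0 ↔ ptC M g = M.x0 := by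
    rw [← V.mem_NM_iff, ← V.mem_NM_iff]
    exact Subgroup.mul_mem_cancel_left _ (ltr_mem_NM hj)
  by_cases h0 : ptC M g = M.x0
  · rw [hx0.2 h0, h0]
  have h0' : ptC M (ltr M j * g) ≠ M.x0 := fun e => h0 (hx0.1 e)
  have hb : ∀ {a : ℕ}, a ≠ M.x0 → Nat.beq a M.x0 = false := fun ha => by
    rw [← Bool.not_eq_true]; exact fun e => ha (Nat.eq_of_beq_eq_true e)
  rw [Model.lev, Model.lev, hb h0, hb h0', cond_false, cond_false, hpt]
  congr 1
  have hlin : spanWord M.proj (spanWord (M.mats.getD j []) (ptC M g)) =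
      spanWord (M.pimg.getD j []) (spanWord M.proj (ptC M g)) := by
    have hL : ((M.mats.getD j []).map (spanWord M.proj)).length = 24 := by
      have hok := V.mat j (by omega)
      simp only [Model.matOK, Bool.and_eq_true] at hok
      rw [List.length_map]; exact Nat.eq_of_beq_eq_true hok.1.2
    have hmap : ∀ k, spanWord M.proj ((M.mats.getD j []).getD k 0) =
        ((M.mats.getD j []).map (spanWord M.proj)).getD k 0 := fun k => by
      conv_rhs => rw [← spanWord_zero M.proj, List.getD_map]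
    rw [linear_eq (f := fun v => spanWord M.proj (spanWord (M.mats.getD j []) v))
        (by simp only [spanWord_zero]) (fun a b => by simp only [spanWord_xor]) hL
        (fun k hk => by simp only [spanWord_two_pow]; exact hmap k) (V.ptC_lt g),
      linear_eq (f := fun v => spanWord (M.pimg.getD j []) (spanWord M.proj v))
        (by simp only [spanWord_zero]) (fun a b => by simp only [spanWord_xor]) hL
        (fun k hk => by simp only [spanWord_two_pow]; rw [← hmap, ← Nat.eq_of_beq_eq_true (h3 k hk)]) (V.ptC_lt g)]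
  rw [hlin]
  exact Nat.eq_of_beq_eq_true (h4 _ (spanWord_induction (P := fun n => n < 2 ^ 12) M.proj (by norm_num)
    (fun _ _ => Nat.xor_lt_two_pow) V.plt _))

theorem lev_wd : ∀ (m : List ℕ), (∀ j ∈ m, j < 15) → ∀ g, M.lev (ptC M (wd M m * g)) = M.lev (ptC M g)
  | [], _, g => by rw [wd_nil, one_mul]
  | j :: m, h, g => by
    rw [wd_cons, mul_assoc, V.lev_ltr (h j (by simp)), lev_wd m (fun x hx => h x (List.mem_cons_of_mem _ hx))]

omit V in
theorem vertsW_range {Γ : CoverGraph.Graph Spor.Co1 ℕ} : ∀ (ns : List Spor.Co1) (g : Spor.Co1),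
    ∀ p ∈ Γ.vertsW g ns, ∃ h, Γ.pt h = p
  | [], _, p, hp => by simp [CoverGraph.Graph.vertsW] at hp
  | n :: r, g, p, hp => by
    rw [CoverGraph.Graph.vertsW, List.mem_cons] at hp
    rcases hp with rfl | hp
    exacts [⟨_, rfl⟩, vertsW_range r _ p hp]

theorem vertsW_map {m : List ℕ} (hm : ∀ j ∈ m, j < 15) : ∀ (ns : List Spor.Co1) (g : Spor.Co1),
    (crossGraph V).vertsW (wd M m * g) ns = ((crossGraph V).vertsW g ns).map (M.appW m)
  | [], g => rfl
  | n :: r, g => by
    rw [CoverGraph.Graph.vertsW, CoverGraph.Graph.vertsW, List.map_cons,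
      show wd M m * g * n * (crossGraph V).e = wd M m * (g * n * (crossGraph V).e) by simp [mul_assoc],
      vertsW_map hm r]
    congr 1
    exact V.ptC_wd_mul (fun j hj => by have := hm j hj; omega) _

theorem lev_appW {m : List ℕ} (hm : ∀ j ∈ m, j < 15) (g : Spor.Co1) :
    M.lev (M.appW m (ptC M g)) = M.lev (ptC M g) := by
  rw [V.appW_ptC (fun j hj => by have := hm j hj; omega), V.lev_wd m hm]

/-- Walks are carried by the monomial group. -/
theorem walk_map {m : List ℕ} (hm : ∀ j ∈ m, j < 15) {k v u w : ℕ} (h : (crossGraph V).Walk M.lev k v u w) :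
    (crossGraph V).Walk M.lev k (M.appW m v) (M.appW m u) (M.appW m w) := by
  obtain ⟨g, ns, mid, hns, hg, hv, hu, hlu, hmid⟩ := h
  have hrange : ∀ p ∈ mid ++ [w, v], ∃ h', ptC M h' = p := fun p hp => vertsW_range ns g p (hv ▸ hp)
  refine ⟨wd M m * g, ns, mid.map (M.appW m), hns, ?_, ?_, ?_, ?_, ?_⟩
  · rw [← hg]; exact V.ptC_wd_mul (fun j hj => by have := hm j hj; omega) g
  · rw [V.vertsW_map hm, hv]; simp
  · have : ((mid ++ [w]).map (M.appW m)).head? = some (M.appW m u) := by rw [List.head?_map, hu]; rfl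
    simpa using this
  · obtain ⟨h', hh⟩ := hrange u (by
      have := List.mem_of_mem_head? (show u ∈ (mid ++ [w]).head? from hu)
      simp only [List.mem_append, List.mem_cons, List.not_mem_nil, or_false] at this ⊢
      tauto)
    rwa [← hh, V.lev_appW hm, hh]
  · intro p hp
    obtain ⟨q, hq, rfl⟩ := List.mem_map.1 hp
    obtain ⟨h', hh⟩ := hrange q (List.mem_append_left _ hq)
    rw [← hh, V.lev_appW hm, hh]
    exact hmid q hq

theorem step_map {m : List ℕ} (hm : ∀ j ∈ m, j < 15) {v u w : ℕ} (hv : ∃ h, ptC M h = v)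
    (h : (crossGraph V).Step M.lev v u w) :
    (crossGraph V).Step M.lev (M.appW m v) (M.appW m u) (M.appW m w) := by
  obtain ⟨hW, hl⟩ := h
  obtain ⟨g', hg'⟩ := hv
  have hlev : M.lev (M.appW m v) = M.lev v := by rw [← hg']; exact V.lev_appW hm g'
  refine ⟨hlev ▸ V.walk_map hm hW, ?_⟩
  obtain ⟨g, ns, mid, -, -, hvs, -⟩ := hW
  obtain ⟨h', hh⟩ := vertsW_range (Γ := crossGraph V) ns g w (by rw [hvs]; simp)
  rw [hlev, show M.lev (M.appW m w) = M.lev w from hh ▸ V.lev_appW hm h']
  exact hl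

theorem eqv_map {m : List ℕ} (hm : ∀ j ∈ m, j < 15) {v u w : ℕ} (hv : ∃ h, ptC M h = v)
    (h : Relation.EqvGen ((crossGraph V).Step M.lev v) u w) :
    Relation.EqvGen ((crossGraph V).Step M.lev (M.appW m v)) (M.appW m u) (M.appW m w) := by
  induction h with
  | rel x y h => exact .rel _ _ (V.step_map hm hv h)
  | refl => exact .refl _
  | symm _ _ _ ih => exact .symm _ _ ih
  | trans _ _ _ _ _ ih1 ih2 => exact .trans _ _ _ ih1 ih2

end Valid

/-- The hypotheses on neighbours and representatives. -/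
structure RepsValid (M : Model) (N : NbData) (reps : List RepData) : Prop where
  /-- The tree. -/
  tree : M.nbTreeOK N = true
  /-- Closure. -/
  closed : ∀ j < 15, M.nbClosedOK N j = true
  /-- Representatives. -/
  rep : ∀ R ∈ reps, M.repOK R = true
  /-- Seeds. -/
  seeds : ∀ R ∈ reps, M.seedsOK N reps R = true
  /-- Positions. -/
  pos : ∀ R ∈ reps, R.posOK = true
  /-- Forests. -/
  forest : ∀ R ∈ reps, Model.forestOK N R 0 3542 = true
  /-- The base is a representative. -/
  base : ∃ R ∈ reps, R.v = M.x0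

namespace RepsValid

variable {M : Model} {N : NbData} {reps : List RepData} (V : Valid M) (P : RepsValid M N reps)
include V P

theorem nb_mem : ∀ i < 3542, ∃ n : List ℕ, (∀ j ∈ n, j < 15) ∧ ptC M (wd M n * ltr M 15) = N.at i := by
  have h := P.tree
  simp only [Model.nbTreeOK, Bool.and_eq_true, List.all_eq_true, List.mem_range] at h
  intro i
  induction i using Nat.strong_induction_on with
  | _ i ih =>
    intro hi
    rcases i with _ | i
    · refine ⟨[], by simp, ?_⟩
      rw [wd_nil, one_mul, ← wd_singleton, V.ptC_wd (by simp)]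
      exact (Nat.eq_of_beq_eq_true h.1).symm
    · obtain ⟨⟨h1, h2⟩, h3⟩ := h.2 i (by omega)
      have h1' := Nat.ble_eq.mp h1
      obtain ⟨n, hn, e⟩ := ih (Nat.land (fld 16 N.tree (i + 1)) 4095) (by omega) (by omega)
      refine ⟨fld 16 N.tree (i + 1) / 4096 :: n, ?_, ?_⟩
      · intro j hj
        rcases List.mem_cons.1 hj with rfl | hj
        exacts [Nat.ble_eq.mp h2, hn j hj]
      · rw [Nat.eq_of_beq_eq_true h3, wd_cons, mul_assoc, ← wd_singleton M (fld 16 N.tree (i + 1) / 4096),
          V.ptC_wd_mul (fun j hj => by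
            rw [List.mem_singleton.1 hj]
            have : fld 16 N.tree (i + 1) / 4096 < 15 := Nat.ble_eq.mp h2
            omega), e]
        rfl

theorem nb_all {n : Spor.Co1} (hn : n ∈ NM) : ∃ i < 3542, ptC M (n * ltr M 15) = N.at i := by
  obtain ⟨w, hw, rfl⟩ := Valid.exists_wd hn (M := M)
  induction w with
  | nil =>
    refine ⟨0, by norm_num, ?_⟩
    have h := P.tree
    simp only [Model.nbTreeOK, Bool.and_eq_true] at h
    rw [wd_nil, one_mul, ← wd_singleton, V.ptC_wd (by simp)]
    exact (Nat.eq_of_beq_eq_true h.1).symm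
  | cons j w ih =>
    have hw' : ∀ x ∈ w, x < 15 := fun x hx => hw x (List.mem_cons_of_mem _ hx)
    obtain ⟨i, hi, e⟩ := ih hw' (Valid.wd_mem_NM hw')
    have hj : j < 15 := hw j (by simp)
    have h := P.closed j hj
    simp only [Model.nbClosedOK, List.all_eq_true, List.mem_range, Bool.and_eq_true] at h
    obtain ⟨h1, h2⟩ := h i hi
    refine ⟨_, Nat.ble_eq.mp h1, ?_⟩
    rw [wd_cons, mul_assoc, ← wd_singleton M j, V.ptC_wd_mul (by simp; omega), e]
    exact Nat.eq_of_beq_eq_true h2

/-- The neighbours of a representative. -/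
theorem adj_rep {R : RepData} (hR : R ∈ reps) :
    R.v = ptC M (wd M R.word) ∧ ∀ w, (crossGraph V).Adj R.v w ↔ ∃ i < 3542, w = R.at N i := by
  have h := P.rep R hR
  simp only [Model.repOK, Bool.and_eq_true, List.all_eq_true, List.mem_range] at h
  obtain ⟨⟨⟨⟨⟨h1, h2⟩, h3⟩, h4⟩, -⟩, -⟩ := h
  have hw := isW_lt h1
  have hv : R.v = ptC M (wd M R.word) := by rw [V.ptC_wd hw]; exact (Nat.eq_of_beq_eq_true h2).symm
  have hA : ∀ g, ptC M (wd M R.word * g) = spanWord R.A (ptC M g) := fun g => by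
    rw [V.ptC_wd_mul hw, Valid.appW_linear _ (Nat.eq_of_beq_eq_true h4)
      (fun k hk => Nat.eq_of_beq_eq_true (h3 k hk)) (V.ptC_lt g)]
  refine ⟨hv, fun w => ⟨?_, ?_⟩⟩
  · rintro ⟨g, n, hn, hg, rfl⟩
    have hk : (wd M R.word)⁻¹ * g ∈ NM := (V.ptC_eq_iff _ _).1 (hv.symm.trans hg.symm)
    obtain ⟨i, hi, e⟩ := P.nb_all V (mul_mem hk hn)
    refine ⟨i, hi, ?_⟩
    show ptC M (g * n * ltr M 15) = _
    rw [RepData.at, ← e, ← hA]
    congr 1
    simp [mul_assoc]
  · rintro ⟨i, hi, rfl⟩
    obtain ⟨n, hn, e⟩ := P.nb_mem V i hi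
    refine ⟨wd M R.word, wd M n, Valid.wd_mem_NM hn, hv.symm, ?_⟩
    show ptC M (wd M R.word * wd M n * ltr M 15) = _
    rw [RepData.at, ← e, ← hA, mul_assoc]

/-- A monomial image of a representative. -/
def Covered (M : Model) (reps : List RepData) (w : ℕ) : Prop :=
  ∃ m : List ℕ, (∀ j ∈ m, j < 15) ∧ ∃ R' ∈ reps, M.appW m R'.v = w

/-- What is known about a neighbour of a representative. -/
def Local (V : Valid M) (N : NbData) (reps : List RepData) (R : RepData) (w : ℕ) : Prop :=
  Covered M reps w ∧ (0 < M.lev R.v →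
    (M.lev w < M.lev R.v → Relation.EqvGen ((crossGraph V).Step M.lev R.v) (R.at N R.u0) w) ∧
    (M.lev w = M.lev R.v → ∃ u, (crossGraph V).Walk M.lev (M.lev R.v) R.v u w))

omit P in
theorem chain_sound {k v u0 : ℕ} (hk : k = M.lev v) : ∀ (ch : List (ℕ × ℕ × Walk)) (acc : List ℕ),
    (∀ x ∈ acc, Relation.EqvGen ((crossGraph V).Step M.lev v) u0 x) →
      ∀ x ∈ (M.chainGo k v ch acc).2, Relation.EqvGen ((crossGraph V).Step M.lev v) u0 x
  | [], acc, h => h
  | (p, w, W) :: r, acc, h => by
    rw [Model.chainGo]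
    cases hc : (acc.contains p && M.walkOK k v W p w && Nat.blt (M.lev w) k)
    · exact h
    · simp only [Bool.and_eq_true, List.contains_iff_mem] at hc
      refine chain_sound hk r (w :: acc) fun x hx => ?_
      rcases List.mem_cons.1 hx with rfl | hx
      · refine .trans _ _ _ (h p hc.1.1) (.rel _ _ ⟨hk ▸ V.walk_of_ok hc.1.2, ?_⟩)
        rw [← hk]; exact Nat.ble_eq.mp hc.2
      · exact h x hx

theorem local_all {R : RepData} (hR : R ∈ reps) : ∀ i < 3542, Local V N reps R (R.at N i) := by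
  obtain ⟨hv, hadj⟩ := P.adj_rep V hR
  have hrep := P.rep R hR
  simp only [Model.repOK, Bool.and_eq_true, List.all_eq_true, List.mem_range] at hrep
  obtain ⟨-, hsg⟩ := hrep
  have hseeds := P.seeds R hR
  simp only [Model.seedsOK, Bool.and_eq_true] at hseeds
  obtain ⟨hchain, hsd⟩ := hseeds
  have hpr : 0 < M.lev R.v → (∀ x ∈ (M.proved N R).2, Relation.EqvGen ((crossGraph V).Step M.lev R.v) (R.at N R.u0) x) ∧
      ∀ s ∈ R.sg, spanWord s.2 (R.at N R.u0) ∈ (M.proved N R).2 := by
    intro h0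
    refine ⟨chain_sound V rfl _ _ fun x hx => by rw [List.mem_singleton.1 hx]; exact .refl _, fun s hs => ?_⟩
    rw [Bool.or_eq_true, Bool.and_eq_true, List.all_eq_true] at hchain
    rcases hchain with h | h
    · have := Nat.eq_of_beq_eq_true h; omega
    · exact List.contains_iff_mem.1 (h.2 s hs)
  have hseed : ∀ s ∈ R.seeds, Local V N reps R (R.at N s.idx) := by
    intro s hs
    have h := List.all_eq_true.1 hsd s hs
    simp only [Bool.and_eq_true, Bool.or_eq_true] at h
    obtain ⟨⟨⟨⟨h1, h2⟩, h3⟩, h4⟩, h5⟩ := h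
    have h2' : s.rep < reps.length := Nat.ble_eq.mp h2
    rw [List.getD_eq_getElem _ _ h2'] at h4
    refine ⟨⟨s.wit, isN_lt h3, _, List.getElem_mem h2', Nat.eq_of_beq_eq_true h4⟩, fun h0 => ?_⟩
    rcases h5 with (h | h) | h
    · have := Nat.eq_of_beq_eq_true h; omega
    · have : M.lev R.v < M.lev (R.at N s.idx) := Nat.ble_eq.mp h
      exact ⟨fun hl => by omega, fun hl => by omega⟩
    · refine ⟨fun hl => ?_, fun hl => ?_⟩
      · rw [show Nat.blt (M.lev (R.at N s.idx)) (M.lev R.v) = true from Nat.ble_eq.mpr hl, cond_true] at h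
        exact (hpr h0).1 _ (List.contains_iff_mem.1 h)
      · have hb : Nat.blt (M.lev (R.at N s.idx)) (M.lev R.v) = false := by
          rw [← Bool.not_eq_true]
          intro e
          have := Nat.ble_eq.mp e
          omega
        rw [hb, cond_false] at h
        rcases hlat : s.lat with _ | ⟨u, W⟩
        · rw [hlat] at h; simp at h
        · rw [hlat] at h; exact ⟨u, V.walk_of_ok h⟩
  -- the forest
  have key : ∀ t < 3542, Local V N reps R (R.at N (Nat.land (fld 28 R.tree t) 4095)) := by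
    intro t
    induction t using Nat.strong_induction_on with
    | _ t ih =>
      intro ht
      have h := List.all_eq_true.1 (P.forest R hR) t (List.mem_range.2 ht)
      simp only [Bool.and_eq_true, Nat.zero_add] at h
      obtain ⟨hkk, h⟩ := h
      set k := Nat.land (fld 28 R.tree t) 4095 with hk
      set p := Nat.land (Nat.shiftRight (fld 28 R.tree t) 12) 4095 with hp
      set g := Nat.shiftRight (fld 28 R.tree t) 24 with hg
      cases hb : Nat.beq g 15
      · rw [hb, cond_false, Bool.and_eq_true, Bool.and_eq_true] at h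
        obtain ⟨⟨h1, h2⟩, h3⟩ := h
        have hpt : p < t := Nat.ble_eq.mp h1
        have hgl : g < R.sg.length := Nat.ble_eq.mp h2
        have hj := List.all_eq_true.1 (P.forest R hR) p (List.mem_range.2 (by omega))
        simp only [Bool.and_eq_true, Nat.zero_add] at hj
        set j := Nat.land (fld 28 R.tree p) 4095 with hjdef
        have hjlt : j < 3542 := Nat.ble_eq.mp hj.1
        obtain ⟨hcov, hloc⟩ := ih p hpt (by omega)
        rw [List.getD_eq_getElem _ _ hgl] at h3
        set s := R.sg[g] with hs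
        have hsm : s ∈ R.sg := List.getElem_mem hgl
        obtain ⟨⟨⟨s1, s2⟩, s3⟩, s4⟩ := hsg s hsm
        have hsw := isN_lt s1
        have hlin : ∀ {x : ℕ}, x < 2 ^ 24 → M.appW s.1 x = spanWord s.2 x := fun hx =>
          Valid.appW_linear _ (Nat.eq_of_beq_eq_true s2) (fun k hk => Nat.eq_of_beq_eq_true (s3 k hk)) hx
        have hrange : ∀ i, i < 3542 → ∃ g', ptC M g' = R.at N i := fun i hi => by
          obtain ⟨g', n, -, -, e⟩ := (hadj _).2 ⟨i, hi, rfl⟩
          exact ⟨_, e⟩
        have hvlt : R.v < 2 ^ 24 := hv ▸ V.ptC_lt _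
        have hfix : M.appW s.1 R.v = R.v := by rw [hlin hvlt]; exact Nat.eq_of_beq_eq_true s4
        obtain ⟨gj, hgj⟩ := hrange j hjlt
        have hat : R.at N k = M.appW s.1 (R.at N j) := by
          rw [Nat.eq_of_beq_eq_true h3, hlin (hgj ▸ V.ptC_lt gj)]
        have hlev : M.lev (R.at N k) = M.lev (R.at N j) := by rw [hat, ← hgj, V.lev_appW hsw]
        refine ⟨?_, fun h0 => ⟨fun hl => ?_, fun hl => ?_⟩⟩
        · obtain ⟨m, hm, R', hR', e⟩ := hcov
          refine ⟨s.1 ++ m, fun x hx => (List.mem_append.1 hx).elim (hsw x) (hm x), R', hR', ?_⟩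
          rw [hat, ← e, Model.appW, List.foldr_append]
          rfl
        · have h1' := V.eqv_map hsw ⟨_, hv.symm⟩ ((hloc h0).1 (hlev ▸ hl))
          rw [hfix, ← hat] at h1'
          refine .trans _ _ _ ((hpr h0).1 _ ?_) h1'
          have hu : R.u0 < 3542 := by
            rw [Bool.or_eq_true, Bool.and_eq_true, Bool.and_eq_true, Bool.and_eq_true] at hchain
            rcases hchain with h | h
            · have := Nat.eq_of_beq_eq_true h; omega
            · exact Nat.ble_eq.mp h.1.1.2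
          obtain ⟨gu, hgu⟩ := hrange _ hu
          rw [hlin (hgu ▸ V.ptC_lt gu)]
          exact (hpr h0).2 s hsm
        · obtain ⟨u, hW⟩ := (hloc h0).2 (hlev ▸ hl)
          have h1' := V.walk_map hsw hW
          rw [hfix, ← hat] at h1'
          exact ⟨_, h1'⟩
      · rw [hb, cond_true, List.any_eq_true] at h
        obtain ⟨s, hs, e⟩ := h
        rw [← Nat.eq_of_beq_eq_true e]
        exact hseed s hs
  intro i hi
  have h := List.all_eq_true.1 (P.pos R hR) i (List.mem_range.2 hi)
  simp only [Bool.and_eq_true] at h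
  have h' := key _ (Nat.ble_eq.mp h.1)
  rwa [Nat.eq_of_beq_eq_true h.2] at h'

/-- Every cross is covered. -/
theorem covered (g : Spor.Co1) : Covered M reps (ptC M g) := by
  have htop : Subgroup.closure ((NM : Set Spor.Co1) ∪ {ltr M 15}) = ⊤ := by
    set H := Subgroup.closure ((NM : Set Spor.Co1) ∪ {ltr M 15})
    have hlt : MulAction.stabilizer Co0 stdCrossL < H.comap toCoOne := by
      refine lt_of_le_not_ge (fun γ hγ => Subgroup.subset_closure (Or.inl ⟨γ, hγ, rfl⟩)) fun h => V.e_not ?_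
      obtain ⟨γ, hγ⟩ := toCoOne_surj (ltr M 15)
      refine ⟨γ, h ?_, hγ⟩
      show toCoOne γ ∈ H
      rw [hγ]
      exact Subgroup.subset_closure (Or.inr rfl)
    rw [← Subgroup.map_comap_eq_self_of_surjective toCoOne_surj H, isCoatom_stdCross.2 _ hlt,
      ← MonoidHom.range_eq_map, MonoidHom.range_eq_top.2 toCoOne_surj]
  have hmem : g ∈ Subgroup.closure ((NM : Set Spor.Co1) ∪ {ltr M 15}) := htop ▸ Subgroup.mem_top g
  induction hmem using Subgroup.closure_induction_right with
  | one =>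
    obtain ⟨R, hR, e⟩ := P.base
    exact ⟨[], by simp, R, hR, e.trans V.ptC_one.symm⟩
  | mul_right x hx y hy ih => exact step x y hy ih
  | mul_inv_cancel x hx y hy ih =>
    refine step x y⁻¹ ?_ ih
    rcases hy with hy | hy
    · exact Or.inl (inv_mem (show y ∈ NM from hy))
    · right
      rw [Set.mem_singleton_iff] at hy
      rw [hy]
      exact inv_eq_of_mul_eq_one_right Valid.e_sq
where
  step (x y : Spor.Co1) (hy : y ∈ (NM : Set Spor.Co1) ∪ {ltr M 15}) (ih : Covered M reps (ptC M x)) :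
      Covered M reps (ptC M (x * y)) := by
    rcases hy with hy | hy
    · rwa [show ptC M (x * y) = ptC M x from (V.ptC_eq_iff _ _).2 (by simpa using inv_mem (show y ∈ NM from hy))]
    · rw [Set.mem_singleton_iff] at hy
      subst hy
      obtain ⟨m, hm, R, hR, e⟩ := ih
      obtain ⟨hv, hadj⟩ := P.adj_rep V hR
      have hm' : ∀ j ∈ m, j < 16 := fun j hj => by have := hm j hj; omega
      have hA : (crossGraph V).Adj R.v (ptC M ((wd M m)⁻¹ * x * ltr M 15)) := by
        refine ⟨(wd M m)⁻¹ * x, 1, one_mem _, ?_, by rw [mul_one]; rfl⟩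
        show ptC M ((wd M m)⁻¹ * x) = R.v
        rw [hv, V.appW_ptC hm'] at e
        have := V.ptC_congr_left (wd M m)⁻¹ e
        rw [inv_mul_cancel_left] at this
        rw [hv, this]
      obtain ⟨i, hi, hw⟩ := (hadj _).1 hA
      obtain ⟨⟨m', hm'', R', hR', e'⟩, -⟩ := P.local_all V hR i hi
      refine ⟨m ++ m', fun j hj => (List.mem_append.1 hj).elim (hm j) (hm'' j), R', hR', ?_⟩
      rw [Model.appW, List.foldr_append]
      show M.appW m (M.appW m' R'.v) = _
      rw [e', ← hw, V.appW_ptC hm', mul_assoc, mul_inv_cancel_left]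

omit V P in
theorem lev_lt (v : ℕ) : M.lev v < 4 := by
  rw [Model.lev]
  cases Nat.beq v M.x0
  · rw [cond_false]
    show 1 + fld 2 M.tbl (spanWord M.proj v) % 3 < 4
    omega
  · simp

theorem cond (g : Spor.Co1) (h0 : 0 < M.lev (ptC M g)) :
    ∃ u0, (crossGraph V).Adj (ptC M g) u0 ∧ M.lev u0 < M.lev (ptC M g) ∧
      ∀ w, (crossGraph V).Adj (ptC M g) w →
        (M.lev w < M.lev (ptC M g) → Relation.EqvGen ((crossGraph V).Step M.lev (ptC M g)) u0 w) ∧
        (M.lev w = M.lev (ptC M g) → ∃ u, (crossGraph V).Walk M.lev (M.lev (ptC M g)) (ptC M g) u w) := by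
  obtain ⟨m, hm, R, hR, e⟩ := P.covered V g
  have hm' : ∀ j ∈ m, j < 16 := fun j hj => by have := hm j hj; omega
  obtain ⟨hv, hadj⟩ := P.adj_rep V hR
  have hlev : M.lev (ptC M g) = M.lev R.v := by rw [← e, hv, V.lev_appW hm]
  have hadj' : ∀ w, (crossGraph V).Adj (ptC M g) w → ∃ i < 3542, w = M.appW m (R.at N i) := by
    rintro w ⟨g', n, hn, hg', rfl⟩
    have hg'' : (crossGraph V).pt ((wd M m)⁻¹ * g') = R.v := by
      show ptC M _ = _
      have h2 : ptC M g' = ptC M (wd M m * wd M R.word) := by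
        rw [V.ptC_wd_mul hm', ← hv, e]; exact hg'
      have h3 := V.ptC_congr_left (wd M m)⁻¹ h2
      rw [inv_mul_cancel_left] at h3
      rw [h3, hv]
    obtain ⟨i, hi, e'⟩ := (hadj _).1 ⟨(wd M m)⁻¹ * g', n, hn, hg'', rfl⟩
    refine ⟨i, hi, ?_⟩
    rw [← e']
    show ptC M (g' * n * ltr M 15) = M.appW m (ptC M ((wd M m)⁻¹ * g' * n * ltr M 15))
    rw [V.appW_ptC hm']
    congr 1
    simp [mul_assoc]
  have hseeds := P.seeds R hR
  simp only [Model.seedsOK, Bool.and_eq_true, Bool.or_eq_true] at hseeds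
  rcases hseeds.1 with h | h
  · have := Nat.eq_of_beq_eq_true h; omega
  obtain ⟨g0, n0, hn0, hg0, hw0⟩ := (hadj _).2 ⟨R.u0, Nat.ble_eq.mp h.1.1.2, rfl⟩
  refine ⟨M.appW m (R.at N R.u0), ⟨wd M m * g0, n0, hn0, ?_, ?_⟩, ?_, fun w hw => ?_⟩
  · show ptC M (wd M m * g0) = _
    rw [V.ptC_wd_mul hm', show ptC M g0 = R.v from hg0, e]
  · show ptC M (wd M m * g0 * n0 * ltr M 15) = _
    rw [mul_assoc, mul_assoc, V.ptC_wd_mul hm', ← mul_assoc]
    exact congrArg (M.appW m) hw0
  · rw [← hw0, hlev, show (crossGraph V).pt (g0 * n0 * (crossGraph V).e) = ptC M (g0 * n0 * ltr M 15) from rfl,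
      V.lev_appW hm]
    rw [show ptC M (g0 * n0 * ltr M 15) = R.at N R.u0 from hw0]
    exact Nat.ble_eq.mp h.1.1.1
  · obtain ⟨i, hi, rfl⟩ := hadj' w hw
    obtain ⟨g1, n1, -, -, hw1⟩ := (hadj _).2 ⟨i, hi, rfl⟩
    have hl : M.lev (M.appW m (R.at N i)) = M.lev (R.at N i) := by rw [← hw1]; exact V.lev_appW hm _
    have hloc := (P.local_all V hR i hi).2 (hlev ▸ h0)
    refine ⟨fun hlt => ?_, fun heq => ?_⟩
    · have := V.eqv_map hm ⟨_, hv.symm⟩ (hloc.1 (by omega))
      rwa [e] at this
    · obtain ⟨u, hW⟩ := hloc.2 (by omega)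
      have := V.walk_map hm hW
      rw [e, ← hlev] at this
      exact ⟨_, this⟩

end RepsValid

end CfsgLib.CoOneUnique
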