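import Mathlib
import Cfsg.Agent.Lib.CoOneGolay.Local

/-!
Finite certificates on masks for the centralizer of an element outside the class of the central involution.
-/

set_option autoImplicit false
set_option linter.style.longLine false
set_option maxHeartbeats 4000000
set_option maxRecDepth 100000
set_option synthInstance.maxSize 8000
set_option synthInstance.maxHeartbeats 1000000

namespace CfsgLib.CoOneUnique

open CfsgLib.CoOneGolay CfsgLib.CoOneType CfsgLib.Golay

theorem rank_table : ((List.range 2048).all fun m => Nat.beq m 0 || inO m ||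
    (decide (32 ≤ m) && ((dLine (m >>> 5)).isSome == !inO (Nat.xor m 1)))) = true := by decide +kernel

theorem four_fix : ∀ h < 64, h ≠ 0 → (dLine h).isSome = false →
    ∀ v : V, actL (baseMaps.drop 5) h v = v → ∀ i < 16, B v (uv i) = 0 := by decide +kernel

theorem four_move : ∀ h < 64, h ≠ 0 → (dLine h).isSome = false →
    ∀ i < 16, ∃ v : V, actL (baseMaps.drop 5) h v + v = uv i := by decide +kernel

theorem perp_two : ∀ i < 16, ∀ i' < 16, ∃ j < 16, j ≠ 0 ∧ ort i j = true ∧ ort i' j = true := by decide +kernel

theorem dual_three : ∀ l ∈ lines, ∀ k < 16, inSpan l k = false → ∀ a b c : ZMod 2,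
    ∃ j < 16, B (uv l.1) (dv j) = a ∧ B (uv l.2) (dv j) = b ∧ B (uv k) (dv j) = c := by decide +kernel

theorem span_values : ∀ l ∈ lines, ∀ k < 16,
    (inSpan l k = true ↔ ∃ a b : ZMod 2, uv k = a • uv l.1 + b • uv l.2) := by decide +kernel

theorem basis_indep : ∀ s : Fin 4 → ZMod 2, ∑ k, s k • uv (2 ^ (k : ℕ)) = 0 → s = 0 := by decide +kernel

/-! ### The representative `40` -/

/-- Both lifts in the class. -/
def tT (o : ℕ) : Bool := inO o && inO (Nat.xor o 40)
/-- Exactly this lift in the class. -/
def tS (o : ℕ) : Bool := inO o && !inO (Nat.xor o 40)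
/-- Nontrivial, no lift in the class. -/
def tC (o : ℕ) : Bool := !(Nat.beq o 0 || Nat.beq o 40 || inO o || inO (Nat.xor o 40))
/-- Representatives of the third kind. -/
def cList : List ℕ := (List.range 2048).filter fun a => tC a && decide (a < Nat.xor a 40)
/-- The second kind. -/
def sList : List ℕ := (List.range 2048).filter fun a => tS a
/-- Whether exactly one lift is in the class, with zero counted in it. -/
def dl (a : ℕ) : Bool := xor (Nat.beq a 0 || inO a) (Nat.beq a 40 || inO (Nat.xor a 40))
/-- Parity of the selected bits. -/
def parB : List ℕ → ℕ → Bool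
  | [], _ => false
  | i :: l, n => xor (n.testBit i) (parB l n)
/-- Parity of eleven bits. -/
def par (n : ℕ) : Bool := parB (List.range 11) n
/-- The second difference. -/
def sd (a b : ℕ) : Bool := xor (xor (dl (Nat.xor a b)) (dl a)) (xor (dl b) true)
/-- The matrix of the second difference. -/
def mv (i : ℕ) : ℕ := ((List.range 11).map fun k => if sd (2 ^ k) (2 ^ i) then 2 ^ k else 0).sum
/-- Its rows. -/
def mList : List ℕ := (List.range 11).map mv

theorem quad_base : (basisN.all fun e => (List.range 2048).all fun a =>
    sd a e == par (Nat.land a (spanWord mList e))) = true := by decide +kernel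

theorem wit_one_table : (cList.all fun a => sList.any fun s => tC (Nat.xor a s)) = true := by decide +kernel

theorem wit_two_table : (cList.all fun a => cList.all fun b => !(decide (a < b) && tC (Nat.xor a b)) ||
    sList.any fun s => tC (Nat.xor a s) && tC (Nat.xor b s) && tC (Nat.xor (Nat.xor a b) s)) = true := by
  decide +kernel

theorem exists_tT : ∃ o < 2048, tT o = true := by decide +kernel

end CfsgLib.CoOneUnique
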