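import Mathlib
import Cfsg.Agent.Lib.CoOneType.Upper
import Cfsg.Agent.Lib.CoOneGolay.Frame

/-!
If an involution of `C(z)` and its product with `z` are both conjugate to `z`, it lies in `Q` or is a root
element.
-/

set_option autoImplicit false
set_option linter.style.longLine false
set_option maxHeartbeats 2000000
set_option synthInstance.maxSize 8000
set_option synthInstance.maxHeartbeats 1000000

namespace CfsgLib.CoOneUnique

open Subgroup CfsgLib.CoOneType

/-- Parameters of a singular line. -/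
def LineV (p m : V) : Prop := p ≠ 0 ∧ qV 0 p = 0 ∧ m ≠ 0 ∧ m ≠ p ∧ qV 0 m = 0 ∧ B p m = 0

variable {G : Type*} [Group G] [Finite G] {z : G} {Q : Subgroup G}

/-- In `Q`, or a root element. -/
def QRoot (K : Coord z Q 0) (t : G) : Prop := t ∈ Q ∨ ∃ p m, LineV p m ∧ K.Root p m t

theorem sig0_moves : ∃ w : W, sig0 w ≠ w := ⟨G1, by decide +kernel⟩

theorem lineV_x0 {w : W} (hw : qW 0 w = 0) (hw0 : w ≠ 0) : LineV x0 (inj w) := by
  refine ⟨by decide, by decide, fun h => hw0 (congrArg Prod.snd h), fun h => hw0 (congrArg Prod.snd h),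
    (qV_inj 0 w).trans hw, ?_⟩
  rw [B_comm, B_x0]; rfl

theorem lineV_map {K : Coord z Q 0} (H : Hyp z Q) {c : G} (hc : c * z = z * c) {p m : V} (h : LineV p m) :
    LineV (K.act c p) (K.act c m) := by
  obtain ⟨h1, h2, h3, h4, h5, h6⟩ := h
  have hi := K.act_injective H hc
  have h0 := K.act_zero H hc
  exact ⟨fun e => h1 (hi (e.trans h0.symm)), by rw [K.act_q H hc, h2], fun e => h3 (hi (e.trans h0.symm)),
    fun e => h4 (hi e), by rw [K.act_q H hc, h5], by rw [K.act_B H hc, h6]⟩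

theorem lineV_point {p m η : V} (h : LineV p m) (hη : η ≠ 0) {i j : ZMod 2} (e : η = i • p + j • m) :
    ∃ m', LineV η m' ∧ rootV p m = rootV η m' ∧ (m' = p ∨ m' = m) := by
  obtain ⟨h1, h2, h3, h4, h5, h6⟩ := h
  rcases zcases i with rfl | rfl <;> rcases zcases j with rfl | rfl <;>
    simp only [zero_smul, one_smul, add_zero, zero_add] at e
  · exact absurd e hη
  · subst e
    exact ⟨p, ⟨h3, h5, h1, Ne.symm h4, h2, by rw [B_comm, h6]⟩, rootV_swap p η, Or.inl rfl⟩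
  · subst e
    exact ⟨m, ⟨h1, h2, h3, h4, h5, h6⟩, rfl, Or.inr rfl⟩
  · subst e
    refine ⟨p, ⟨hη, by rw [qV_add, h2, h5, h6]; rfl, h1, fun e => h3 ?_, h2, ?_⟩, ?_, Or.inl rfl⟩
    · exact left_eq_add.mp e
    · rw [B_add_left, B_self, B_comm m, h6, add_zero]
    · rw [rootV_swap (p + m) p, add_comm p m, rootV_shift]

theorem qroot_conj {K : Coord z Q 0} (H : Hyp z Q) {c t : G} (hc : c * z = z * c)
    (h : QRoot K (c * t * c⁻¹)) : QRoot K t := by
  have hci : c⁻¹ * z = z * c⁻¹ := (Commute.inv_left hc).eq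
  have e : c⁻¹ * (c * t * c⁻¹) * c⁻¹⁻¹ = t := by group
  rcases h with h | ⟨p, m, hl, hr⟩
  · exact Or.inl (e ▸ H.norm _ hci _ h)
  · exact Or.inr ⟨_, _, lineV_map H hci hl, e ▸ hr.conj K H hci⟩

variable {K : Coord z Q 0} {x g : G} (S : Base K x g)
include S

theorem qroot_of_trivial {t : G} (ht : t * z = z * t) (h2 : t * t = 1) (hz : IsConj z t) (hx : K.act t x0 = x0)
    (hres : ∀ w, K.res t w = w) : QRoot K t := by
  rcases S.trivial_case ht h2 hx hres with k | ⟨c, hc, k⟩ | ⟨c, hc, k⟩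
  · exact Or.inl k
  · refine qroot_conj S.hyp hc ?_
    by_cases hu : S.ur (c * t * c⁻¹) = 0
    · exact Or.inl ((S.ur_zero k).1 hu)
    have hq : qW 0 (S.ur (c * t * c⁻¹)) = 0 := by
      have h := S.sq_R k
      rw [conj_sq_one h2, ← S.el_zero] at h
      exact (S.el_inj h).2.symm
    exact Or.inr ⟨_, _, lineV_x0 hq hu, S.R_z k, (S.act_R k).trans (E_eq_rootV hq), conj_sq_one h2,
      hz.trans (isConj_iff.2 ⟨c, rfl⟩)⟩
  · exfalso
    rcases k with k | k
    · exact S.typA_not_conj k (hz.trans (isConj_iff.2 ⟨c, rfl⟩))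
    · exact S.typB_not_conj k (hz.trans (isConj_iff.2 ⟨c, rfl⟩))

theorem qroot_of_point {t : G} (ht : t * z = z * t) (h2 : t * t = 1) (hz : IsConj z t) {a : V} (ha : a ≠ 0)
    (haq : qV 0 a = 0) (hfix : K.act t a = a) (hperp : ∀ v, B v a = 0 → K.act t v = v ∨ K.act t v = v + a) :
    QRoot K t := by
  have H := S.hyp
  obtain ⟨c, hc, hca⟩ := K.transitive H (w := x0) ha haq (by decide) (by decide)
  refine qroot_conj H hc (qroot_of_trivial S (conj_comm_z hc ht) (conj_sq_one h2)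
    (hz.trans (isConj_iff.2 ⟨c, rfl⟩)) ?_ ?_)
  · rw [← hca, K.act_conj_apply H hc ht, hfix]
  · intro w
    obtain ⟨v, hv⟩ := (Finite.injective_iff_surjective.1 (K.act_injective H hc)) (inj w)
    show (K.act (c * t * c⁻¹) (inj w)).2 = w
    rw [← hv, K.act_conj_apply H hc ht]
    rcases hperp v (by rw [← K.act_B H hc v a, hv, hca, B_x0]; rfl) with e | e <;> rw [e]
    · rw [hv]; rfl
    · rw [K.act_add H hc, hv, hca]
      simp [inj, x0]

theorem qroot_of_fixed {d : G} {Φ : W} (L : Line S d Φ) {t : G} (ht : t * z = z * t) (h2 : t * t = 1)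
    (hz : IsConj z t) (h32 : 32 ≤ (Finset.univ.filter fun v : V => K.act t v = v).card) : QRoot K t := by
  have H := S.hyp
  obtain ⟨c, hc, hcase⟩ := S.normal L ht h2
  refine qroot_conj H hc ?_
  have hcz := conj_comm_z hc ht
  have hc2 : c * t * c⁻¹ * (c * t * c⁻¹) = 1 := conj_sq_one h2
  have hcc := hz.trans (isConj_iff.2 ⟨c, rfl⟩ : IsConj t (c * t * c⁻¹))
  rcases hcase with ⟨u, hu⟩ | ⟨u, e1, e2, hu⟩
  · exact qroot_of_trivial S hcz hc2 hcc (by rw [hu, E_x0]) fun w => by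
      show (K.act (c * t * c⁻¹) (inj w)).2 = w
      simp [hu, tail_E, inj]
  · by_cases hL' : BW u H1 = 0 ∧ BW u H2 = 0
    · obtain ⟨a, ⟨ha, haq, hfix⟩, hperp⟩ := line_point u e1 e2 hL'.1 hL'.2
      refine qroot_of_point S hcz hc2 hcc ha haq (by rw [hu, hfix]) fun v hv => ?_
      simpa only [hu] using hperp v hv
    · exfalso
      have hk := K.fixed_card_conj H hc ht
      simp only [hu] at hk
      rw [fixed_count u e1 e2 hL'] at hk
      omega

/-- The case of a four-dimensional move space does not occur. -/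
theorem no_rank_four {d : G} {Φ : W} (L : Line S d Φ) {t : G} (ht : t * z = z * t) (h2 : t * t = 1)
    (hz : IsConj z t) (hzz : IsConj z (t * z)) {u : W} (hu1 : BW u A1 = 0) (hu2 : BW u A2 = 0)
    (hL : ¬ (BW u H1 = 0 ∧ BW u H2 = 0)) (hact : ∀ v, K.act t v = D0 (E u v)) : False := by
  classical
  have H := S.hyp
  have hdt := (Commute.mul_left L.dz ht).eq
  have hdtE : ∀ v, K.act (d * t) v = E u v := fun v => by rw [K.act_mul H L.dz ht, L.act, hact, D0_invol]
  have hdtx : K.act (d * t) x0 = x0 := by rw [hdtE, E_x0]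
  obtain ⟨r, hr, q, hq, e⟩ := S.decompose hdt hdtx (fun w => by
    show (K.act (d * t) (inj w)).2 = w
    simp [hdtE, tail_E, inj])
  have hur : S.ur r = u := by
    have h := congrFun (S.act_R hr) f0
    have h' : K.act (d * t) f0 = K.act r f0 := by
      rw [e, K.act_mul H (S.R_z hr) (H.extra.comm_z hq), K.act_mem H hq]
    rw [hdtE, h] at h'
    have := congrArg (fun v : V => v.2) h'
    simpa [tail_E, f0] using this.symm
  have htd : t = d * r * q := by rw [mul_assoc, ← e, ← mul_assoc, L.sq, one_mul]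
  have hdr := L.dr r hr (hur ▸ hu1) (hur ▸ hu2)
  rw [hur] at hdr
  have hrd : d * r * d * r = S.el (BW u Φ) (qW 0 u) := by
    calc d * r * d * r = (d * r * d⁻¹ * r⁻¹) * (r * r) := by
          rw [inv_eq_of_mul_eq_one_right L.sq]; group
      _ = _ := by rw [hdr, S.sq_R hr, hur, S.el_mul, add_zero, zero_add]
  have hdrz := (Commute.mul_left L.dz (S.R_z hr)).eq
  have hdrx := (Commute.mul_left L.dx (S.R_x hr)).eq
  -- `q` centralizes `x`
  have hqe : (d * r) * q * (d * r)⁻¹ = q⁻¹ * S.el (BW u Φ) (qW 0 u) := by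
    have e1 : d * r * q * (d * r) = q⁻¹ := by
      rw [eq_inv_iff_mul_eq_one, ← h2, htd]; group
    calc (d * r) * q * (d * r)⁻¹ = d * r * q * (d * r) * (d * r * d * r)⁻¹ := by group
      _ = _ := by rw [e1, hrd, inv_eq_of_mul_eq_one_right (S.el_sq _ _)]
  have hv := congrArg K.vec hqe
  rw [← K.act_vec H hdrz hq, K.mul (inv_mem hq) (S.el_mem _ _), K.vec_inv hq, S.vec_el, K.act_mul H L.dz (S.R_z hr),
    L.act, S.act_R hr, hur] at hv
  have hv2 : sig0 ((K.vec q).2 + (K.vec q).1.2 • u) = (K.vec q).2 := by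
    have := congrArg (fun v : V => v.2) hv
    simpa [D0, tail_E] using this
  obtain ⟨hb, hw1, hw2⟩ := tail_fix u hu1 hu2 hL _ _ hv2
  have hqx : q * x = x * q := (S.comm_x_iff hq).2 hb
  have hdq := L.dq q hq hb hw1 hw2
  have hsq : t * t = S.el (BW u Φ) 0 * (r * q * (r * q)) := by
    rw [htd, ← hdr]
    calc d * r * q * (d * r * q) = d * r * (q * d) * r * q := by group
      _ = d * r * (d * q) * r * q := by rw [hdq]
      _ = _ := by
        conv_rhs => rw [inv_eq_of_mul_eq_one_right L.sq]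
        group
  rw [h2, S.sq_rq hr hq hqx, hur, S.el_mul, ← S.el_zero] at hsq
  obtain ⟨c1, c2⟩ := S.el_inj hsq.symm
  rw [zero_add] at c2
  obtain ⟨qu, Bu⟩ := plane_forms u hu1 hu2
  have qw := (plane_forms _ hw1 hw2).1
  rw [Bu _ hw1 hw2, Bu _ L.hΦ.1 L.hΦ.2, qw] at c1
  rw [Bu _ hw1 hw2, qu] at c2
  -- choose the tail
  obtain ⟨v, hvQ, r', q', hr', hq', hqx', hw1', hw2', hF1, hF2, htd'⟩ : ∃ v, v ∈ Q ∧ ∃ r' q',
      r' ∈ S.R ∧ q' ∈ Q ∧ q' * x = x * q' ∧ BW (K.vec q').2 A1 = 0 ∧ BW (K.vec q').2 A2 = 0 ∧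
      BW (Φ + (K.vec q').2) H1 = 0 ∧ BW (Φ + (K.vec q').2) H2 = 0 ∧ v * t * v⁻¹ = d * r' * q' := by
    rcases plane_choice (BW u H1) (BW u H2) (BW (K.vec q).2 H1) (BW (K.vec q).2 H2) (BW Φ H1) (BW Φ H2) hL
      (by linear_combination c1) (by linear_combination c2) with ⟨k1, k2⟩ | ⟨k1, k2⟩
    · exact ⟨1, one_mem Q, r, q, hr, hq, hqx, hw1, hw2, by rw [BW_add_left, k1], by rw [BW_add_left, k2],
        by rw [one_mul, inv_one, mul_one, htd]⟩
    · set v := K.lift f0 with hv0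
      have hvQ : v ∈ Q := K.lift_mem _
      have hdri := (Commute.inv_left hdrz).eq
      have hm : (d * r)⁻¹ * v * (d * r) ∈ Q := by
        have := H.norm _ hdri v hvQ
        rwa [inv_inv] at this
      have hq' := mul_mem (mul_mem hm hq) (inv_mem hvQ)
      have hai : K.act (d * r)⁻¹ f0 = E u f0 := by
        refine K.act_injective H hdrz ?_
        rw [K.act_cancel H hdrz, K.act_mul H L.dz (S.R_z hr), L.act, S.act_R hr, hur]
        have : E u (E u f0) = f0 := by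
          refine Prod.ext (Prod.ext ?_ rfl) ?_
          · simp [E, f0, BW_self, CharTwo.add_self_eq_zero, BW_zero_right]
          · simp [E, f0, addW]
        rw [this]; exact D0_facts.2.1.symm
      have hvec : K.vec ((d * r)⁻¹ * v * (d * r) * q * v⁻¹) = E u f0 + K.vec q + f0 := by
        rw [K.mul (mul_mem hm hq) (inv_mem hvQ), K.mul hm hq, K.vec_inv hvQ]
        have h' := K.act_vec H hdri hvQ
        rw [inv_inv] at h'
        rw [← h', hv0, K.vec_lift, hai]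
      refine ⟨v, hvQ, r, _, hr, hq', (S.comm_x_iff hq').2 ?_, ?_, ?_, ?_, ?_,
        by rw [htd]; group⟩
      all_goals rw [hvec]
      · simp [E, f0, hb, CharTwo.add_self_eq_zero]
      · simp [E, f0, BW_add_left, hu1, hw1]
      · simp [E, f0, BW_add_left, hu2, hw2]
      · simp [E, f0, BW_add_left]
        linear_combination k1
      · simp [E, f0, BW_add_left]
        linear_combination k2
  have hvz : v * z = z * v := H.extra.comm_z hvQ
  set t' := v * t * v⁻¹ with ht'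
  have ht'z : t' * z = z * t' := conj_comm_z hvz ht
  have ht'2 : t' * t' = 1 := conj_sq_one h2
  have ht'c : IsConj z t' := hz.trans (isConj_iff.2 ⟨v, rfl⟩)
  have ht'zz : IsConj z (t' * z) := hzz.trans (isConj_iff.2 ⟨v, by
    calc v * (t * z) * v⁻¹ = v * t * (z * v⁻¹) := by group
      _ = v * t * (v⁻¹ * z) := by rw [(Commute.inv_left hvz).eq]
      _ = t' * z := by rw [ht']; group⟩)
  have ht'act : K.act t' = K.act t := by
    funext a
    rw [ht', K.act_mul H (Commute.mul_left hvz ht).eq (Commute.inv_left hvz).eq, K.act_mul H hvz ht,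
      K.act_mem H hvQ, K.act_mem H (inv_mem hvQ)]
  have hno : ∀ u', K.act t' ≠ E u' := by
    intro u' e
    obtain ⟨w, hw⟩ := sig0_moves
    have h := congrArg (fun a : V => a.2) ((congrFun e (inj w)).symm.trans
      ((congrFun ht'act (inj w)).trans (hact (inj w))))
    simp [D0, tail_E, inj] at h
    exact hw h.symm
  have ht'x : t' * x = x * t' := by
    rw [htd']
    exact ((Commute.mul_left L.dx (S.R_x hr')).mul_left hqx').eq
  obtain ⟨s, hs⟩ : ∃ s, s = g⁻¹ * t' * g := ⟨_, rfl⟩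
  have hsz : s * z = z * s := by
    calc s * z = g⁻¹ * (t' * (g * z * g⁻¹)) * g := by rw [hs]; group
      _ = g⁻¹ * (g * z * g⁻¹ * t') * g := by rw [S.hg, ht'x]
      _ = z * s := by rw [hs]; group
  have hts : g * s * g⁻¹ = t' := by rw [hs]; group
  have hs2 : s * s = 1 := by
    rw [hs, show g⁻¹ * t' * g * (g⁻¹ * t' * g) = g⁻¹ * (t' * t') * g by group, ht'2]; group
  obtain ⟨hyQ, hy0, hyq⟩ := S.w_spec
  obtain ⟨y, hy⟩ : ∃ y, y = g⁻¹ * z * g := ⟨_, rfl⟩
  rw [← hy] at hyQ hy0 hyq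
  have hsy : s * y = g⁻¹ * (t' * z) * g := by rw [hs, hy]; group
  have hyz : y * z = z * y := H.extra.comm_z hyQ
  have hsyz : s * y * z = z * (s * y) := (Commute.mul_left hsz hyz).eq
  have hsy2 : s * y * (s * y) = 1 := by
    rw [hsy, show g⁻¹ * (t' * z) * g * (g⁻¹ * (t' * z) * g) = g⁻¹ * (t' * (z * t') * z) * g by group, ← ht'z,
      show t' * (t' * z) * z = t' * t' * (z * z) by group, ht'2, H.extra.sq_one]
    group
  have hcs : IsConj z s := ht'c.trans (isConj_iff.2 ⟨g⁻¹, by rw [hs, inv_inv]⟩)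
  have hcsy : IsConj z (s * y) := ht'zz.trans (isConj_iff.2 ⟨g⁻¹, by rw [hsy, inv_inv]⟩)
  have hsyact : K.act (s * y) = K.act s := by
    funext a
    rw [K.act_mul H hsz hyz, K.act_mem H hyQ]
  have h32 : 32 ≤ (Finset.univ.filter fun v : V => K.act s v = v).card := by
    rw [hs, htd']
    exact S.swap_fixed L hr' hq' hqx' hw1' hw2' hF1 hF2 (by rw [← htd', ← hs]; exact hsz)
  have hQs : s ∉ Q := fun hQs => hno _ (S.act_R (S.mem_R.2 ⟨by rw [← hs]; exact hQs, ht'z⟩))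
  obtain ⟨p, m, hl, hr⟩ := (qroot_of_fixed S L hsz hs2 hcs h32).resolve_left hQs
  obtain ⟨p', m', -, hr2⟩ := (qroot_of_fixed S L hsyz hsy2 hcsy (by rw [hsyact]; exact h32)).resolve_left
    fun h => hQs (by simpa using mul_mem h (inv_mem hyQ))
  have hr3 : K.Root p m (s * y) := hr2.congr K (by rw [← hr2.2.1, hsyact, hr.2.1])
  obtain ⟨q0, hq0, ⟨i, j, hv0⟩, he⟩ := S.root_diff hl.1 hl.2.1 hl.2.2.1 hl.2.2.2.1 hl.2.2.2.2.1 hl.2.2.2.2.2 hr hr3
  obtain rfl : q0 = y := (mul_left_cancel he).symm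
  obtain ⟨m1, hl1, hm1, -⟩ := lineV_point hl hy0 hv0
  -- exchange `z` and `x`
  obtain ⟨d0, hd0, hd0x⟩ := K.transitive H (v := x0) (w := K.vec q0) (by decide) (by decide) hy0 hyq
  obtain ⟨e, hez, hev, hex⟩ : ∃ e, e * z = z * e ∧ K.act e x0 = K.vec q0 ∧ e * x * e⁻¹ = q0 := by
    have hv : K.vec (d0 * x * d0⁻¹) = K.vec q0 := by rw [← K.act_vec H hd0 S.hx, S.hxv, hd0x]
    rcases K.eq_or H (H.norm d0 hd0 x S.hx) hyQ hv with k | k
    · exact ⟨d0, hd0, hd0x, k⟩
    obtain ⟨h, hh⟩ := partnerV _ hy0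
    have hlQ := K.lift_mem h
    refine ⟨K.lift h * d0, (Commute.mul_left (H.extra.comm_z hlQ) hd0).eq,
      by rw [K.act_mul H (H.extra.comm_z hlQ) hd0, K.act_mem H hlQ, hd0x], ?_⟩
    rw [show K.lift h * d0 * x * (K.lift h * d0)⁻¹ = K.lift h * (d0 * x * d0⁻¹) * (K.lift h)⁻¹ by group, k,
      show K.lift h * (z * q0) * (K.lift h)⁻¹ = K.lift h * z * q0 * (K.lift h)⁻¹ by group, H.extra.comm_z hlQ,
      show z * K.lift h * q0 * (K.lift h)⁻¹ = z * (K.lift h * q0 * (K.lift h)⁻¹) by group,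
      K.conj hyQ hlQ, K.vec_lift, B_comm, hh, if_neg one_ne_zero, ← mul_assoc, H.extra.sq_one, one_mul]
  obtain ⟨g', hg'⟩ : ∃ g', g' = g * e := ⟨_, rfl⟩
  have hgz : g' * z * g'⁻¹ = x := by
    rw [hg', show g * e * z * (g * e)⁻¹ = g * (e * z * e⁻¹) * g⁻¹ by group, hez,
      show g * (z * e * e⁻¹) * g⁻¹ = g * z * g⁻¹ by group, S.hg]
  have hgx : g' * x * g'⁻¹ = z := by
    rw [hg', show g * e * x * (g * e)⁻¹ = g * (e * x * e⁻¹) * g⁻¹ by group, hex, hy]; group
  have hg2 : g' * g' * z = z * (g' * g') := by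
    refine mul_inv_eq_iff_eq_mul.1 ?_
    rw [show g' * g' * z * (g' * g')⁻¹ = g' * (g' * z * g'⁻¹) * g'⁻¹ by group, hgz, hgx]
  let S' : Base K x g' := ⟨H, S.hx, S.hxv, hgz⟩
  have hei : e⁻¹ * z = z * e⁻¹ := (Commute.inv_left hez).eq
  have hr4 := (hr.congr K hm1).conj K H hei
  have hl4 := lineV_map (K := K) H hei hl1
  have hx4 : K.act e⁻¹ (K.vec q0) = x0 := by rw [← hev]; exact K.act_inv_cancel H hez _
  rw [hx4] at hr4 hl4
  obtain ⟨-, -, hn0, hnx, hnq, hnB⟩ := hl4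
  set n := K.act e⁻¹ m1 with hn
  have hn2 : n.1.2 = 0 := by rw [← B_x0, B_comm, hnB]
  have hw0 : n.2 ≠ 0 := fun h => (zero_line n hn2 h).elim hn0 hnx
  have hw : qW 0 n.2 = 0 := by simpa [qV, hn2] using hnq
  have h5 := S'.root_typ hw hw0 (hr4.congr K (rootV_x0 hn2))
  obtain ⟨r5, q5, hr5, hq5, hqx5, e5⟩ : ∃ r5 q5, r5 ∈ S'.R ∧ q5 ∈ Q ∧ q5 * x = x * q5 ∧
      e⁻¹ * s * e⁻¹⁻¹ = r5 * q5 := by
    rcases h5 with ⟨r5, q5, a, b, c, d, -⟩ | ⟨r5, q5, a, b, c, d, -⟩ <;> exact ⟨r5, q5, a, b, c, d⟩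
  have hA : g' * r5 * g'⁻¹ ∈ Q := by
    have h := H.norm _ hg2 _ (S'.mem_R.1 hr5).1
    rwa [show g' * g' * (g'⁻¹ * r5 * g') * (g' * g')⁻¹ = g' * r5 * g'⁻¹ by group] at h
  have hB : g' * q5 * g'⁻¹ ∈ S'.R := by
    refine S'.mem_R.2 ⟨by rw [show g'⁻¹ * (g' * q5 * g'⁻¹) * g' = q5 by group]; exact hq5, ?_⟩
    rw [← hgx, show g' * q5 * g'⁻¹ * (g' * x * g'⁻¹) = g' * (q5 * x) * g'⁻¹ by group, hqx5]
    group
  have hprod : t' = g' * r5 * g'⁻¹ * (g' * q5 * g'⁻¹) := by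
    rw [show g' * r5 * g'⁻¹ * (g' * q5 * g'⁻¹) = g' * (r5 * q5) * g'⁻¹ by group, ← e5, hg', ← hts]
    group
  refine hno (S'.ur (g' * q5 * g'⁻¹)) (funext fun a => ?_)
  rw [hprod, K.act_mul H (H.extra.comm_z hA) (S'.R_z hB), K.act_mem H hA, S'.act_R hB]

/-- An involution of `C(z)` with both lifts conjugate to `z` is in `Q` or is a root element. -/
theorem qroot_of_pair {t : G} (ht : t * z = z * t) (h2 : t * t = 1)
    (hz : IsConj z t) (hzz : IsConj z (t * z)) : QRoot K t := by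
  have H := S.hyp
  obtain ⟨d, Φ, L⟩ := S.exists_line
  obtain ⟨c, hc, hcase⟩ := S.normal L ht h2
  refine qroot_conj H hc ?_
  have hcz := conj_comm_z hc ht
  have hcc := hz.trans (isConj_iff.2 ⟨c, rfl⟩ : IsConj t (c * t * c⁻¹))
  rcases hcase with ⟨u, hu⟩ | ⟨u, e1, e2, hu⟩
  · exact qroot_of_trivial S hcz (conj_sq_one h2) hcc (by rw [hu, E_x0]) fun w => by
      show (K.act (c * t * c⁻¹) (inj w)).2 = w
      simp [hu, tail_E, inj]
  · by_cases hL' : BW u H1 = 0 ∧ BW u H2 = 0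
    · obtain ⟨a, ⟨ha, haq, hfix⟩, hperp⟩ := line_point u e1 e2 hL'.1 hL'.2
      refine qroot_of_point S hcz (conj_sq_one h2) hcc ha haq (by rw [hu, hfix]) fun v hv => ?_
      simpa only [hu] using hperp v hv
    · refine (no_rank_four S L hcz (conj_sq_one h2) hcc (hzz.trans (isConj_iff.2 ⟨c, ?_⟩)) e1 e2 hL' hu).elim
      calc c * (t * z) * c⁻¹ = c * t * (z * c⁻¹) := by group
        _ = c * t * (c⁻¹ * z) := by rw [(Commute.inv_left hc).eq]
        _ = _ := by group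

end CfsgLib.CoOneUnique
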