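import Mathlib
import Cfsg.Agent.Lib.CoOneGolay.Norm
import Cfsg.Agent.Lib.CoOneUnique.RootPair

/-!
Elements of `C(z)` and the singular four-space: a plane stabilizer already stabilizes the four-space, and
the elementary abelian subgroup contains the centralizer of its part in `Q`.
-/

set_option autoImplicit false
set_option linter.style.longLine false
set_option maxHeartbeats 1000000
set_option maxRecDepth 100000
set_option synthInstance.maxSize 8000
set_option synthInstance.maxHeartbeats 1000000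

namespace CfsgLib.CoOneUnique

open Subgroup CfsgLib.CoOneGolay CfsgLib.CoOneType CfsgLib.Golay

theorem uv_basis : ∀ i < 16, uv i = (if i.testBit 0 then uv 1 else 0) + (if i.testBit 1 then uv 2 else 0) +
    (if i.testBit 2 then uv 4 else 0) + (if i.testBit 3 then uv 8 else 0) := by decide +kernel

theorem four_indep : ∀ s : Fin 4 → ZMod 2, ∑ k, s k • uv (2 ^ (k : ℕ)) = 0 → s = 0 := by decide +kernel

theorem plane_compl : ∀ l ∈ lines, ∀ i < 16, inSpan l i = false → ∃ k < 16, ∀ x < 16,
    inSpan l x || inSpan l (Nat.xor x i) || inSpan l (Nat.xor x k) || inSpan l (Nat.xor (Nat.xor x i) k) := by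
  decide +kernel

theorem span_to_uv : ∀ l ∈ lines, ∀ x < 16, inSpan l x = true → ∃ a b : ZMod 2, uv x = a • uv l.1 + b • uv l.2 := by
  decide +kernel

theorem span_comb : ∀ l ∈ lines, ∀ a b : ZMod 2, ∃ x < 16, inSpan l x = true ∧ uv x = a • uv l.1 + b • uv l.2 := by
  decide +kernel

theorem uv_zero' : uv 0 = 0 := by decide +kernel

theorem exists_uv_partner {u : V} (hu : ∀ k < 16, u ≠ uv k) : ∃ x < 16, B (uv x) u = 1 := by
  by_contra h
  push Not at h
  obtain ⟨k, hk, e⟩ := mem_U u fun i hi => by rw [B_comm]; exact (zcases _).resolve_right (h i hi)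
  exact hu k hk e

theorem lineV_uv : ∀ l ∈ lines, LineV (uv l.1) (uv l.2) := fun l hl => by
  obtain ⟨⟨h1, h2, h3, h4, h5, h6⟩, -⟩ := line_data l hl
  exact ⟨h1, h2, h3, h4, h5, h6⟩

/-- The two coefficients of a combination vanishing on a line. -/
theorem line_zero {p m : V} (h : LineV p m) {a b : ZMod 2} (e : a • p + b • m = 0) : a = 0 ∧ b = 0 := by
  obtain ⟨h1, -, h3, h4, -, -⟩ := h
  rcases zcases a with rfl | rfl <;> rcases zcases b with rfl | rfl <;>
    simp only [zero_smul, one_smul, add_zero, zero_add] at e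
  · exact ⟨rfl, rfl⟩
  · exact absurd e h3
  · exact absurd e h1
  · exact absurd (eqV e).symm h4

theorem B_smul_left' (t : ZMod 2) (v w : V) : B (t • v) w = t * B v w := by
  rcases zcases t with rfl | rfl <;> simp [B_zero_left]

theorem B_smul_right' (t : ZMod 2) (v w : V) : B v (t • w) = t * B v w := by
  rcases zcases t with rfl | rfl <;> simp [B_zero_right]

theorem rootV_fix {p m v : V} (h : LineV p m) : rootV p m v = v ↔ B v p = 0 ∧ B v m = 0 := by
  constructor
  · intro e
    rw [rootV, add_assoc, add_eq_left] at e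
    obtain ⟨a, b⟩ := line_zero h e
    exact ⟨b, a⟩
  · rintro ⟨a, b⟩
    rw [rootV, a, b, zero_smul, zero_smul, add_zero, add_zero]

variable {G : Type*} [Group G] [Finite G] {z : G} {Q : Subgroup G} {K : Coord z Q 0} {x g : G} {S : Base K x g}

section basic

variable (F : Frame S)

theorem act_W_uv (m : ℕ) {i : ℕ} (hi : i < 16) : K.act (W F m) (uv i) = uv i := by
  obtain ⟨w1, w2⟩ := W_low F (m := 2 * i) (by omega)
  rw [show (2 * i) >>> 1 = i by rw [Nat.shiftRight_eq_div_pow]; omega] at w2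
  rw [← w2, K.act_vec S.hyp (W_z F m) w1, W_comm F m, mul_inv_cancel_right]

/-- An isometry fixing the four-space pointwise is induced by an element of the subgroup. -/
theorem induced_of_fix {f : V → V} (hadd : ∀ a b, f (a + b) = f a + f b) (hB : ∀ a b, B (f a) (f b) = B a b)
    (hqf : ∀ a, qV 0 (f a) = qV 0 a) (hfix : ∀ i < 16, f (uv i) = uv i) :
    ∃ h' < 64, K.act (W F (h' * 32)) = f := by
  have H := S.hyp
  have hk16 : ∀ k < 4, (2 : ℕ) ^ k < 16 := by decide
  obtain ⟨d, hd⟩ : ∃ d : ℕ → V, ∀ k, d k = f (dv (2 ^ k)) + dv (2 ^ k) := ⟨_, fun k => rfl⟩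
  have hU : ∀ k < 4, ∃ i < 16, d k = uv i := fun k hk => mem_U _ fun i hi => by
    rw [hd, B_add_left]
    conv_lhs => arg 1; rw [← hfix i hi, hB]
    exact CharTwo.add_self_eq_zero _
  obtain ⟨s0, hs0, e0⟩ := hU 0 (by norm_num)
  obtain ⟨s1, hs1, e1⟩ := hU 1 (by norm_num)
  obtain ⟨s2, hs2, e2⟩ := hU 2 (by norm_num)
  obtain ⟨s3, hs3, e3⟩ := hU 3 (by norm_num)
  have ed : ∀ k, f (dv (2 ^ k)) = dv (2 ^ k) + d k := fun k => by
    rw [hd, add_comm (f _), ← add_assoc, addV, zero_add]
  have hBd : ∀ k < 4, ∀ l < 4, B (dv (2 ^ k)) (d l) + B (dv (2 ^ l)) (d k) = 0 := by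
    intro k hk l hl
    have e := hB (dv (2 ^ k)) (dv (2 ^ l))
    obtain ⟨i, hi, ei⟩ := hU k hk
    obtain ⟨j, hj, ej⟩ := hU l hl
    rw [ed, ed, ei, ej, B_add_left, B_add_right, B_add_right, uv_perp i hi j hj, add_zero, add_assoc] at e
    rw [ei, ej, B_comm (dv (2 ^ l))]
    exact left_eq_add.mp e.symm
  have hq : ∀ k < 4, B (dv (2 ^ k)) (d k) = 0 := by
    intro k hk
    have e := hqf (dv (2 ^ k))
    obtain ⟨i, hi, ei⟩ := hU k hk
    rw [ed, qV_add, (dv_data _ (hk16 k hk)).1, ei, uv_q i hi] at e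
    rw [ei]
    simpa using e
  have c01 := hBd 0 (by norm_num) 1 (by norm_num)
  have c02 := hBd 0 (by norm_num) 2 (by norm_num)
  have c03 := hBd 0 (by norm_num) 3 (by norm_num)
  have c12 := hBd 1 (by norm_num) 2 (by norm_num)
  have c13 := hBd 1 (by norm_num) 3 (by norm_num)
  have c23 := hBd 2 (by norm_num) 3 (by norm_num)
  have c0 := hq 0 (by norm_num)
  have c1 := hq 1 (by norm_num)
  have c2 := hq 2 (by norm_num)
  have c3 := hq 3 (by norm_num)
  rw [e0, e1, dv_uv 0 (by norm_num) _ hs1, dv_uv 1 (by norm_num) _ hs0] at c01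
  rw [e0, e2, dv_uv 0 (by norm_num) _ hs2, dv_uv 2 (by norm_num) _ hs0] at c02
  rw [e0, e3, dv_uv 0 (by norm_num) _ hs3, dv_uv 3 (by norm_num) _ hs0] at c03
  rw [e1, e2, dv_uv 1 (by norm_num) _ hs2, dv_uv 2 (by norm_num) _ hs1] at c12
  rw [e1, e3, dv_uv 1 (by norm_num) _ hs3, dv_uv 3 (by norm_num) _ hs1] at c13
  rw [e2, e3, dv_uv 2 (by norm_num) _ hs3, dv_uv 3 (by norm_num) _ hs2] at c23
  rw [e0, dv_uv 0 (by norm_num) _ hs0] at c0
  rw [e1, dv_uv 1 (by norm_num) _ hs1] at c1
  rw [e2, dv_uv 2 (by norm_num) _ hs2] at c2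
  rw [e3, dv_uv 3 (by norm_num) _ hs3] at c3
  obtain ⟨h', hh', hs⟩ := alt_shape ![zb s0 1, zb s0 2, zb s0 3, zb s2 3, zb s1 3, zb s1 2]
  refine ⟨h', hh', ext_dual (K.act_add H (W_z F _)) hadd (fun i hi => ?_) (fun k hk => ?_)⟩
  · rw [hfix i hi, act_W_uv F _ hi]
  · rw [W_act, hs k hk, ed]
    congr 1
    interval_cases k <;>
      simp [e0, e1, e2, e3, uv, c0, c1, c2, c3, eq_of_add _ _ c01, eq_of_add _ _ c02, eq_of_add _ _ c03,
        eq_of_add _ _ c12, eq_of_add _ _ c13, eq_of_add _ _ c23]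

/-- The subgroup contains the centralizer of its part in `Q`. -/
theorem mem_A_of_low {c : G} (hcz : c * z = z * c) (h : ∀ k < 32, W F k * c = c * W F k) : c ∈ A F := by
  have H := S.hyp
  have hfix : ∀ i < 16, K.act c (uv i) = uv i := by
    intro i hi
    obtain ⟨w1, w2⟩ := W_low F (m := 2 * i) (by omega)
    rw [show (2 * i) >>> 1 = i by rw [Nat.shiftRight_eq_div_pow]; omega] at w2
    rw [← w2, K.act_vec H hcz w1, ← h _ (by omega), mul_inv_cancel_right]
  obtain ⟨h', hh', hact⟩ := induced_of_fix F (K.act_add H hcz) (K.act_B H hcz) (K.act_q H hcz) hfix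
  set b := W F (h' * 32) with hb
  have hbz : b * z = z * b := W_z F _
  have hbA : b ∈ A F := W_mem F (by omega)
  have hq0 : b * c ∈ Q := K.mem_of_act H (Commute.mul_left hbz hcz).eq fun v => by
    rw [K.act_mul H hbz hcz, ← hact, ← K.act_mul H hbz hbz, hb, W_sq, K.act_one H]
  obtain ⟨i, hi, j, hj, hv⟩ := uv_dual (K.vec (b * c))
  have hperp : ∀ i' < 16, B (dv j) (uv i') = 0 := by
    intro i' hi'
    obtain ⟨w1, w2⟩ := W_low F (m := 2 * i') (by omega)
    rw [show (2 * i') >>> 1 = i' by rw [Nat.shiftRight_eq_div_pow]; omega] at w2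
    have e := (K.comm_iff H.extra.ne_one hq0 w1).1
      (Commute.mul_left (A_comm F hbA (W_mem F (by omega))) (h _ (by omega)).symm).eq
    rwa [hv, w2, B_add_left, uv_perp i hi i' hi', zero_add] at e
  obtain ⟨k, hk, hk'⟩ := mem_U _ hperp
  rw [hk'] at hv
  have hz := lift_mem F hq0 (Nat.xor_lt_two_pow (n := 4) hi hk) (by rw [hv, uv_xor i hi k hk])
  have := mul_mem hbA hz
  rwa [← mul_assoc, hb, W_sq, one_mul] at this

/-- Membership of the plane on a line and a further point. -/
def inPlane (l : ℕ × ℕ) (i : ℕ) (v : V) : Prop := ∃ a b d : ZMod 2, v = a • uv l.1 + b • uv l.2 + d • uv i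

theorem plane_index {l : ℕ × ℕ} (hl : l ∈ lines) {i : ℕ} (hi : i < 16) {v : V} (hv : inPlane l i v) :
    ∃ k < 16, v = uv k := by
  obtain ⟨a, b, d, rfl⟩ := hv
  obtain ⟨y, hy, -, ey⟩ := span_comb l hl a b
  rw [← ey]
  rcases zcases d with rfl | rfl
  · exact ⟨y, hy, by rw [zero_smul, add_zero]⟩
  · exact ⟨y ^^^ i, Nat.xor_lt_two_pow (n := 4) hy hi, by rw [one_smul, uv_xor y hy i hi]⟩

theorem inPlane_span {l : ℕ × ℕ} (hl : l ∈ lines) {i y : ℕ} (hy : y < 16) (h : inSpan l y = true) :
    inPlane l i (uv y) := by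
  obtain ⟨a, b, e⟩ := span_to_uv l hl y hy h
  exact ⟨a, b, 0, by rw [e, zero_smul, add_zero]⟩

theorem inPlane_add {l : ℕ × ℕ} {i : ℕ} {v w : V} (hv : inPlane l i v) (hw : inPlane l i w) :
    inPlane l i (v + w) := by
  obtain ⟨a, b, d, rfl⟩ := hv
  obtain ⟨a', b', d', rfl⟩ := hw
  exact ⟨a + a', b + b', d + d', by simp only [add_smul]; abel⟩

theorem inPlane_point (l : ℕ × ℕ) (i : ℕ) : inPlane l i (uv i) := ⟨0, 0, 1, by simp⟩

include F in
/-- An element stabilizing a plane of the four-space stabilizes the four-space. -/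
theorem su_of_plane {l : ℕ × ℕ} (hl : l ∈ lines) {i : ℕ} (hi : i < 16) (hli : inSpan l i = false) {h : G}
    (hz : h * z = z * h) (hP : ∀ v, inPlane l i v → inPlane l i (K.act h v) ∧ inPlane l i (K.act h⁻¹ v)) :
    SU K h := by
  have H := S.hyp
  obtain ⟨k, hk, hcov⟩ := plane_compl l hl i hi hli
  have dec : ∀ y < 16, inPlane l i (uv y) ∨ inPlane l i (uv y + uv k) := by
    intro y hy
    have hyi : y ^^^ i < 16 := Nat.xor_lt_two_pow (n := 4) hy hi
    have hyk : y ^^^ k < 16 := Nat.xor_lt_two_pow (n := 4) hy hk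
    have hyik : y ^^^ i ^^^ k < 16 := Nat.xor_lt_two_pow (n := 4) hyi hk
    have hc := hcov y hy
    simp only [Bool.or_eq_true] at hc
    rcases hc with ((hc | hc) | hc) | hc
    · exact Or.inl (inPlane_span hl hy hc)
    · refine Or.inl ?_
      have := inPlane_add (inPlane_span (i := i) hl hyi hc) (inPlane_point l i)
      rwa [uv_xor y hy i hi, add_assoc, addV, add_zero] at this
    · refine Or.inr ?_
      rw [← uv_xor y hy k hk]
      exact inPlane_span hl hyk hc
    · refine Or.inr ?_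
      have := inPlane_add (inPlane_span (i := i) hl hyik hc) (inPlane_point l i)
      have e : uv (y ^^^ i ^^^ k) + uv i = uv y + uv k := by
        rw [uv_xor _ hyi k hk, uv_xor y hy i hi]
        calc uv y + uv i + uv k + uv i = uv y + uv k + (uv i + uv i) := by abel
          _ = _ := by rw [addV, add_zero]
      show inPlane l i (uv y + uv k)
      rw [← e]
      exact this
  have key : ∀ (f : V → V), (∀ a b, f (a + b) = f a + f b) → (∀ v, inPlane l i v → ∃ y < 16, f v = uv y) →
      (∃ y < 16, f (uv k) = uv y) → ∀ y < 16, ∃ y' < 16, f (uv y) = uv y' := by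
    intro f hadd hplane ⟨u', hu', eu⟩ y hy
    rcases dec y hy with h | h
    · exact hplane _ h
    · obtain ⟨w, hw, ew⟩ := hplane _ h
      refine ⟨w ^^^ u', Nat.xor_lt_two_pow (n := 4) hw hu', ?_⟩
      calc f (uv y) = f (uv y + uv k) + f (uv k) := by rw [← hadd, add_assoc, addV, add_zero]
        _ = _ := by rw [ew, eu, uv_xor w hw u' hu']
  set u' := K.act h (uv k) with hu'
  have hperpP : ∀ v, inPlane l i v → B u' v = 0 := by
    intro v hv
    obtain ⟨y, hy, ey⟩ := plane_index hl hi (hP v hv).2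
    calc B u' v = B (K.act h (uv k)) (K.act h (K.act h⁻¹ v)) := by rw [hu', K.act_cancel H hz]
      _ = 0 := by rw [K.act_B H hz, ey, uv_perp k hk y hy]
  rcases zcases (B (uv k) u') with hb | hb
  · refine ⟨hz, key _ (K.act_add H hz) (fun v hv => plane_index hl hi (hP v hv).1) (mem_U _ fun y hy => ?_)⟩
    rcases dec y hy with h' | h'
    · exact hperpP _ h'
    · have e := hperpP _ h'
      rw [B_add_right, B_comm u' (uv k), hb, add_zero] at e
      exact e
  · exfalso
    set n := uv k + u' with hn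
    have hqn : qV 0 n = 1 := by
      rw [hn, qV_add, uv_q k hk, hu', K.act_q H hz, uv_q k hk, ← hu', hb]; rfl
    set f := fun v => CfsgLib.CoOneType.refl n (K.act h v) with hf
    have hfadd : ∀ a b, f (a + b) = f a + f b := fun a b => by simp only [hf, K.act_add H hz, refl_add]
    have hfq : ∀ a, qV 0 (f a) = qV 0 a := fun a => by
      simp only [hf]; rw [refl_q 0 n _ (Or.inl hqn), K.act_q H hz]
    have hfU := key f hfadd (fun v hv => by
      obtain ⟨y, hy, ey⟩ := plane_index hl hi (hP v hv).1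
      refine ⟨y, hy, ?_⟩
      have : B (K.act h v) n = 0 := by
        rw [hn, B_add_right, ey, uv_perp y hy k hk, zero_add, B_comm, hperpP _ (ey ▸ (hP v hv).1)]
      simp only [hf, CfsgLib.CoOneType.refl]
      rw [this, zero_smul, add_zero, ey])
      ⟨k, hk, by
        simp only [hf, CfsgLib.CoOneType.refl, ← hu']
        rw [hn, B_add_right, B_self, add_zero, B_comm, hb, one_smul,
          show u' + (uv k + u') = uv k + (u' + u') by abel, addV, add_zero]⟩
    have hfinj : Function.Injective f := fun a b e => K.act_injective H hz (by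
      have := congrArg (CfsgLib.CoOneType.refl n) e
      simpa only [hf, refl_refl] using this)
    choose idx hidx hidx' using hfU
    have h16 : ∀ k : Fin 4, 2 ^ (k : ℕ) < 16 := fun k => Nat.pow_lt_pow_right (by norm_num) k.2
    have f0' : f 0 = 0 := by
      have := hfadd 0 0
      rw [add_zero] at this
      exact left_eq_add.mp this
    have hfsm : ∀ (t : ZMod 2) (v : V), f (t • v) = t • f v := fun t v => by
      rcases zcases t with rfl | rfl <;> simp [f0']
    obtain ⟨c1, hc1, hc1k⟩ := exists_su F (fun k : Fin 4 => idx _ (h16 k)) (fun k => hidx _ (h16 k)) fun s hs => by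
      refine four_indep s (hfinj ?_)
      rw [f0']
      simp only [Fin.sum_univ_four, hfadd, hfsm, hidx' _ (h16 _)] at hs ⊢
      exact hs
    have hfB : ∀ a b, B (f a) (f b) = B a b := fun a b => by
      have h' := hfq (a + b)
      rw [hfadd, qV_add, qV_add, hfq, hfq] at h'
      exact add_left_cancel h'
    obtain ⟨b', -, hb'⟩ := induced_of_fix F (f := fun v => K.act c1 (f v))
      (fun a b => by rw [hfadd, K.act_add H hc1.1]) (fun a b => by rw [K.act_B H hc1.1, hfB])
      (fun a => by rw [K.act_q H hc1.1, hfq]) fun y hy => by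
        have hk4 : ∀ k : Fin 4, K.act c1 (f (uv (2 ^ (k : ℕ)))) = uv (2 ^ (k : ℕ)) := fun k => by
          rw [hidx' _ (h16 k)]; exact hc1k k
        have k0 : K.act c1 (f (uv 1)) = uv 1 := hk4 0
        have k1 : K.act c1 (f (uv 2)) = uv 2 := hk4 1
        have k2 : K.act c1 (f (uv 4)) = uv 4 := hk4 2
        have k3 : K.act c1 (f (uv 8)) = uv 8 := hk4 3
        have kz : K.act c1 (f 0) = 0 := by rw [f0', K.act_zero H hc1.1]
        show K.act c1 (f (uv y)) = uv y
        rw [uv_basis y hy]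
        simp only [hfadd, K.act_add H hc1.1]
        split_ifs <;> simp only [k0, k1, k2, k3, kz]
    set w := c1⁻¹ * W F (b' * 32) * h⁻¹ with hw
    have hci := (Commute.inv_left hc1.1).eq
    have hzi := (Commute.inv_left hz).eq
    refine K.no_refl H hqn (c := w) ((Commute.mul_left hci (W_z F _)).mul_left hzi).eq fun v => ?_
    rw [hw, K.act_mul H (Commute.mul_left hci (W_z F _)).eq hzi, K.act_mul H hci (W_z F _), hb']
    show K.act c1⁻¹ (K.act c1 (f (K.act h⁻¹ v))) = _
    rw [K.act_inv_cancel H hc1.1]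
    simp only [hf, K.act_cancel H hz]

end basic

end CfsgLib.CoOneUnique
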