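import Mathlib
import Cfsg.Agent.Lib.CoOneUnique.DodecSpace
import Cfsg.Agent.Lib.CoOneUnique.DodecCert

/-!
The centralizer of an element `c` of the subgroup outside the class of `z`, seen from an element of the class
inside the subgroup: control of the octad elements and of the involutions of the normalizer.
-/

set_option autoImplicit false
set_option linter.style.longLine false
set_option maxHeartbeats 1000000
set_option maxRecDepth 100000
set_option synthInstance.maxSize 8000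
set_option synthInstance.maxHeartbeats 1000000

namespace CfsgLib.CoOneUnique

open Subgroup CfsgLib.CoOneGolay CfsgLib.CoOneType CfsgLib.Golay

theorem four_not_span : ∀ a b c d : ZMod 2 × ZMod 2, a ≠ 0 → b ≠ 0 → c ≠ 0 → d ≠ 0 → a ≠ b → a ≠ c → a ≠ d →
    b ≠ c → b ≠ d → c ≠ d → False := by decide +kernel

theorem dv_one_out : ∀ i < 16, uv i ≠ dv 1 := by decide +kernel

theorem low_octad : ∀ k < 32, k ≠ 0 → inO k = true := by decide +kernel

theorem span_parts : ∀ l ∈ lines, ∀ x < 16, ∀ i < 16, inSpan l x = true → inSpan l i = false →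
    2 * (i ^^^ x) < 32 ∧ i ^^^ x ≠ 0 ∧ inSpan l (i ^^^ x) = false := by decide +kernel

variable {G : Type*} [Group G] [Finite G] {z : G} {Q : Subgroup G} {K : Coord z Q 0} {x g : G} {S : Base K x g}

section basic

variable (F : Frame S)

/-- An element of the normalizer sending a mask of the class to `1`. -/
theorem exists_to_one {o : ℕ} (ho : o < 2048) (hO : inO o = true) : ∃ n ∈ N F, n * W F o * n⁻¹ = z := by
  obtain ⟨σ, hσ⟩ := exists_rho_eq ho (m' := 1) (by norm_num) hO (by decide +kernel)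
  obtain ⟨n, hn⟩ : rho σ ∈ (piHom F).range := by rw [range_piHom]; exact ⟨σ, rfl⟩
  exact ⟨n, n.2, by rw [← W_piHom F n ho, hn, app_rho σ ho, hσ, W_one]⟩

theorem conj_mask {n : G} (hn : n ∈ N F) {k : ℕ} (hk : k < 2048) : ∃ k' < 2048, n * W F k * n⁻¹ = W F k' :=
  conj_mem F hn (W_mem F hk)

theorem inO_conj (n : G) {k k' : ℕ} (hk : k < 2048) (hk' : k' < 2048) (e : n * W F k * n⁻¹ = W F k') :
    inO k' = inO k := by
  rw [Bool.eq_iff_iff, ← conj_char F hk', ← conj_char F hk, ← e]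
  exact ⟨fun h => h.trans (isConj_iff.2 ⟨n⁻¹, by group⟩), fun h => h.trans (isConj_iff.2 ⟨n, rfl⟩)⟩

theorem conj_W_mul (n : G) {a b a' b' : ℕ} (ha : n * W F a * n⁻¹ = W F a') (hb : n * W F b * n⁻¹ = W F b') :
    n * W F (a ^^^ b) * n⁻¹ = W F (a' ^^^ b') := by
  rw [W_xor, W_xor, ← ha, ← hb]; group

/-- Transport of the data to the frame of an element of the class. -/
theorem to_frame {m o : ℕ} (hm : m < 2048) (hm0 : m ≠ 0) (hom : inO m = false) (ho : o < 2048)
    (hO : inO o = true) : ∃ n ∈ N F, ∃ m' < 2048, m' ≠ 0 ∧ inO m' = false ∧ inO (m' ^^^ 1) = inO (m ^^^ o) ∧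
      n * W F o * n⁻¹ = z ∧ n * W F m * n⁻¹ = W F m' := by
  obtain ⟨n, hn, e⟩ := exists_to_one F ho hO
  obtain ⟨m', hm', e'⟩ := conj_mask F hn hm
  have h1 : (1 : ℕ) < 2048 := by norm_num
  refine ⟨n, hn, m', hm', fun h => hm0 ?_, (inO_conj F n hm hm' e').trans hom,
    inO_conj F n (Nat.xor_lt_two_pow (n := 11) hm ho) (Nat.xor_lt_two_pow (n := 11) hm' h1)
      (conj_W_mul F n e' (e.trans (W_one F).symm)), e, e'⟩
  refine W_injective F hm (by norm_num) ?_
  rw [h, show W F 0 = 1 from word_zero _, conj_eq_one_iff] at e'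
  exact e'.trans (word_zero _).symm

theorem four_top {m : ℕ} (hm : m < 2048) (hm0 : m ≠ 0) (hom : inO m = false) (h4 : inO (m ^^^ 1) = true) :
    m >>> 5 < 64 ∧ m >>> 5 ≠ 0 ∧ (dLine (m >>> 5)).isSome = false := by
  have e := List.all_eq_true.mp rank_table m (List.mem_range.mpr hm)
  simp only [Bool.or_eq_true, Bool.and_eq_true, decide_eq_true_eq, beq_iff_eq] at e
  rcases e with (e | e) | ⟨e1, e2⟩
  · exact absurd (Nat.eq_of_beq_eq_true e) hm0
  · rw [hom] at e; cases e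
  · refine ⟨by rw [Nat.shiftRight_eq_div_pow]; omega, by rw [Nat.shiftRight_eq_div_pow]; omega, ?_⟩
    rw [e2, show inO (Nat.xor m 1) = true from h4]
    rfl

theorem four_fixed {m : ℕ} (hm : m < 2048) (hm0 : m ≠ 0) (hom : inO m = false) (h4 : inO (m ^^^ 1) = true) {v : V}
    (hv : K.act (W F m) v = v) : ∃ i < 16, v = uv i := by
  obtain ⟨a, b, c⟩ := four_top hm hm0 hom h4
  rw [W_act, actL_top] at hv
  exact mem_U v fun i hi => four_fix _ a b c v hv i hi

theorem four_move' {m : ℕ} (hm : m < 2048) (hm0 : m ≠ 0) (hom : inO m = false) (h4 : inO (m ^^^ 1) = true) {i : ℕ}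
    (hi : i < 16) : ∃ v, K.act (W F m) v + v = uv i := by
  obtain ⟨a, b, c⟩ := four_top hm hm0 hom h4
  obtain ⟨v, hv⟩ := four_move _ a b c i hi
  exact ⟨v, by rw [W_act, actL_top]; exact hv⟩

theorem four_not_root {m : ℕ} (hm : m < 2048) (hm0 : m ≠ 0) (hom : inO m = false) (h4 : inO (m ^^^ 1) = true) :
    K.act (W F m) ≠ id ∧ ∀ p n, LineV p n → K.act (W F m) ≠ rootV p n := by
  refine ⟨fun e => ?_, fun p n hl e => ?_⟩
  · obtain ⟨i, hi, h⟩ := four_fixed F hm hm0 hom h4 (v := dv 1) (congrFun e _)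
    exact dv_one_out i hi h.symm
  · have fix : ∀ v, B v p = 0 → B v n = 0 → ∃ i < 16, v = uv i := fun v a b =>
      four_fixed F hm hm0 hom h4 (by rw [e]; exact (rootV_fix hl).2 ⟨a, b⟩)
    obtain ⟨a, ha, ea⟩ := fix p (B_self p) hl.2.2.2.2.2
    obtain ⟨b, hb, eb⟩ := fix n (by rw [B_comm]; exact hl.2.2.2.2.2) (B_self n)
    obtain ⟨j, hj, hj0, o1, o2⟩ := perp_two a ha b hb
    obtain ⟨k, hk, ek⟩ := fix (dv j) (by rw [ea, B_comm]; exact (ort_iff a ha j hj).1 o1)
      (by rw [eb, B_comm]; exact (ort_iff b hb j hj).1 o2)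
    exact hj0 ((dv_data j hj).2.2 k hk ek.symm).2

/-- The data of an element over a line outside the class. -/
structure TwoData (m : ℕ) (l : ℕ × ℕ) (mr k : ℕ) : Prop where
  hl : l ∈ lines
  hr : mr < 2048
  hk : k < 32
  hi : inSpan l (k >>> 1) = false
  root : K.Root (uv l.1) (uv l.2) (W F mr)
  eq : m = mr ^^^ k
  act : K.act (W F m) = rootV (uv l.1) (uv l.2)

theorem exists_two {m : ℕ} (hm : m < 2048) (hm0 : m ≠ 0) (hom : inO m = false) (h2 : inO (m ^^^ 1) = false) :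
    ∃ l mr k, TwoData F m l mr k := by
  have e := List.all_eq_true.mp rank_table m (List.mem_range.mpr hm)
  simp only [Bool.or_eq_true, Bool.and_eq_true, decide_eq_true_eq, beq_iff_eq] at e
  rcases e with (e | e) | ⟨-, e2⟩
  · exact absurd (Nat.eq_of_beq_eq_true e) hm0
  · rw [hom] at e; cases e
  rw [show inO (Nat.xor m 1) = false from h2, Bool.not_false] at e2
  obtain ⟨l, hl⟩ := Option.isSome_iff_exists.1 e2
  obtain ⟨hmem, htop⟩ := dLine_some hl
  obtain ⟨a, ha, hfix⟩ := line_root_mask l hmem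
  obtain ⟨-, -, hf, -, -⟩ := line_data l hmem
  have hr : fib l * 32 + a < 2048 := by omega
  have hrt : (fib l * 32 + a) >>> 5 = fib l := by rw [Nat.shiftRight_eq_div_pow]; omega
  rw [← sN_eq F, ← uN_eq F, ← root_char F hmem hr hrt] at hfix
  set mr := fib l * 32 + a with hmr
  have hk : m ^^^ mr < 32 := by
    have h0 : (m ^^^ mr) >>> 5 = 0 := by rw [Nat.shiftRight_xor_distrib, htop, hrt, Nat.xor_self]
    rw [Nat.shiftRight_eq_div_pow] at h0
    omega
  have heq : m = mr ^^^ (m ^^^ mr) := by rw [Nat.xor_comm m mr, ← Nat.xor_assoc, Nat.xor_self, Nat.zero_xor]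
  refine ⟨l, mr, m ^^^ mr, hmem, hr, hk, ?_, hfix, heq, W_line_act F hmem htop⟩
  rcases hs : inSpan l ((m ^^^ mr) >>> 1) with _ | _
  · rfl
  exfalso
  obtain ⟨w1, w2⟩ := W_low F hk
  obtain ⟨h1, h2', h3, h4, h5, h6⟩ := lineV_uv l hmem
  obtain ⟨i, j, hij⟩ := span_to_uv l hmem _ (by rw [Nat.shiftRight_eq_div_pow]; omega) hs
  have h := (S.root_mul_lift h1 h2' h3 h4 h5 h6 hfix w1 i j (w2.trans hij)).2.2.2
  rw [← W_xor, ← heq, conj_char F hm, hom] at h
  cases h

variable {F}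

/-- Conjugating an element over a line moves neither the line nor, modulo it, the offset. -/
theorem TwoData.move {m : ℕ} {l : ℕ × ℕ} {mr k : ℕ} (D : TwoData F m l mr k) {h : G} (hz : h * z = z * h)
    (hc : h * W F m = W F m * h) :
    ∀ v, inPlane l (k >>> 1) v → inPlane l (k >>> 1) (K.act h v) := by
  have H := S.hyp
  obtain ⟨h1, h2, h3, h4, h5, h6⟩ := lineV_uv l D.hl
  obtain ⟨-, -, -, k1, k2⟩ := line_data l D.hl
  have hcz : W F m * z = z * W F m := W_z F m
  have hcomm : ∀ v, K.act h (K.act (W F m) v) = K.act (W F m) (K.act h v) := fun v => by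
    rw [← K.act_mul H hz hcz, hc, K.act_mul H hcz hz]
  have hline : ∀ a b : ZMod 2, inPlane l (k >>> 1) (a • uv l.1 + b • uv l.2) := fun a b =>
    ⟨a, b, 0, by rw [zero_smul, add_zero]⟩
  have himg : ∀ v, ∃ a b : ZMod 2, K.act h (rootV (uv l.1) (uv l.2) v + v) = a • uv l.1 + b • uv l.2 := by
    intro v
    refine ⟨B (K.act h v) (uv l.2), B (K.act h v) (uv l.1), ?_⟩
    rw [K.act_add H hz, ← D.act, hcomm, D.act]
    simp only [rootV]
    rw [show ∀ p q r : V, p + q + r + p = q + r + (p + p) by intros; abel, addV, add_zero]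
  obtain ⟨j, hj, j1, j2, -⟩ := dual_three l D.hl (k >>> 1) (by have := D.hk; rw [Nat.shiftRight_eq_div_pow]; omega) D.hi 0 1 0
  obtain ⟨j', hj', j1', j2', -⟩ := dual_three l D.hl (k >>> 1) (by have := D.hk; rw [Nat.shiftRight_eq_div_pow]; omega) D.hi 1 0 0
  have hl1 : ∃ a b : ZMod 2, K.act h (uv l.1) = a • uv l.1 + b • uv l.2 := by
    obtain ⟨a, b, e⟩ := himg (dv j)
    refine ⟨a, b, ?_⟩
    rw [← e]
    simp only [rootV]
    rw [B_comm (dv j), B_comm (dv j), j1, j2, one_smul, zero_smul, add_zero,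
      show ∀ p q : V, p + q + p = q + (p + p) by intros; abel, addV, add_zero]
  have hl2 : ∃ a b : ZMod 2, K.act h (uv l.2) = a • uv l.1 + b • uv l.2 := by
    obtain ⟨a, b, e⟩ := himg (dv j')
    refine ⟨a, b, ?_⟩
    rw [← e]
    simp only [rootV]
    rw [B_comm (dv j'), B_comm (dv j'), j1', j2', one_smul, zero_smul, add_zero,
      show ∀ p q : V, p + q + p = q + (p + p) by intros; abel, addV, add_zero]
  obtain ⟨w1, w2⟩ := W_low F D.hk
  have hroot : K.Root (uv l.1) (uv l.2) (h * W F mr * h⁻¹) := by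
    refine (D.root.conj K H hz).congr K ?_
    rw [← K.act_rootV_conj H hz hcz D.act, hc, mul_inv_cancel_right, D.act]
  obtain ⟨q', hq', ⟨a, b, hv⟩, he⟩ := S.root_diff h1 h2 h3 h4 h5 h6 D.root hroot
  have hk' := H.norm h hz _ w1
  have hq : q' * (h * W F k * h⁻¹) = W F k := by
    refine mul_left_cancel (a := W F mr) ?_
    rw [← W_xor, ← D.eq, ← mul_assoc, ← he]
    calc h * W F mr * h⁻¹ * (h * W F k * h⁻¹) = h * (W F mr * W F k) * h⁻¹ := by group
      _ = W F m := by rw [← W_xor, ← D.eq, hc, mul_inv_cancel_right]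
  have hvec := congrArg K.vec hq
  rw [K.mul hq' hk', ← K.act_vec H hz w1, w2, hv] at hvec
  have hact : K.act h (uv (k >>> 1)) = a • uv l.1 + b • uv l.2 + uv (k >>> 1) := by
    calc K.act h (uv (k >>> 1)) = a • uv l.1 + b • uv l.2 + (a • uv l.1 + b • uv l.2 + K.act h (uv (k >>> 1))) := by
          rw [← add_assoc, addV, zero_add]
      _ = _ := by rw [hvec]
  rintro v ⟨c1, c2, c3, rfl⟩
  rw [K.act_add H hz, K.act_add H hz, K.act_smul H hz, K.act_smul H hz, K.act_smul H hz, hact]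
  obtain ⟨a1, b1, e1⟩ := hl1
  obtain ⟨a2, b2, e2⟩ := hl2
  rw [e1, e2]
  exact ⟨c1 * a1 + c2 * a2 + c3 * a, c1 * b1 + c2 * b2 + c3 * b, c3, by
    simp only [smul_add, smul_smul, add_smul]; abel⟩

variable (F)

/-- An element commuting with `c` and moving an element of the class with two lifts into the subgroup. -/
theorem mem_N_of_T {m : ℕ} (hm : m < 2048) (hm0 : m ≠ 0) (hom : inO m = false) {o : ℕ} (ho : o < 2048)
    (hO : inO o = true) (hT : inO (m ^^^ o) = true) {h : G} (hc : h * W F m = W F m * h)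
    (hA : h * W F o * h⁻¹ ∈ A F) : h ∈ N F := by
  have H := S.hyp
  obtain ⟨o', ho', eo'⟩ := hA
  have hO' : inO o' = true := (inO_conj F h ho ho' eo').trans hO
  have hcW : h * W F m * h⁻¹ = W F m := by rw [hc, mul_inv_cancel_right]
  have hT' : inO (m ^^^ o') = true :=
    (inO_conj F h (Nat.xor_lt_two_pow (n := 11) hm ho) (Nat.xor_lt_two_pow (n := 11) hm ho')
      (conj_W_mul F h hcW eo')).trans hT
  obtain ⟨n, hn, m1, hm1, -, ho1, hT1, en, em⟩ := to_frame F hm hm0 hom ho hO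
  obtain ⟨n', hn', m2, hm2, hm20, ho2, hT2, en', em'⟩ := to_frame F hm hm0 hom ho' hO'
  rw [hT] at hT1; rw [hT'] at hT2
  obtain ⟨k, hk⟩ : ∃ k, k = n' * h * n⁻¹ := ⟨_, rfl⟩
  have hkz : k * z = z * k := by
    refine mul_inv_eq_iff_eq_mul.1 ?_
    calc k * z * k⁻¹ = k * (n * W F o * n⁻¹) * k⁻¹ := by rw [en]
      _ = n' * (h * W F o * h⁻¹) * n'⁻¹ := by rw [hk]; group
      _ = z := by rw [eo', en']
  have hkc : k * W F m1 * k⁻¹ = W F m2 := by
    calc k * W F m1 * k⁻¹ = n' * (h * W F m * h⁻¹) * n'⁻¹ := by rw [hk, ← em]; group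
      _ = W F m2 := by rw [hcW, em']
  have hsu : SU K k := ⟨hkz, fun i hi => by
    refine four_fixed F hm2 hm20 ho2 hT2 ?_
    rw [← hkc, K.act_conj_apply H hkz (W_z F m1), act_W_uv F m1 hi]⟩
  have : h = n'⁻¹ * k * n := by rw [hk]; group
  rw [this]
  exact mul_mem (mul_mem (inv_mem hn') (su_normalizer F hsu)) hn

/-- An element commuting with `c` and with an element of the class having one lift. -/
theorem mem_N_of_S {m : ℕ} (hm : m < 2048) (hm0 : m ≠ 0) (hom : inO m = false) {o : ℕ} (ho : o < 2048)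
    (hO : inO o = true) (hS : inO (m ^^^ o) = false) {h : G} (hc : h * W F m = W F m * h)
    (hx : h * W F o = W F o * h) : h ∈ N F := by
  have H := S.hyp
  obtain ⟨n, hn, m', hm', hm0', hom', hS', en, em⟩ := to_frame F hm hm0 hom ho hO
  rw [hS] at hS'
  obtain ⟨l, mr, k, D⟩ := exists_two F hm' hm0' hom' hS'
  obtain ⟨d, hd⟩ : ∃ d, d = n * h * n⁻¹ := ⟨_, rfl⟩
  have hdz : d * z = z * d := by
    rw [hd, ← en, show n * h * n⁻¹ * (n * W F o * n⁻¹) = n * (h * W F o) * n⁻¹ by group, hx]; group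
  have hdc : d * W F m' = W F m' * d := by
    rw [hd, ← em, show n * h * n⁻¹ * (n * W F m * n⁻¹) = n * (h * W F m) * n⁻¹ by group, hc]; group
  have hdzi := (Commute.inv_left hdz).eq
  have hdci := (Commute.inv_left hdc).eq
  have hi16 : k >>> 1 < 16 := by have := D.hk; rw [Nat.shiftRight_eq_div_pow]; omega
  have hsu := su_of_plane F D.hl hi16 D.hi hdz fun v hv => ⟨D.move hdz hdc v hv, D.move hdzi hdci v hv⟩
  have : h = n⁻¹ * d * n := by rw [hd]; group
  rw [this]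
  exact mul_mem (mul_mem (inv_mem hn) (su_normalizer F hsu)) hn

theorem su_of_N {n : G} (hn : n ∈ N F) (hz : n * z = z * n) : SU K n := by
  refine ⟨hz, fun i hi => ?_⟩
  have h2 : 2 * i < 2048 := by omega
  obtain ⟨w1, w2⟩ := W_low F (m := 2 * i) (by omega)
  rw [show (2 * i) >>> 1 = i by rw [Nat.shiftRight_eq_div_pow]; omega] at w2
  have hlow := (piHom_auto F ⟨n, hn⟩ hz).low (m := 2 * i) (by omega)
  refine ⟨app (piHom F ⟨n, hn⟩) (2 * i) >>> 1, by rw [Nat.shiftRight_eq_div_pow]; omega, ?_⟩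
  rw [← w2, K.act_vec S.hyp hz w1, ← W_piHom F ⟨n, hn⟩ h2, (W_low F hlow).2]

/-- An involution of the normalizer outside the subgroup commutes with an element of the class that
multiplies it to a conjugate by an element of the subgroup. -/
theorem exists_commutator {w : G} (hw : w ∈ N F) (h2 : w * w = 1) (hwA : w ∉ A F) :
    ∃ o < 2048, inO o = true ∧ w * W F o = W F o * w ∧ ∃ a ∈ A F, w * W F o = a * w * a⁻¹ := by
  classical
  have : Fact (Nat.Prime 2) := ⟨Nat.prime_two⟩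
  let T := {k : Fin 2048 // inO k.1 = true}
  have hcard : ¬ 2 ∣ Fintype.card T := by
    rw [Fintype.card_subtype]; decide +kernel
  set p := piHom F ⟨w, hw⟩ with hp
  have hp2 : p * p = 1 := by
    rw [hp, ← map_mul, show (⟨w, hw⟩ : ↥(N F)) * ⟨w, hw⟩ = 1 from Subtype.ext h2, map_one]
  have hmem : ∀ k : T, inO (p k.1).1 = true := fun k => by
    rw [← app_eq p k.1.2]
    exact (inO_conj F w k.1.2 (app_lt p k.1.2) (W_piHom F ⟨w, hw⟩ k.1.2).symm).trans k.2
  let f : T → T := fun k => ⟨p k.1, hmem k⟩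
  have hf : Function.Involutive f := fun k => Subtype.ext (show (p * p) k.1 = k.1 by rw [hp2]; rfl)
  obtain ⟨⟨⟨o0, ho0⟩, hO0⟩, hfix⟩ := Equiv.Perm.exists_fixed_point_of_prime (p := 2) (n := 1) hcard
    (σ := hf.toPerm) (by rw [pow_one, pow_two]; exact Equiv.ext fun k => hf k)
  have hfix' : w * W F o0 * w⁻¹ = W F o0 := by
    rw [← W_piHom F ⟨w, hw⟩ ho0, app_eq _ ho0]
    exact congrArg (fun k : T => W F k.1.1) hfix
  obtain ⟨n, hn, en⟩ := exists_to_one F ho0 hO0
  obtain ⟨w', hw'⟩ : ∃ w', w' = n * w * n⁻¹ := ⟨_, rfl⟩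
  have hwz : w' * z = z * w' := by
    rw [hw', ← en, show n * w * n⁻¹ * (n * W F o0 * n⁻¹) = n * (w * W F o0) * n⁻¹ by group,
      mul_inv_eq_iff_eq_mul.1 hfix']
    group
  have hw'N : w' ∈ N F := hw' ▸ mul_mem (mul_mem hn hw) (inv_mem hn)
  obtain ⟨k, hk, hne⟩ : ∃ k < 32, W F k * w' ≠ w' * W F k := by
    by_contra h
    push Not at h
    refine hwA ?_
    have := conj_mem F (inv_mem hn) (mem_A_of_low F hwz h)
    rwa [hw', show n⁻¹ * (n * w * n⁻¹) * n⁻¹⁻¹ = w by group] at this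
  have hk2 : k < 2048 := by omega
  set k' := app (piHom F ⟨w', hw'N⟩) k with hk'
  have hk'32 : k' < 32 := (piHom_auto F ⟨w', hw'N⟩ hwz).low hk
  have ek' : w' * W F k * w'⁻¹ = W F k' := (W_piHom F ⟨w', hw'N⟩ hk2).symm
  have hkk : k' ^^^ k < 32 := Nat.xor_lt_two_pow (n := 5) hk'32 hk
  have hkk0 : k' ^^^ k ≠ 0 := fun e => hne (by
    rw [Nat.xor_eq_zero_iff] at e
    rw [e] at ek'
    exact (mul_inv_eq_iff_eq_mul.1 ek').symm)
  obtain ⟨o, ho, eo⟩ := conj_mask F (inv_mem hn) (k := k' ^^^ k) (by omega)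
  obtain ⟨k1, hk1, ek1⟩ := conj_mask F (inv_mem hn) hk2
  have hi : W F o = w * W F k1 * w⁻¹ * W F k1 := by
    rw [← eo, ← ek1, W_xor, ← ek', hw']; group
  have hwi : w⁻¹ = w := inv_eq_of_mul_eq_one_right h2
  have hai : (W F k1)⁻¹ = W F k1 := inv_eq_of_mul_eq_one_right (W_sq F k1)
  have hA1 : w * W F k1 * w⁻¹ ∈ A F := conj_mem F hw (W_mem F hk1)
  refine ⟨o, ho, (inO_conj F n⁻¹ (by omega) ho eo).trans (low_octad _ hkk hkk0), ?_, W F k1, W_mem F hk1, ?_⟩
  · rw [hi]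
    calc w * (w * W F k1 * w⁻¹ * W F k1) = (w * w) * W F k1 * (w⁻¹ * W F k1 * w) * w⁻¹ := by group
      _ = W F k1 * (w * W F k1 * w⁻¹) * w⁻¹ := by rw [h2, one_mul, hwi]
      _ = w * W F k1 * w⁻¹ * W F k1 * w⁻¹ := by rw [A_comm F (W_mem F hk1) hA1]
      _ = _ := by rw [hwi]
  · rw [hi, hai]
    calc w * (w * W F k1 * w⁻¹ * W F k1) = (w * w) * W F k1 * w⁻¹ * W F k1 := by group
      _ = _ := by rw [h2, one_mul, hwi]

/-- A root element of the normalizer outside the subgroup has one point of the four-space on its line. -/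
theorem root_shape {w : G} (hsu : SU K w) (hwA : w ∉ A F) {p n : V} (hl : LineV p n) (hr : K.Root p n w) :
    ∃ P < 16, ∃ u, LineV (uv P) u ∧ K.Root (uv P) u w ∧ ∃ y < 16, B (uv y) u = 1 := by
  have H := S.hyp
  have inA : ∀ {p n : V}, LineV p n → K.Root p n w → (∃ a < 16, p = uv a) → (∃ b < 16, n = uv b) → False := by
    rintro p n hl hr ⟨a, ha, rfl⟩ ⟨b, hb, rfl⟩
    refine hwA (root_mem F ha hb ?_ ?_ (fun e => hl.2.2.2.1 (by rw [e])) hr)
    · rintro rfl; exact hl.1 uv_zero'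
    · rintro rfl; exact hl.2.2.1 uv_zero'
  obtain ⟨y, hy, η, hη0, ⟨i, j, e⟩, P, hP, rfl⟩ : ∃ y < 16, ∃ η : V, η ≠ 0 ∧
      (∃ i j : ZMod 2, η = i • p + j • n) ∧ ∃ P < 16, η = uv P := by
    by_cases hn : ∀ y < 16, B (uv y) n = 0
    · obtain ⟨b, hb, e⟩ := mem_U n fun y hy => by rw [B_comm]; exact hn y hy
      exact ⟨0, by norm_num, n, hl.2.2.1, ⟨0, 1, by simp⟩, b, hb, e⟩
    push Not at hn
    obtain ⟨y, hy, hyn⟩ := hn
    obtain ⟨y', hy', e⟩ := hsu.2 y hy
    refine ⟨y, hy, p + B (uv y) p • n, fun h => ?_, ⟨1, B (uv y) p, by rw [one_smul]⟩, y' ^^^ y,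
      Nat.xor_lt_two_pow (n := 4) hy' hy, ?_⟩
    · exact one_ne_zero (line_zero hl (a := 1) (b := B (uv y) p) (by rwa [one_smul])).1
    · rw [uv_xor y' hy' y hy, ← e, hr.2.1, rootV, eq_one hyn, one_smul,
        show uv y + p + B (uv y) p • n + uv y = p + B (uv y) p • n + (uv y + uv y) by abel, addV, add_zero]
  obtain ⟨u, hu, hru, -⟩ := lineV_point hl hη0 e
  have hroot := hr.congr K hru
  obtain ⟨y', hy', e'⟩ := exists_uv_partner (u := u) fun b hb e => inA hu hroot ⟨P, hP, rfl⟩ ⟨b, hb, e⟩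
  exact ⟨P, hP, u, hu, hroot, y', hy', e'⟩

/-- The case of a four-dimensional move space. -/
theorem both_four {m : ℕ} (hm : m < 2048) (hm0 : m ≠ 0) (hom : inO m = false) (h4 : inO (m ^^^ 1) = true) {w : G}
    (hwz : w * z = z * w) (h2 : w * w = 1) (hcw : w * W F m = W F m * w) (hwA : w ∉ A F)
    (q1 : QRoot K w) (q2 : QRoot K (w * W F m)) : False := by
  classical
  have H := S.hyp
  obtain ⟨n1, n2⟩ := four_not_root F hm hm0 hom h4
  set c := W F m with hc
  have hcz : c * z = z * c := W_z F m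
  have hvz : w * c * z = z * (w * c) := (Commute.mul_left hwz hcz).eq
  have hww : ∀ v, K.act w (K.act w v) = v := fun v => by rw [← K.act_mul H hwz hwz, h2, K.act_one H]
  have hcv : ∀ v, K.act c v = K.act w (K.act (w * c) v) := fun v => by
    rw [K.act_mul H hwz hcz, hww]
  rcases q1 with hQ | ⟨p1, m1, hl1, hr1⟩
  · have e : K.act (w * c) = K.act c := funext fun v => by rw [K.act_mul H hwz hcz, K.act_mem H hQ]
    rcases q2 with hQ2 | ⟨p, n, hl, hr⟩
    · exact n1 (funext fun v => by rw [← e]; exact K.act_mem H hQ2 v)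
    · exact n2 p n hl (by rw [← e, hr.2.1])
  rcases q2 with hQ2 | ⟨p2, m2, hl2, hr2⟩
  · exact n2 p1 m1 hl1 (funext fun v => by rw [hcv, K.act_mem H hQ2, hr1.2.1])
  obtain ⟨Φ, hΦ⟩ : ∃ Φ : (ZMod 2 × ZMod 2) × (ZMod 2 × ZMod 2) → V,
      ∀ t, Φ t = t.1.1 • p1 + t.1.2 • m1 + (t.2.1 • p2 + t.2.2 • m2) := ⟨_, fun _ => rfl⟩
  have hmove : ∀ i : Fin 16, ∃ t, uv i.1 = Φ t := by
    intro i
    obtain ⟨v, hv⟩ := four_move' F hm hm0 hom h4 i.2
    refine ⟨((B (K.act (w * c) v) m1, B (K.act (w * c) v) p1), (B v m2, B v p2)), ?_⟩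
    have e1 : K.act w (K.act (w * c) v) = K.act (w * c) v + B (K.act (w * c) v) m1 • p1 +
        B (K.act (w * c) v) p1 • m1 := congrFun hr1.2.1 _
    have e2 : K.act (w * c) v = v + B v m2 • p2 + B v p2 • m2 := congrFun hr2.2.1 _
    rw [← hv, hcv, e1, hΦ]
    generalize B (K.act (w * c) v) m1 • p1 = s1
    generalize B (K.act (w * c) v) p1 • m1 = s2
    rw [e2]
    generalize B v m2 • p2 = s3
    generalize B v p2 • m2 = s4
    calc v + s3 + s4 + s1 + s2 + v = s1 + s2 + (s3 + s4) + (v + v) := by abel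
      _ = _ := by rw [addV, add_zero]
  choose τ hτ using hmove
  have hinj : Function.Injective τ := fun a b e => Fin.ext (uv_inj _ a.2 _ b.2 (by rw [hτ, hτ, e]))
  obtain ⟨hsurj⟩ : Nonempty (Function.Surjective τ) :=
    ⟨((Fintype.bijective_iff_injective_and_card τ).2 ⟨hinj, by simp⟩).2⟩
  obtain ⟨a, ha⟩ := hsurj ((1, 0), (0, 0))
  obtain ⟨b, hb⟩ := hsurj ((0, 1), (0, 0))
  have ea : p1 = uv a.1 := by rw [hτ, ha, hΦ]; simp
  have eb : m1 = uv b.1 := by rw [hτ, hb, hΦ]; simp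
  refine hwA (root_mem F a.2 b.2 ?_ ?_ ?_ (ea ▸ eb ▸ hr1))
  · intro e; exact hl1.1 (by rw [ea, e, uv_zero'])
  · intro e; exact hl1.2.2.1 (by rw [eb, e, uv_zero'])
  · intro e; exact hl1.2.2.2.1 (by rw [ea, eb, e])

variable {F}

/-- The case of a two-dimensional move space. -/
theorem TwoData.both {m : ℕ} {l : ℕ × ℕ} {mr k : ℕ} (D : TwoData F m l mr k) (hm : m < 2048) {w : G}
    (hsu : SU K w) (h2 : w * w = 1) (hcw : w * W F m = W F m * w) (hwA : w ∉ A F)
    (q1 : QRoot K w) (q2 : QRoot K (w * W F m)) : False := by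
  classical
  have H := S.hyp
  have hwz := hsu.1
  obtain ⟨l1, l2, l3, l4, l5, l6⟩ := lineV_uv l D.hl
  obtain ⟨-, -, -, k1, k2⟩ := line_data l D.hl
  have hcA := W_mem F hm
  set c := W F m with hc
  have hcz : c * z = z * c := W_z F m
  have hvA : w * c ∉ A F := fun h => hwA (by simpa using mul_mem h (inv_mem hcA))
  have hww : ∀ v, K.act w (K.act w v) = v := fun v => by rw [← K.act_mul H hwz hwz, h2, K.act_one H]
  have hcv : ∀ v, K.act c v = K.act w (K.act (w * c) v) := fun v => by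
    rw [K.act_mul H hwz hcz, hww]
  have hL : LineV (uv l.1) (uv l.2) := lineV_uv l D.hl
  have hLA : ∀ {t : G}, K.Root (uv l.1) (uv l.2) t → t ∈ A F := fun h =>
    root_mem F k1 k2 (fun e => l1 (by rw [e, uv_zero'])) (fun e => l3 (by rw [e, uv_zero']))
      (fun e => l4 (by rw [e])) h
  have hi16 : k >>> 1 < 16 := by have := D.hk; rw [Nat.shiftRight_eq_div_pow]; omega
  rcases q1 with hQ | ⟨p1, m1, hl1, hr1⟩
  · have e : K.act (w * c) = rootV (uv l.1) (uv l.2) :=
      (funext fun v => by rw [K.act_mul H hwz hcz, K.act_mem H hQ]).trans D.act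
    rcases q2 with hQ2 | ⟨p, n, -, hr⟩
    · obtain ⟨j, hj, j1, j2, -⟩ := dual_three l D.hl _ hi16 D.hi 0 1 0
      have h := ((rootV_fix hL).1 (by rw [← e]; exact K.act_mem H hQ2 (dv j))).2
      rw [B_comm, j2] at h
      exact one_ne_zero h
    · exact hvA (hLA (hr.congr K (by rw [← hr.2.1, e])))
  rcases q2 with hQ2 | ⟨p2, m2, hl2, hr2⟩
  · exact hwA (hLA (hr1.congr K (by rw [← hr1.2.1, ← D.act]; funext v; rw [hcv, K.act_mem H hQ2])))
  obtain ⟨P, hP, u, hu, hru, y, hy, hyu⟩ := root_shape F hsu hwA hl1 hr1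
  -- adjust a dual vector to be orthogonal to `u`
  have hvec : ∀ j < 16, ∃ v, B v u = 0 ∧ ∀ i < 16, B v (uv i) = B (uv i) (dv j) := by
    intro j hj
    refine ⟨dv j + B (dv j) u • uv y, ?_, fun i hi => ?_⟩
    · rw [B_add_left, B_smul_left', hyu, mul_one, CharTwo.add_self_eq_zero]
    · rw [B_add_left, B_smul_left', uv_perp y hy i hi, mul_zero, add_zero, B_comm]
  have hvfix : ∀ v, B v (uv P) = 0 → B v u = 0 → K.act (w * c) v = rootV (uv l.1) (uv l.2) v := by
    intro v a b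
    rw [hcw, K.act_mul H hcz hwz, hru.2.1, (rootV_fix hu).2 ⟨a, b⟩, D.act]
  rcases hs : inSpan l P with _ | _
  · -- four distinct values in a two-dimensional image
    obtain ⟨Φ, hΦ⟩ : ∃ Φ : ZMod 2 × ZMod 2 → V, ∀ t, Φ t = t.1 • p2 + t.2 • m2 := ⟨_, fun _ => rfl⟩
    have himg : ∀ v, ∃ t, K.act (w * c) v + v = Φ t := fun v => ⟨(B v m2, B v p2), by
      rw [hr2.2.1, hΦ, rootV,
        show v + B v m2 • p2 + B v p2 • m2 + v = B v m2 • p2 + B v p2 • m2 + (v + v) by abel, addV, add_zero]⟩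
    have hL3 : ∀ a b : ZMod 2, ∃ t, a • uv l.1 + b • uv l.2 = Φ t := by
      intro a b
      obtain ⟨j, hj, j1, j2, j3⟩ := dual_three l D.hl P hP hs b a 0
      obtain ⟨v, v1, v2⟩ := hvec j hj
      obtain ⟨t, ht⟩ := himg v
      refine ⟨t, ?_⟩
      rw [← ht, hvfix v (by rw [v2 P hP, j3]) v1, rootV, v2 _ k1, v2 _ k2, j1, j2,
        show v + a • uv l.1 + b • uv l.2 + v = a • uv l.1 + b • uv l.2 + (v + v) by abel, addV, add_zero]
    obtain ⟨t1, e1⟩ := hL3 1 0
    obtain ⟨t2, e2⟩ := hL3 0 1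
    obtain ⟨t3, e3⟩ := hL3 1 1
    obtain ⟨t4, e4⟩ := himg (uv y)
    rw [one_smul, zero_smul, add_zero] at e1
    rw [one_smul, zero_smul, zero_add] at e2
    rw [one_smul, one_smul] at e3
    rw [hcw, K.act_mul H hcz hwz, hru.2.1, rootV, hyu, one_smul, uv_perp y hy P hP, zero_smul, add_zero,
      K.act_add H hcz, act_W_uv F m hy, act_W_uv F m hP,
      show uv y + uv P + uv y = uv P + (uv y + uv y) by abel, addV, add_zero] at e4
    have hΦ0 : Φ 0 = 0 := by rw [hΦ]; simp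
    have hP' : ∀ a b : ZMod 2, uv P ≠ a • uv l.1 + b • uv l.2 := fun a b e => by
      rw [(span_values l D.hl P hP).2 ⟨a, b, e⟩] at hs
      cases hs
    refine four_not_span t1 t2 t3 t4 (fun h => l1 (by rw [e1, h, hΦ0])) (fun h => l3 (by rw [e2, h, hΦ0]))
      (fun h => l4 (eqV (by rw [add_comm, e3, h, hΦ0]))) (fun h => hu.1 (by rw [e4, h, hΦ0]))
      (fun h => l4 (by rw [e1, e2, h])) (fun h => l3 ?_) (fun h => hP' 1 0 (by rw [e4, ← h, ← e1]; simp))
      (fun h => l1 ?_) (fun h => hP' 0 1 (by rw [e4, ← h, ← e2]; simp))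
      (fun h => hP' 1 1 (by rw [e4, ← h, ← e3]; simp))
    · have : uv l.1 = uv l.1 + uv l.2 := by rw [e3, ← h, ← e1]
      exact left_eq_add.mp this
    · have : uv l.2 = uv l.2 + uv l.1 := by rw [add_comm, e3, ← h, ← e2]
      exact left_eq_add.mp this
  · -- the offset is detected by a lift commuting with all three elements
    obtain ⟨a, b, eP⟩ := span_to_uv l D.hl P hP hs
    obtain ⟨j, hj, j1, j2, j3⟩ := dual_three l D.hl _ hi16 D.hi 0 0 1
    obtain ⟨v, v1, v2⟩ := hvec j hj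
    have a1 : B v (uv l.1) = 0 := (v2 _ k1).trans j1
    have a2 : B v (uv l.2) = 0 := (v2 _ k2).trans j2
    have aP : B v (uv P) = 0 := by rw [eP, B_add_right, B_smul_right', B_smul_right', a1, a2, mul_zero, mul_zero, add_zero]
    have hfix2 : K.act (w * c) v = v := by rw [hvfix v aP v1]; exact (rootV_fix hL).2 ⟨a1, a2⟩
    rw [hr2.2.1] at hfix2
    obtain ⟨b1, b2⟩ := (rootV_fix hl2).1 hfix2
    have hlQ := K.lift_mem v
    obtain ⟨u1, u2, u3, u4, u5, u6⟩ := hu
    obtain ⟨w1', w2', w3', w4', w5', w6'⟩ := hl2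
    have cw : Commute w (K.lift v) := S.root_comm_lift u1 u2 u3 u4 u5 u6 hru hlQ (by rw [K.vec_lift, aP]) (by rw [K.vec_lift, v1])
    have cv : Commute (w * c) (K.lift v) := S.root_comm_lift w1' w2' w3' w4' w5' w6' hr2 hlQ (by rw [K.vec_lift, b1]) (by rw [K.vec_lift, b2])
    have cr : Commute (W F mr) (K.lift v) := S.root_comm_lift l1 l2 l3 l4 l5 l6 D.root hlQ (by rw [K.vec_lift, a1]) (by rw [K.vec_lift, a2])
    have ck : Commute (W F k) (K.lift v) := by
      have : W F k = (W F mr)⁻¹ * (w⁻¹ * (w * c)) := by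
        rw [hc, D.eq, W_xor]; group
      rw [this]
      exact cr.inv_left.mul_left (cw.inv_left.mul_left cv)
    obtain ⟨q1', q2'⟩ := W_low F D.hk
    have e := (K.comm_iff H.extra.ne_one q1' hlQ).1 ck.eq
    rw [q2', K.vec_lift, B_comm, v2 _ hi16, j3] at e
    exact one_ne_zero e

variable (F)

/-- An involution of the normalizer with both lifts in the class lies in the subgroup. -/
theorem mem_A_of_T {m : ℕ} (hm : m < 2048) (hm0 : m ≠ 0) (hom : inO m = false) {w : G} (hw : w ∈ N F)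
    (hc : w * W F m = W F m * w) (hz1 : IsConj z w) (hz2 : IsConj z (w * W F m)) : w ∈ A F := by
  by_contra hwA
  have H := S.hyp
  have h2 : w * w = 1 := by
    obtain ⟨d, rfl⟩ := isConj_iff.1 hz1
    exact conj_sq_one H.extra.sq_one
  obtain ⟨o, ho, hO, hwo, a, ha, ea⟩ := exists_commutator F hw h2 hwA
  obtain ⟨n, hn, m', hm', hm0', hom', -, en, em⟩ := to_frame F hm hm0 hom ho hO
  obtain ⟨v, hv⟩ : ∃ v, v = n * w * n⁻¹ := ⟨_, rfl⟩
  have hvz : v * z = z * v := by
    rw [hv, ← en, show n * w * n⁻¹ * (n * W F o * n⁻¹) = n * (w * W F o) * n⁻¹ by group, hwo]; group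
  have hvc : v * W F m' = W F m' * v := by
    rw [hv, ← em, show n * w * n⁻¹ * (n * W F m * n⁻¹) = n * (w * W F m) * n⁻¹ by group, hc]; group
  have hvN : v ∈ N F := hv ▸ mul_mem (mul_mem hn hw) (inv_mem hn)
  have hv2 : v * v = 1 := hv ▸ conj_sq_one h2
  have hvA : v ∉ A F := fun h => hwA (by
    have := conj_mem F (inv_mem hn) h
    rwa [hv, show n⁻¹ * (n * w * n⁻¹) * n⁻¹⁻¹ = w by group] at this)
  have c1 : IsConj z v := hz1.trans (isConj_iff.2 ⟨n, hv.symm⟩)
  have c2 : IsConj z (v * z) := hz1.trans (isConj_iff.2 ⟨n * a, by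
    rw [hv, ← en, show n * a * w * (n * a)⁻¹ = n * (a * w * a⁻¹) * n⁻¹ by group, ← ea]; group⟩)
  have c3 : IsConj z (v * W F m') := hz2.trans (isConj_iff.2 ⟨n, by rw [hv, ← em]; group⟩)
  have c4 : IsConj z (v * W F m' * z) := hz2.trans (isConj_iff.2 ⟨n * a, by
    calc n * a * (w * W F m) * (n * a)⁻¹ = n * (a * w * (W F m * a⁻¹)) * n⁻¹ := by group
      _ = n * (a * w * a⁻¹ * W F m) * n⁻¹ := by rw [A_comm F (W_mem F hm) (inv_mem ha)]; group
      _ = n * (w * (W F o * W F m)) * n⁻¹ := by rw [← ea]; group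
      _ = n * w * n⁻¹ * (n * W F m * n⁻¹) * (n * W F o * n⁻¹) := by rw [W_comm F o m]; group
      _ = v * W F m' * z := by rw [← hv, em, en]⟩)
  have hvcz : v * W F m' * z = z * (v * W F m') := (Commute.mul_left hvz (W_z F m')).eq
  have hvc2 : v * W F m' * (v * W F m') = 1 := by
    rw [show v * W F m' * (v * W F m') = v * (W F m' * v) * W F m' by group, ← hvc,
      show v * (v * W F m') * W F m' = v * v * (W F m' * W F m') by group, hv2, W_sq, one_mul]
  have q1 : QRoot K v := qroot_of_pair S hvz hv2 c1 c2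
  have q2 : QRoot K (v * W F m') := qroot_of_pair S hvcz hvc2 c3 c4
  rcases h4 : inO (m' ^^^ 1) with _ | _
  · obtain ⟨l, mr, k, D⟩ := exists_two F hm' hm0' hom' h4
    exact D.both hm' (su_of_N F hvN hvz) hv2 hvc hvA q1 q2
  · exact both_four F hm' hm0' hom' h4 hvz hv2 hvc hvA q1 q2

variable {F}

/-- A fixed element of the class with two lifts, over a line. -/
theorem TwoData.exists_comm {m : ℕ} {l : ℕ × ℕ} {mr k : ℕ} (D : TwoData F m l mr k) (hm : m < 2048) {w : G}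
    (hsu : SU K w) (hcw : w * W F m = W F m * w) (hwA : w ∉ A F) (q1 : QRoot K w) :
    ∃ o < 2048, inO o = true ∧ inO (m ^^^ o) = true ∧ w * W F o = W F o * w := by
  have H := S.hyp
  have hwz := hsu.1
  obtain ⟨l1, l2, l3, l4, l5, l6⟩ := lineV_uv l D.hl
  have hL : LineV (uv l.1) (uv l.2) := lineV_uv l D.hl
  obtain ⟨-, -, -, k1, k2⟩ := line_data l D.hl
  have hi16 : k >>> 1 < 16 := by have := D.hk; rw [Nat.shiftRight_eq_div_pow]; omega
  have good : ∀ b < 16, inSpan l b = true → w * W F (k ^^^ 2 * b) = W F (k ^^^ 2 * b) * w →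
      ∃ o < 2048, inO o = true ∧ inO (m ^^^ o) = true ∧ w * W F o = W F o * w := by
    intro b hb hs hcomm
    have h2b : 2 * b < 32 := by omega
    have hkb : k ^^^ 2 * b < 32 := Nat.xor_lt_two_pow (n := 5) D.hk h2b
    have hb2 : (2 * b) >>> 1 = b := by rw [Nat.shiftRight_eq_div_pow]; omega
    refine ⟨k ^^^ 2 * b, by omega, low_octad _ hkb fun e => ?_, ?_, hcomm⟩
    · rw [Nat.xor_eq_zero_iff] at e
      have hi := D.hi
      rw [e, hb2, hs] at hi
      cases hi
    · have he : m ^^^ (k ^^^ 2 * b) = mr ^^^ 2 * b := by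
        rw [D.eq, ← Nat.xor_assoc, Nat.xor_assoc mr, Nat.xor_self, Nat.xor_zero]
      rw [he, ← conj_char F (Nat.xor_lt_two_pow (n := 11) D.hr (by omega)), W_xor]
      obtain ⟨w1, w2⟩ := W_low F h2b
      obtain ⟨i, j, hij⟩ := span_to_uv l D.hl b hb hs
      exact (S.root_mul_lift l1 l2 l3 l4 l5 l6 D.root w1 i j (by rw [w2, hb2, hij])).2.2.2
  have good0 : w * W F mr = W F mr * w → ∃ o < 2048, inO o = true ∧ inO (m ^^^ o) = true ∧ w * W F o = W F o * w := by
    intro hwr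
    refine good 0 (by norm_num) (by simp [inSpan]) ?_
    rw [Nat.mul_zero, Nat.xor_zero]
    have e : W F k = W F mr * W F m := by rw [D.eq, W_xor, ← mul_assoc, W_sq, one_mul]
    rw [e]
    exact (Commute.mul_right hwr hcw).eq
  rcases q1 with hQ | ⟨p, n, hl, hr⟩
  · refine good0 (Commute.symm (S.root_comm_lift l1 l2 l3 l4 l5 l6 D.root hQ ?_ ?_)).eq
    all_goals
      have h : K.act (W F m) (K.vec w) = K.vec w := by
        rw [K.act_vec H (W_z F m) hQ, ← hcw, mul_inv_cancel_right]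
      rw [D.act] at h
    exacts [((rootV_fix hL).1 h).1, ((rootV_fix hL).1 h).2]
  obtain ⟨P, hP, u, hu, hru, -⟩ := root_shape F hsu hwA hl hr
  obtain ⟨u1, u2, u3, u4, u5, u6⟩ := hu
  have commU : ∀ b < 16, inSpan l b = true → B (uv (k >>> 1) + uv b) u = 0 →
      ∃ o < 2048, inO o = true ∧ inO (m ^^^ o) = true ∧ w * W F o = W F o * w := by
    intro b hb hs hB
    have hkb : k ^^^ 2 * b < 32 := Nat.xor_lt_two_pow (n := 5) D.hk (by omega)
    obtain ⟨w1, w2⟩ := W_low F hkb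
    rw [Nat.shiftRight_xor_distrib, show (2 * b) >>> 1 = b by rw [Nat.shiftRight_eq_div_pow]; omega,
      uv_xor _ hi16 b hb] at w2
    refine good b hb hs (S.root_comm_lift u1 u2 u3 u4 u5 u6 hru w1 ?_ (by rw [w2, hB]))
    rw [w2, B_add_left, uv_perp _ hi16 P hP, uv_perp b hb P hP, add_zero]
  rcases zcases (B (uv (k >>> 1)) u) with he | he
  · exact commU 0 (by norm_num) (by simp [inSpan]) (by rw [uv_zero', add_zero, he])
  rcases zcases (B (uv l.1) u) with h1 | h1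
  swap
  · exact commU l.1 k1 (by simp [inSpan, Nat.beq_refl]) (by rw [B_add_left, he, h1]; rfl)
  rcases zcases (B (uv l.2) u) with h2 | h2
  swap
  · exact commU l.2 k2 (by simp [inSpan, Nat.beq_refl]) (by rw [B_add_left, he, h2]; rfl)
  -- the line of `w` is orthogonal to the line of `c`
  have hfix : ∀ {a : ℕ}, a < 16 → B (uv a) u = 0 → K.act w (uv a) = uv a := fun ha h => by
    rw [hru.2.1]; exact (rootV_fix ⟨u1, u2, u3, u4, u5, u6⟩).2 ⟨uv_perp _ ha P hP, h⟩
  have hroot : K.Root (uv l.1) (uv l.2) (w * W F mr * w⁻¹) := by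
    have := D.root.conj K H hwz
    rwa [hfix k1 h1, hfix k2 h2] at this
  obtain ⟨q', hq', ⟨a, b, hv⟩, hq⟩ := S.root_diff l1 l2 l3 l4 l5 l6 D.root hroot
  obtain ⟨w1, w2⟩ := W_low F D.hk
  have hq2 : q' * (w * W F k * w⁻¹) = W F k := by
    refine mul_left_cancel (a := W F mr) ?_
    rw [← W_xor, ← D.eq, ← mul_assoc, ← hq]
    calc w * W F mr * w⁻¹ * (w * W F k * w⁻¹) = w * (W F mr * W F k) * w⁻¹ := by group
      _ = W F m := by rw [← W_xor, ← D.eq, hcw, mul_inv_cancel_right]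
  have hvec := congrArg K.vec hq2
  rw [K.mul hq' (H.norm w hwz _ w1), ← K.act_vec H hwz w1, w2, hv, hru.2.1, rootV, he, one_smul,
    uv_perp _ hi16 P hP, zero_smul, add_zero] at hvec
  have eP : uv P = a • uv l.1 + b • uv l.2 := by
    refine eqV ?_
    calc uv P + (a • uv l.1 + b • uv l.2) = (a • uv l.1 + b • uv l.2 + (uv (k >>> 1) + uv P)) + uv (k >>> 1) + (uv (k >>> 1) + uv (k >>> 1)) + (uv (k >>> 1) + uv (k >>> 1)) := by
          rw [addV, add_zero, add_zero]
          calc uv P + (a • uv l.1 + b • uv l.2) = uv P + (a • uv l.1 + b • uv l.2) + (uv (k >>> 1) + uv (k >>> 1)) := by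
                rw [addV, add_zero]
            _ = _ := by abel
      _ = 0 := by rw [hvec]; simp only [addV, add_zero]
  obtain ⟨m0, hm0', hrm0, hcase⟩ := lineV_point hL u1 eP
  obtain ⟨t1, t2, t3, t4, t5, t6⟩ := hm0'
  refine good0 (S.root_comm_meet u1 u2 u3 u4 u5 u6 t3 t4 t5 t6 ?_ hru (D.root.congr K hrm0))
  rcases hcase with rfl | rfl
  · rw [B_comm, h1]
  · rw [B_comm, h2]

variable (F)

/-- An involution of the normalizer with a lift in the class commutes with an element with two lifts. -/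
theorem exists_T_comm {m : ℕ} (hm : m < 2048) (hm0 : m ≠ 0) (hom : inO m = false) {w : G} (hw : w ∈ N F)
    (hc : w * W F m = W F m * w) (hwA : w ∉ A F) (hz1 : IsConj z w) :
    ∃ o < 2048, inO o = true ∧ inO (m ^^^ o) = true ∧ w * W F o = W F o * w := by
  have H := S.hyp
  have h2 : w * w = 1 := by
    obtain ⟨d, rfl⟩ := isConj_iff.1 hz1
    exact conj_sq_one H.extra.sq_one
  obtain ⟨o, ho, hO, hwo, a, -, ea⟩ := exists_commutator F hw h2 hwA
  rcases hT : inO (m ^^^ o) with _ | _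
  swap
  · exact ⟨o, ho, hO, hT, hwo⟩
  obtain ⟨n, hn, m', hm', hm0', hom', hS, en, em⟩ := to_frame F hm hm0 hom ho hO
  rw [hT] at hS
  obtain ⟨l, mr, k, D⟩ := exists_two F hm' hm0' hom' hS
  obtain ⟨v, hv⟩ : ∃ v, v = n * w * n⁻¹ := ⟨_, rfl⟩
  have hvz : v * z = z * v := by
    rw [hv, ← en, show n * w * n⁻¹ * (n * W F o * n⁻¹) = n * (w * W F o) * n⁻¹ by group, hwo]; group
  have hvc : v * W F m' = W F m' * v := by
    rw [hv, ← em, show n * w * n⁻¹ * (n * W F m * n⁻¹) = n * (w * W F m) * n⁻¹ by group, hc]; group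
  have hvN : v ∈ N F := hv ▸ mul_mem (mul_mem hn hw) (inv_mem hn)
  have hvA : v ∉ A F := fun h => hwA (by
    have := conj_mem F (inv_mem hn) h
    rwa [hv, show n⁻¹ * (n * w * n⁻¹) * n⁻¹⁻¹ = w by group] at this)
  have q1 : QRoot K v := qroot_of_pair S hvz (hv ▸ conj_sq_one h2) (hz1.trans (isConj_iff.2 ⟨n, hv.symm⟩))
    (hz1.trans (isConj_iff.2 ⟨n * a, by
      rw [hv, ← en, show n * a * w * (n * a)⁻¹ = n * (a * w * a⁻¹) * n⁻¹ by group, ← ea]; group⟩))
  obtain ⟨o', ho', hO', hT', hcomm⟩ := D.exists_comm hm' (su_of_N F hvN hvz) hvc hvA q1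
  obtain ⟨o'', ho'', e''⟩ := conj_mask F (inv_mem hn) ho'
  have em2 : n⁻¹ * W F m' * n⁻¹⁻¹ = W F m := by rw [← em]; group
  refine ⟨o'', ho'', (inO_conj F n⁻¹ ho' ho'' e'').trans hO',
    (inO_conj F n⁻¹ (Nat.xor_lt_two_pow (n := 11) hm' ho') (Nat.xor_lt_two_pow (n := 11) hm ho'')
      (conj_W_mul F n⁻¹ em2 e'')).trans hT', ?_⟩
  have hw' : w = n⁻¹ * v * n := by rw [hv]; group
  rw [hw', ← e'', show n⁻¹ * v * n * (n⁻¹ * W F o' * n⁻¹⁻¹) = n⁻¹ * (v * W F o') * n by group, hcomm]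
  group

end basic

end CfsgLib.CoOneUnique
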