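import Mathlib
import Cfsg.Agent.Lib.CoOneUnique.DodecCert

/-!
Consequences of the certificates: no three-space of the third kind, and witnesses.
-/

set_option autoImplicit false
set_option linter.style.longLine false
set_option maxHeartbeats 1000000
set_option maxRecDepth 100000

namespace CfsgLib.CoOneUnique

open CfsgLib.CoOneGolay CfsgLib.Golay

theorem xor_cancel' (a b : ℕ) : a ^^^ b ^^^ b = a := by rw [Nat.xor_assoc, Nat.xor_self, Nat.xor_zero]

theorem par_xor (a b : ℕ) : par (a ^^^ b) = xor (par a) (par b) := by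
  unfold par
  generalize List.range 11 = l
  induction l with
  | nil => rfl
  | cons i l ih =>
    simp only [parB, ih, Nat.testBit_xor]
    cases a.testBit i <;> cases b.testBit i <;> cases parB l a <;> cases parB l b <;> rfl

theorem sd_eq : ∀ b < 2048, ∀ a < 2048, sd a b = par (a &&& spanWord mList b) := by
  intro b hb
  rw [← Nat.eq_of_beq_eq_true (List.all_eq_true.mp span_basisN b (List.mem_range.mpr hb))]
  refine (spanWord_induction (P := fun b => b < 2 ^ 11 ∧ ∀ a < 2048, sd a b = par (a &&& spanWord mList b))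
    basisN ?_ ?_ ?_ b).2
  · refine ⟨by norm_num, fun a _ => ?_⟩
    have h0 : dl 0 = true := by decide +kernel
    have h1 : spanWord mList 0 = 0 := by decide +kernel
    rw [h1, Nat.and_zero, show par 0 = false by decide +kernel]
    show xor (xor (dl (a ^^^ 0)) (dl a)) (xor (dl 0) true) = false
    rw [Nat.xor_zero, h0]
    cases dl a <;> rfl
  · rintro b1 b2 ⟨hb1, h1⟩ ⟨hb2, h2⟩
    refine ⟨Nat.xor_lt_two_pow hb1 hb2, fun a ha => ?_⟩
    have e1 := h1 a ha
    have e2 := h2 (a ^^^ b1) (Nat.xor_lt_two_pow (n := 11) ha hb1)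
    have e3 := h2 b1 hb1
    rw [spanWord_xor, Nat.and_xor_distrib_left, par_xor]
    rw [Nat.and_xor_distrib_right, par_xor] at e2
    change xor (xor (dl (a ^^^ b1)) (dl a)) (xor (dl b1) true) = _ at e1
    change xor (xor (dl (a ^^^ b1 ^^^ b2)) (dl (a ^^^ b1))) (xor (dl b2) true) = _ at e2
    change xor (xor (dl (b1 ^^^ b2)) (dl b1)) (xor (dl b2) true) = _ at e3
    show xor (xor (dl (a ^^^ (b1 ^^^ b2))) (dl a)) (xor (dl (b1 ^^^ b2)) true) = _
    rw [← Nat.xor_assoc]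
    revert e1 e2 e3
    generalize dl (a ^^^ b1 ^^^ b2) = p1
    generalize dl (a ^^^ b1) = p2
    generalize dl a = p3
    generalize dl b1 = p4
    generalize dl b2 = p5
    generalize dl (b1 ^^^ b2) = p6
    generalize par (a &&& spanWord mList b1) = p7
    generalize par (a &&& spanWord mList b2) = p8
    generalize par (b1 &&& spanWord mList b2) = p9
    revert p1 p2 p3 p4 p5 p6 p7 p8 p9
    decide
  · intro e he
    have h := List.all_eq_true.mp quad_base e he
    refine ⟨?_, fun a ha => eq_of_beq (List.all_eq_true.mp h a (List.mem_range.mpr ha))⟩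
    simp [basisN] at he
    omega

theorem tC_iff {a : ℕ} : tC a = true ↔ a ≠ 0 ∧ a ≠ 40 ∧ inO a = false ∧ inO (a ^^^ 40) = false := by
  have hb : ∀ n k : ℕ, Nat.beq n k = true ↔ n = k := fun n k =>
    ⟨Nat.eq_of_beq_eq_true, fun h => by rw [h]; exact Nat.beq_refl k⟩
  rw [tC, Bool.not_eq_true', Bool.eq_false_iff]
  simp only [ne_eq, Bool.or_eq_true, hb, not_or, and_assoc, Bool.not_eq_true]
  rfl

theorem tC_dl {a : ℕ} (h : tC a = true) : dl a = false := by
  obtain ⟨h1, h2, h3, h4⟩ := tC_iff.1 h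
  have hb : ∀ n k : ℕ, n ≠ k → Nat.beq n k = false := fun n k h =>
    Bool.eq_false_iff.2 fun e => h (Nat.eq_of_beq_eq_true e)
  show xor (Nat.beq a 0 || inO a) (Nat.beq a 40 || inO (a ^^^ 40)) = false
  rw [hb a 0 h1, hb a 40 h2, h3, h4]
  rfl

theorem tC_shift {a : ℕ} : tC (a ^^^ 40) = tC a := by
  rw [Bool.eq_iff_iff, tC_iff, tC_iff, xor_cancel']
  have e1 : a ^^^ 40 = 0 ↔ a = 40 := Nat.xor_eq_zero_iff
  have e2 : a ^^^ 40 = 40 ↔ a = 0 := by
    constructor
    · intro h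
      have := congrArg (· ^^^ 40) h
      simpa [xor_cancel'] using this
    · rintro rfl; rfl
  rw [Ne, Ne, e1, e2]
  tauto

/-- No three-space of the third kind. -/
theorem no_three {a b k : ℕ} (ha : a < 2048) (hb : b < 2048) (hk : k < 2048) (h1 : tC a = true) (h2 : tC b = true)
    (h3 : tC k = true) (h4 : tC (a ^^^ b) = true) (h5 : tC (k ^^^ b) = true) (h6 : tC (a ^^^ k) = true)
    (h7 : tC (a ^^^ k ^^^ b) = true) : False := by
  have e1 := sd_eq b hb a ha
  have e2 := sd_eq b hb k hk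
  have e3 := sd_eq b hb (a ^^^ k) (Nat.xor_lt_two_pow (n := 11) ha hk)
  rw [Nat.and_xor_distrib_right, par_xor, ← e1, ← e2] at e3
  change xor (xor (dl (a ^^^ k ^^^ b)) (dl (a ^^^ k))) (xor (dl b) true) =
    xor (xor (xor (dl (a ^^^ b)) (dl a)) (xor (dl b) true)) (xor (xor (dl (k ^^^ b)) (dl k)) (xor (dl b) true)) at e3
  rw [tC_dl h1, tC_dl h2, tC_dl h3, tC_dl h4, tC_dl h5, tC_dl h6, tC_dl h7] at e3
  cases e3

theorem exists_rep {a : ℕ} (ha : a < 2048) (h : tC a = true) : a ∈ cList ∨ a ^^^ 40 ∈ cList := by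
  have h40 : a ^^^ 40 < 2048 := Nat.xor_lt_two_pow (n := 11) ha (by norm_num)
  rcases Nat.lt_or_ge a (a ^^^ 40) with l | l
  · exact Or.inl (List.mem_filter.2 ⟨List.mem_range.2 ha, by rw [h, Bool.true_and]; exact decide_eq_true l⟩)
  · refine Or.inr (List.mem_filter.2 ⟨List.mem_range.2 h40, ?_⟩)
    rw [tC_shift, h, Bool.true_and]
    refine decide_eq_true ?_
    show a ^^^ 40 < a ^^^ 40 ^^^ 40
    rw [xor_cancel']
    refine lt_of_le_of_ne l fun e => ?_
    have := congrArg (fun t => t ^^^ a) e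
    simp [Nat.xor_comm a 40, xor_cancel'] at this

theorem witness_one {a : ℕ} (ha : a < 2048) (h : tC a = true) :
    ∃ s < 2048, tS s = true ∧ tC (a ^^^ s) = true := by
  have key : ∀ a ∈ cList, ∃ s < 2048, tS s = true ∧ tC (a ^^^ s) = true := by
    intro a ha
    obtain ⟨s, hs, e⟩ := List.any_eq_true.mp (List.all_eq_true.mp wit_one_table a ha)
    rw [sList, List.mem_filter, List.mem_range] at hs
    exact ⟨s, hs.1, hs.2, e⟩
  rcases exists_rep ha h with m | m
  · exact key a m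
  · obtain ⟨s, s1, s2, e⟩ := key _ m
    refine ⟨s, s1, s2, ?_⟩
    rwa [Nat.xor_right_comm, tC_shift] at e

theorem witness_two {a b : ℕ} (ha : a < 2048) (hb : b < 2048) (h : tC a = true) (h' : tC b = true)
    (hab : tC (a ^^^ b) = true) :
    ∃ s < 2048, tS s = true ∧ tC (a ^^^ s) = true ∧ tC (b ^^^ s) = true ∧ tC (a ^^^ b ^^^ s) = true := by
  have key : ∀ a ∈ cList, ∀ b ∈ cList, tC (a ^^^ b) = true →
      ∃ s < 2048, tS s = true ∧ tC (a ^^^ s) = true ∧ tC (b ^^^ s) = true ∧ tC (a ^^^ b ^^^ s) = true := by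
    have k1 : ∀ a ∈ cList, ∀ b ∈ cList, a < b → tC (a ^^^ b) = true →
        ∃ s < 2048, tS s = true ∧ tC (a ^^^ s) = true ∧ tC (b ^^^ s) = true ∧ tC (a ^^^ b ^^^ s) = true := by
      intro a ha b hb hlt hab
      have e := List.all_eq_true.mp (List.all_eq_true.mp wit_two_table a ha) b hb
      rw [show tC (Nat.xor a b) = true from hab, decide_eq_true hlt] at e
      simp only [Bool.and_self, Bool.not_true, Bool.false_or] at e
      obtain ⟨s, hs, e⟩ := List.any_eq_true.mp e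
      rw [sList, List.mem_filter, List.mem_range] at hs
      simp only [Bool.and_eq_true, and_assoc] at e
      exact ⟨s, hs.1, hs.2, e⟩
    intro a ha b hb hab
    rcases lt_trichotomy a b with l | rfl | l
    · exact k1 a ha b hb l hab
    · simp [tC] at hab
    · obtain ⟨s, s1, s2, e1, e2, e3⟩ := k1 b hb a ha l (by rwa [Nat.xor_comm])
      exact ⟨s, s1, s2, e2, e1, by rwa [Nat.xor_comm a b]⟩
  obtain ⟨a', ha', ea⟩ : ∃ a' ∈ cList, a' = a ∨ a' = a ^^^ 40 := by
    rcases exists_rep ha h with m | m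
    exacts [⟨_, m, Or.inl rfl⟩, ⟨_, m, Or.inr rfl⟩]
  obtain ⟨b', hb', eb⟩ : ∃ b' ∈ cList, b' = b ∨ b' = b ^^^ 40 := by
    rcases exists_rep hb h' with m | m
    exacts [⟨_, m, Or.inl rfl⟩, ⟨_, m, Or.inr rfl⟩]
  have x1 : ∀ c d, tC (c ^^^ 40 ^^^ d) = tC (c ^^^ d) := fun c d => by rw [Nat.xor_right_comm, tC_shift]
  have x2 : ∀ c d, tC (c ^^^ (d ^^^ 40)) = tC (c ^^^ d) := fun c d => by rw [← Nat.xor_assoc, tC_shift]
  have x3 : ∀ c d e, tC (c ^^^ (d ^^^ 40) ^^^ e) = tC (c ^^^ d ^^^ e) := fun c d e => by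
    rw [← Nat.xor_assoc c d, x1]
  obtain ⟨s, s1, s2, e1, e2, e3⟩ := key a' ha' b' hb' (by rcases ea with rfl | rfl <;> rcases eb with rfl | rfl <;> simpa [x1, x2] using hab)
  refine ⟨s, s1, s2, ?_⟩
  rcases ea with rfl | rfl <;> rcases eb with rfl | rfl
  · exact ⟨e1, e2, e3⟩
  · rw [x1] at e2; rw [x3] at e3; exact ⟨e1, e2, e3⟩
  · rw [x1] at e1; rw [show ∀ c d : ℕ, c ^^^ 40 ^^^ d ^^^ s = c ^^^ d ^^^ s ^^^ 40 from fun c d => by ac_rfl, tC_shift] at e3
    exact ⟨e1, e2, e3⟩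
  · rw [x1] at e1 e2; rw [x3, show ∀ c d : ℕ, c ^^^ 40 ^^^ d ^^^ s = c ^^^ d ^^^ s ^^^ 40 from fun c d => by ac_rfl, tC_shift] at e3
    exact ⟨e1, e2, e3⟩

end CfsgLib.CoOneUnique
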