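import Mathlib
import Cfsg.Agent.Lib.CoOneUnique.DodecLocal
import Cfsg.Agent.Lib.CoOneUnique.DodecTables
import Cfsg.Agent.Lib.TwoClassEmbedding.OnePoint

/-!
The centralizer of an element of the subgroup outside the class of `z` normalizes the subgroup: the involutions
with two lifts and with one lift in the class generate, through their products, only elements of the subgroup.
-/

set_option autoImplicit false
set_option linter.style.longLine false
set_option maxHeartbeats 1000000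
set_option maxRecDepth 100000
set_option synthInstance.maxSize 8000
set_option synthInstance.maxHeartbeats 1000000

namespace CfsgLib.CoOneUnique

open Subgroup CfsgLib.CoOneGolay CfsgLib.CoOneType CfsgLib.Golay

/-- Two involutions commuting with the central involution `c` and not conjugate modulo it have a common
centralizing involution modulo it, which multiplies the first one to a conjugate of one of them. -/
theorem exists_central_mod {G : Type*} [Group G] [Finite G] {c x y : G} (hc2 : c * c = 1) (hx : x * c = c * x)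
    (hy : y * c = c * y) (hx2 : x * x = 1) (hy2 : y * y = 1) (hx0 : x ≠ 1 ∧ x ≠ c) (hy0 : y ≠ 1 ∧ y ≠ c)
    (hne : ∀ d, d * c = c * d → d * x * d⁻¹ ≠ y ∧ d * x * d⁻¹ ≠ y * c) :
    ∃ i, i * c = c * i ∧ (i * x * i⁻¹ = x ∨ i * x * i⁻¹ = x * c) ∧ (i * y * i⁻¹ = y ∨ i * y * i⁻¹ = y * c) ∧
      i ≠ 1 ∧ i ≠ c ∧ ∃ d, d * c = c * d ∧ ((i * x = d * x * d⁻¹ ∨ i * x = d * x * d⁻¹ * c) ∨
        (i * x = d * y * d⁻¹ ∨ i * x = d * y * d⁻¹ * c)) := by
  classical
  let X := centralizer ({c} : Set G)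
  have hcX : c ∈ X := mem_centralizer_singleton_iff.2 rfl
  let cX : ↥X := ⟨c, hcX⟩
  let C := zpowers cX
  have hC : ∀ a : ↥X, a ∈ C ↔ (a : G) = 1 ∨ (a : G) = c := by
    intro a
    constructor
    · rintro ⟨n, rfl⟩
      have hcc : cX * cX = 1 := Subtype.ext hc2
      rcases Int.even_or_odd n with ⟨k, rfl⟩ | ⟨k, rfl⟩
      · left
        show ((cX ^ (k + k) : ↥X) : G) = 1
        rw [show k + k = 2 * k by ring, zpow_mul, zpow_two, hcc, one_zpow, Subgroup.coe_one]
      · right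
        show ((cX ^ (2 * k + 1) : ↥X) : G) = c
        rw [zpow_add, zpow_mul, zpow_two, hcc, one_zpow, one_mul, zpow_one]
    · rintro (h | h)
      · rw [show a = 1 from Subtype.ext h]; exact one_mem C
      · rw [show a = cX from Subtype.ext h]; exact mem_zpowers cX
  have hn : C.Normal := ⟨fun a ha b => by
    have e : b * a * b⁻¹ = a := Subtype.ext (by
      show (b : G) * a * (b : G)⁻¹ = a
      rcases (hC a).1 ha with h | h <;> rw [h]
      · simp
      · rw [mem_centralizer_singleton_iff.1 b.2, mul_inv_cancel_right])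
    rwa [e]⟩
  let π := QuotientGroup.mk' C
  have heq : ∀ {a b : ↥X}, π a = π b → (a : G) = b ∨ (a : G) = (b : G) * c := by
    intro a b h
    rcases (hC _).1 (QuotientGroup.eq.1 h.symm) with e | e
    · left
      rw [Subgroup.coe_mul, Subgroup.coe_inv, inv_mul_eq_one] at e
      exact e.symm
    · right
      rw [Subgroup.coe_mul, Subgroup.coe_inv, inv_mul_eq_iff_eq_mul] at e
      exact e
  let x' : ↥X := ⟨x, mem_centralizer_singleton_iff.2 hx⟩
  let y' : ↥X := ⟨y, mem_centralizer_singleton_iff.2 hy⟩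
  have ord : ∀ (a : ↥X), (a : G) * a = 1 → (a : G) ≠ 1 ∧ (a : G) ≠ c → orderOf (π a) = 2 := by
    intro a ha ha0
    refine CfsgLib.Involutions.orderOf_eq_two_iff_mul.2 ⟨fun e => ?_, ?_⟩
    · rw [← map_one π] at e
      rcases heq e with e | e
      · exact ha0.1 e
      · exact ha0.2 (by simpa using e)
    · rw [← map_mul, show a * a = 1 from Subtype.ext ha, map_one]
  have hx' := ord x' hx2 hx0
  have hy' := ord y' hy2 hy0
  have hnc : ¬ IsConj (π x') (π y') := by
    intro h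
    obtain ⟨d, hd⟩ := isConj_iff.1 h
    obtain ⟨d', rfl⟩ := QuotientGroup.mk'_surjective C d
    rw [← map_inv, ← map_mul, ← map_mul] at hd
    obtain ⟨n1, n2⟩ := hne d' (mem_centralizer_singleton_iff.1 d'.2)
    rcases heq hd with e | e
    exacts [n1 e, n2 e]
  have heven := CfsgLib.Involutions.even_order_of_not_isConj hx' hy' hnc
  obtain ⟨hi2, hix, hiy⟩ := CfsgLib.Involutions.central_involution hx' hy' heven
  have hcm := CfsgLib.TwoClassEmbedding.central_mul_isConj hx' hy'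
  generalize (π x' * π y') ^ (orderOf (π x' * π y') / 2) = j at hi2 hix hiy hcm
  obtain ⟨i, rfl⟩ := QuotientGroup.mk'_surjective C j
  have conj : ∀ {a : ↥X}, Commute (π i) (π a) → (i : G) * a * (i : G)⁻¹ = a ∨ (i : G) * a * (i : G)⁻¹ = a * c := by
    intro a h
    have := heq (a := i * a * i⁻¹) (b := a) (by rw [map_mul, map_mul, map_inv, h.eq, mul_inv_cancel_right])
    simpa using this
  refine ⟨i, mem_centralizer_singleton_iff.1 i.2, conj hix, conj hiy, fun e => ?_, fun e => ?_, ?_⟩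
  · rw [show i = 1 from Subtype.ext e, map_one] at hi2
    simp at hi2
  · rw [show π i = 1 from (QuotientGroup.eq_one_iff i).2 ((hC i).2 (Or.inr e))] at hi2
    simp at hi2
  · rcases hcm with h | h <;>
      obtain ⟨d, hd⟩ := isConj_iff.1 h <;> obtain ⟨d', rfl⟩ := QuotientGroup.mk'_surjective C d <;>
      rw [← map_inv, ← map_mul, ← map_mul, ← map_mul] at hd
    · exact ⟨d', mem_centralizer_singleton_iff.1 d'.2, Or.inl (by simpa using heq hd.symm)⟩
    · exact ⟨d', mem_centralizer_singleton_iff.1 d'.2, Or.inr (by simpa using heq hd.symm)⟩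

variable {G : Type*} [Group G] [Finite G] {z : G} {Q : Subgroup G} {K : Coord z Q 0} {x g : G} {S : Base K x g}

section basic

variable (F : Frame S)

/-- Fixing a mask modulo the base one. -/
def FixM (a : ℕ) (h : G) : Prop :=
  h * W F a * h⁻¹ = W F a ∨ h * W F a * h⁻¹ = W F a * W F 40

theorem fix_xor {a b : ℕ} {h : G} (ha : FixM F a h) (hb : FixM F b h) : FixM F (a ^^^ b) h := by
  have e : h * W F (a ^^^ b) * h⁻¹ = h * W F a * h⁻¹ * (h * W F b * h⁻¹) := by rw [W_xor]; group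
  rcases ha with p | p <;> rcases hb with q | q <;> rw [p, q] at e
  · exact Or.inl (e.trans (W_xor F a b).symm)
  · exact Or.inr (e.trans (by rw [← mul_assoc, W_xor]))
  · exact Or.inr (e.trans (by rw [mul_assoc, W_comm F 40 b, ← mul_assoc, W_xor]))
  · refine Or.inl (e.trans ?_)
    calc W F a * W F 40 * (W F b * W F 40) = W F a * (W F 40 * W F b) * W F 40 := by group
      _ = W F a * W F b * (W F 40 * W F 40) := by rw [W_comm F 40 b]; group
      _ = _ := by rw [W_sq, mul_one, W_xor]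

theorem forty : inO 40 = false := by decide +kernel

theorem flip40 (a : ℕ) : 40 ^^^ a = a ^^^ 40 := Nat.xor_comm _ _

variable {F}

theorem conj_c {h : G} (hc : h * W F 40 = W F 40 * h) : h * W F 40 * h⁻¹ = W F 40 := by
  rw [hc, mul_inv_cancel_right]

/-- Fixing an element with at least one lift in the class. -/
theorem mem_N_of_fix {k : ℕ} (hk : k < 2048) (hC : tC k = false) (hk0 : k ≠ 0) (hk40 : k ≠ 40) {h : G}
    (hc : h * W F 40 = W F 40 * h) (hf : FixM F k h) : h ∈ N F := by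
  have hk' : k ^^^ 40 < 2048 := Nat.xor_lt_two_pow (n := 11) hk (by norm_num)
  obtain ⟨o, ho, hO, hfo⟩ : ∃ o < 2048, inO o = true ∧ FixM F o h := by
    rcases hO : inO k with _ | _
    · refine ⟨_, hk', ?_, fix_xor F hf (Or.inl (conj_c hc))⟩
      rcases hO' : inO (k ^^^ 40) with _ | _
      · rw [tC_iff.2 ⟨hk0, hk40, hO, hO'⟩] at hC; cases hC
      · rfl
    · exact ⟨k, hk, hO, hf⟩
  have ho' : o ^^^ 40 < 2048 := Nat.xor_lt_two_pow (n := 11) ho (by norm_num)
  rcases hT : inO (40 ^^^ o) with _ | _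
  · refine mem_N_of_S F (by norm_num) (by norm_num) forty ho hO hT hc (mul_inv_eq_iff_eq_mul.1 ?_)
    refine hfo.resolve_right fun e => ?_
    have := inO_conj F h ho ho' (e.trans (W_xor F o 40).symm)
    rw [← flip40, hT, hO] at this
    cases this
  · refine mem_N_of_T F (by norm_num) (by norm_num) forty ho hO hT hc ?_
    rcases hfo with e | e <;> rw [e]
    exacts [W_mem F ho, mul_mem (W_mem F ho) (W_mem F (by norm_num))]

theorem tS_spec {s : ℕ} (h : tS s = true) : inO s = true ∧ inO (s ^^^ 40) = false := by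
  simp only [tS, Bool.and_eq_true, Bool.not_eq_true'] at h
  exact h

theorem tT_spec {s : ℕ} (h : tT s = true) : inO s = true ∧ inO (s ^^^ 40) = true := by
  simp only [tT, Bool.and_eq_true] at h
  exact h

theorem conj_iff_mask {o : ℕ} (ho : o < 2048) (d : G) : IsConj z (d * W F o * d⁻¹) ↔ inO o = true := by
  rw [← conj_char F ho]
  exact ⟨fun h => h.trans (isConj_iff.2 ⟨d⁻¹, by group⟩), fun h => h.trans (isConj_iff.2 ⟨d, rfl⟩)⟩

/-- The elements with one lift are closed inside the normalizer. -/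
theorem mem_A_of_S {s : ℕ} (hs : s < 2048) (hS : tS s = true) {d : G} (hd : d * W F 40 = W F 40 * d)
    (hy : d * W F s * d⁻¹ ∈ N F) : d * W F s * d⁻¹ ∈ A F := by
  obtain ⟨hO, hO'⟩ := tS_spec hS
  by_contra hA
  have hyc : d * W F s * d⁻¹ * W F 40 = W F 40 * (d * W F s * d⁻¹) :=
    ((Commute.mul_left hd (W_comm F s 40)).mul_left (Commute.inv_left hd)).eq
  obtain ⟨o, ho, hoO, hT, hcomm⟩ := exists_T_comm F (by norm_num : 40 < 2048) (by norm_num) forty hy hyc hA
    ((conj_iff_mask hs d).2 hO)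
  have hd' : d⁻¹ * W F 40 = W F 40 * d⁻¹ := (Commute.inv_left hd).eq
  have hw : d⁻¹ * W F o * d⁻¹⁻¹ * W F 40 = W F 40 * (d⁻¹ * W F o * d⁻¹⁻¹) :=
    ((Commute.mul_left hd' (W_comm F o 40)).mul_left (Commute.inv_left hd')).eq
  have hws : d⁻¹ * W F o * d⁻¹⁻¹ * W F s = W F s * (d⁻¹ * W F o * d⁻¹⁻¹) := by
    calc d⁻¹ * W F o * d⁻¹⁻¹ * W F s = d⁻¹ * (W F o * (d * W F s * d⁻¹)) * d := by group
      _ = d⁻¹ * (d * W F s * d⁻¹ * W F o) * d := by rw [hcomm]
      _ = _ := by group
  have hwN := mem_N_of_S F (by norm_num : 40 < 2048) (by norm_num) forty hs hO (by rw [flip40]; exact hO') hw hws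
  have hwA := mem_A_of_T F (by norm_num : 40 < 2048) (by norm_num) forty hwN hw ((conj_iff_mask ho _).2 hoO) (by
    have e : d⁻¹ * W F o * d⁻¹⁻¹ * W F 40 = d⁻¹ * W F (40 ^^^ o) * d⁻¹⁻¹ := by
      rw [flip40, W_xor]
      calc d⁻¹ * W F o * d⁻¹⁻¹ * W F 40 = d⁻¹ * W F o * (d * W F 40) := by group
        _ = d⁻¹ * W F o * (W F 40 * d) := by rw [hd]
        _ = _ := by group
    rw [e]
    exact (conj_iff_mask (Nat.xor_lt_two_pow (n := 11) (by norm_num) ho) _).2 hT)
  have hdN := mem_N_of_T F (by norm_num : 40 < 2048) (by norm_num) forty ho hoO hT hd' hwA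
  exact hA (conj_mem F (by simpa using inv_mem hdN) (W_mem F hs))

/-- One step: the centralizer of a subspace of the third kind. -/
theorem cent_step (P : ℕ → Prop) (hP : ∀ a, P a → a < 2048) {s : ℕ} (hs : s < 2048) (hS : tS s = true)
    (hwit : ∀ a, P a → tC (a ^^^ s) = true)
    (hIH : ∀ k < 2048, tC k = true → (∀ a, P a → k ≠ a ∧ k ≠ a ^^^ 40) →
      ∀ h : G, h * W F 40 = W F 40 * h → (∀ a, P a → FixM F a h) → FixM F k h → h ∈ N F)
    {h : G} (hc : h * W F 40 = W F 40 * h) (hfix : ∀ a, P a → FixM F a h) : h ∈ N F := by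
  have H := S.hyp
  obtain ⟨o, ho, hoT⟩ := exists_tT
  obtain ⟨hoO, hoO'⟩ := tT_spec hoT
  obtain ⟨hsO, hsO'⟩ := tS_spec hS
  have h40 : (40 : ℕ) < 2048 := by norm_num
  obtain ⟨y, hy⟩ : ∃ y, y = h * W F o * h⁻¹ := ⟨_, rfl⟩
  have hyc : y * W F 40 = W F 40 * y :=
    hy ▸ ((Commute.mul_left hc (W_comm F o 40)).mul_left (Commute.inv_left hc)).eq
  have hyz : IsConj z y := hy ▸ (conj_iff_mask ho h).2 hoO
  have hmulc : ∀ {a : ℕ} {d : G}, d * W F 40 = W F 40 * d →
      d * W F a * d⁻¹ * W F 40 = d * W F (a ^^^ 40) * d⁻¹ := by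
    intro a d hd
    rw [W_xor]
    calc d * W F a * d⁻¹ * W F 40 = d * W F a * (d⁻¹ * W F 40) := by group
      _ = d * W F a * (W F 40 * d⁻¹) := by rw [(Commute.inv_left hd).eq]
      _ = _ := by group
  by_cases hyN : y ∈ N F
  · have hyA := mem_A_of_T F h40 (by norm_num) forty hyN hyc hyz (by
      rw [hy, hmulc hc]; exact (conj_iff_mask (Nat.xor_lt_two_pow (n := 11) ho h40) h).2 hoO')
    exact mem_N_of_T F h40 (by norm_num) forty ho hoO (by rw [flip40]; exact hoO') hc (hy ▸ hyA)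
  exfalso
  have h1 : (1 : G) = W F 0 := (word_zero _).symm
  have hne : ∀ d, d * W F 40 = W F 40 * d → d * W F s * d⁻¹ ≠ y ∧ d * W F s * d⁻¹ ≠ y * W F 40 := by
    intro d hd
    have hs' : ¬ IsConj z (d * W F s * d⁻¹ * W F 40) := by
      rw [hmulc hd, conj_iff_mask (Nat.xor_lt_two_pow (n := 11) hs h40), hsO']; exact Bool.false_ne_true
    refine ⟨fun e => hs' ?_, fun e => hs' ?_⟩
    · rw [e, hy, hmulc hc]; exact (conj_iff_mask (Nat.xor_lt_two_pow (n := 11) ho h40) h).2 hoO'
    · rw [e, mul_assoc, W_sq, mul_one]; exact hyz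
  obtain ⟨i, hic, hix, hiy, hi1, hi40, d, hd, hcase⟩ := exists_central_mod (W_sq F 40) (W_comm F s 40) hyc
    (W_sq F s) (by rw [hy]; exact conj_sq_one (W_sq F o))
    ⟨fun e => by rw [h1] at e; rw [W_injective F hs (by norm_num) e] at hS; revert hS; decide +kernel,
      fun e => by rw [W_injective F hs h40 e] at hS; revert hS; decide +kernel⟩
    ⟨fun e => hyN (e ▸ one_mem _), fun e => hyN (e ▸ su_normalizer F (c := W F 40) ⟨W_z F 40, fun j hj => ⟨j, hj, act_W_uv F 40 hj⟩⟩)⟩
    hne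
  have hsx : FixM F s i := hix
  have hsC : tC s = false := by
    rw [Bool.eq_false_iff]; intro e
    rw [(tC_iff.1 e).2.2.1] at hsO; cases hsO
  have hiN : i ∈ N F := mem_N_of_fix hs hsC (fun e => by rw [e] at hS; revert hS; decide +kernel)
    (fun e => by rw [e] at hS; revert hS; decide +kernel) hic hsx
  have hsN : W F s ∈ N F := su_normalizer F ⟨W_z F s, fun j hj => ⟨j, hj, act_W_uv F s hj⟩⟩
  have hcN : W F 40 ∈ N F := su_normalizer F ⟨W_z F 40, fun j hj => ⟨j, hj, act_W_uv F 40 hj⟩⟩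
  have hixN := mul_mem hiN hsN
  have h40A : W F 40 ∈ A F := W_mem F h40
  -- `i x` lies in the subgroup, with a lift of the class
  obtain ⟨q, hqA, hqz, hq⟩ : ∃ q ∈ A F, IsConj z q ∧ (i * W F s = q ∨ i * W F s = q * W F 40) := by
    rcases hcase with e | e
    · refine ⟨d * W F s * d⁻¹, mem_A_of_S hs hS hd ?_, (conj_iff_mask hs d).2 hsO, e⟩
      rcases e with e | e
      · exact e ▸ hixN
      · have := mul_mem hixN (inv_mem hcN)
        rwa [e, mul_inv_cancel_right] at this
    · have hw : d * y * d⁻¹ * W F 40 = W F 40 * (d * y * d⁻¹) :=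
        ((Commute.mul_left hd hyc).mul_left (Commute.inv_left hd)).eq
      have hdy : d * y * d⁻¹ = (d * h) * W F o * (d * h)⁻¹ := by rw [hy]; group
      have hdh : d * h * W F 40 = W F 40 * (d * h) := (Commute.mul_left hd hc).eq
      have hz : IsConj z (d * y * d⁻¹) := hyz.trans (isConj_iff.2 ⟨d, rfl⟩)
      refine ⟨d * y * d⁻¹, mem_A_of_T F h40 (by norm_num) forty ?_ hw hz ?_, hz, e⟩
      · rcases e with e | e
        · exact e ▸ hixN
        · have := mul_mem hixN (inv_mem hcN)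
          rwa [e, mul_inv_cancel_right] at this
      · rw [hdy, hmulc hdh]
        exact (conj_iff_mask (Nat.xor_lt_two_pow (n := 11) ho h40) _).2 hoO'
  obtain ⟨k0, hk0, rfl⟩ := hqA
  have hk0O : inO k0 = true := (conj_char F hk0).1 hqz
  have hi : ∃ k < 2048, i = W F k ∧ (k0 = k ^^^ s ∨ k0 = k ^^^ s ^^^ 40) := by
    have hb : i = i * W F s * W F s := by rw [mul_assoc, W_sq, mul_one]
    rcases hq with e | e <;> rw [e] at hb
    · exact ⟨k0 ^^^ s, Nat.xor_lt_two_pow (n := 11) hk0 hs, by rw [hb, W_xor], Or.inl (by rw [xor_cancel'])⟩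
    · refine ⟨k0 ^^^ 40 ^^^ s, Nat.xor_lt_two_pow (n := 11) (Nat.xor_lt_two_pow (n := 11) hk0 h40) hs, by rw [hb, W_xor, W_xor], Or.inr ?_⟩
      rw [xor_cancel', xor_cancel']
  obtain ⟨k, hk, rfl, hk0e⟩ := hi
  have hk0' : k ≠ 0 := fun e => hi1 (e ▸ h1.symm)
  have hk40 : k ≠ 40 := fun e => hi40 (by rw [e])
  have hyk : FixM F k y := by
    have hi' : (W F k)⁻¹ = W F k := inv_eq_of_mul_eq_one_right (W_sq F k)
    rcases hiy with e | e <;> rw [hi'] at e
    · left
      calc y * W F k * y⁻¹ = (W F k * y * W F k) * W F k * y⁻¹ := by rw [e]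
        _ = W F k * y * (W F k * W F k) * y⁻¹ := by group
        _ = W F k := by rw [W_sq]; group
    · right
      calc y * W F k * y⁻¹ = (y * W F 40) * (W F 40)⁻¹ * W F k * y⁻¹ := by group
        _ = (W F k * y * W F k) * (W F 40)⁻¹ * W F k * y⁻¹ := by rw [e]
        _ = W F k * y * (W F k * W F 40 * W F k) * y⁻¹ := by
          rw [inv_eq_of_mul_eq_one_right (W_sq F 40)]; group
        _ = W F k * (y * W F 40) * y⁻¹ := by
          rw [W_comm F k 40, mul_assoc (W F 40), W_sq]; group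
        _ = W F k * W F 40 := by rw [hyc]; group
  rcases hC : tC k with _ | _
  · exact hyN (mem_N_of_fix hk hC hk0' hk40 hyc hyk)
  refine hyN (hIH k hk hC (fun a ha => ?_) y hyc (fun a ha => ?_) hyk)
  · have hw := hwit a ha
    obtain ⟨-, -, w1, w2⟩ := tC_iff.1 hw
    constructor <;> rintro rfl <;> rcases hk0e with rfl | rfl
    · rw [w1] at hk0O; cases hk0O
    · rw [w2] at hk0O; cases hk0O
    · rw [Nat.xor_right_comm, w2] at hk0O; cases hk0O
    · rw [Nat.xor_right_comm a 40 s, xor_cancel', w1] at hk0O; cases hk0O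
  · obtain ⟨a', ha', ea⟩ : ∃ a', (a' = a ∨ a' = a ^^^ 40) ∧ h⁻¹ * W F a * h = W F a' := by
      rcases hfix a ha with e | e
      · refine ⟨a, Or.inl rfl, ?_⟩
        calc h⁻¹ * W F a * h = h⁻¹ * (h * W F a * h⁻¹) * h := by rw [e]
          _ = W F a := by group
      · refine ⟨a ^^^ 40, Or.inr rfl, ?_⟩
        have e40 : h⁻¹ * W F 40 * h = W F 40 := by rw [mul_assoc, ← hc]; group
        calc h⁻¹ * W F a * h = h⁻¹ * (h * W F a * h⁻¹ * W F 40) * h := by rw [e, mul_assoc (W F a), W_sq, mul_one]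
          _ = W F a * (h⁻¹ * W F 40 * h) := by group
          _ = _ := by rw [e40, W_xor]
    have e2 : y * W F a * y⁻¹ = h * (W F o * W F a' * (W F o)⁻¹) * h⁻¹ := by rw [hy, ← ea]; group
    have e3 : y * W F a * y⁻¹ = W F a := by
      rw [e2, W_comm F o a', mul_inv_cancel_right, ← ea]; group
    exact Or.inl e3

theorem level_two {a b : ℕ} (ha : a < 2048) (hb : b < 2048) (hA : tC a = true) (hB : tC b = true)
    (hAB : tC (a ^^^ b) = true) {h : G} (hc : h * W F 40 = W F 40 * h) (fa : FixM F a h) (fb : FixM F b h) :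
    h ∈ N F := by
  obtain ⟨s, hs, hS, w1, w2, w3⟩ := witness_two ha hb hA hB hAB
  have hab : a ^^^ b < 2048 := Nat.xor_lt_two_pow (n := 11) ha hb
  refine cent_step (fun c => c = a ∨ c = b ∨ c = a ^^^ b) ?_ hs hS ?_ ?_ hc ?_
  · rintro c (rfl | rfl | rfl) <;> assumption
  · rintro c (rfl | rfl | rfl) <;> assumption
  · intro k hk hK hne g' hg' hfix fk
    have f1 := hfix a (Or.inl rfl)
    have f2 := hfix b (Or.inr (Or.inl rfl))
    have f3 := hfix _ (Or.inr (Or.inr rfl))
    have nz : ∀ c, (k ≠ c ∧ k ≠ c ^^^ 40) → k ^^^ c ≠ 0 ∧ k ^^^ c ≠ 40 := by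
      rintro c ⟨n1, n2⟩
      refine ⟨fun e => n1 (Nat.xor_eq_zero_iff.1 e), fun e => n2 ?_⟩
      rw [← e, Nat.xor_comm k c, ← Nat.xor_assoc, Nat.xor_self, Nat.zero_xor]
    obtain ⟨a1, a2⟩ := nz a (hne a (Or.inl rfl))
    obtain ⟨b1, b2⟩ := nz b (hne b (Or.inr (Or.inl rfl)))
    obtain ⟨c1, c2⟩ := nz _ (hne _ (Or.inr (Or.inr rfl)))
    have lt : ∀ {c}, c < 2048 → k ^^^ c < 2048 := fun hc => Nat.xor_lt_two_pow (n := 11) hk hc
    rcases h5 : tC (k ^^^ b) with _ | _
    · exact mem_N_of_fix (lt hb) h5 b1 b2 hg' (fix_xor F fk f2)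
    rcases h6 : tC (k ^^^ a) with _ | _
    · exact mem_N_of_fix (lt ha) h6 a1 a2 hg' (fix_xor F fk f1)
    rcases h7 : tC (k ^^^ (a ^^^ b)) with _ | _
    · exact mem_N_of_fix (lt hab) h7 c1 c2 hg' (fix_xor F fk f3)
    exfalso
    refine no_three ha hb hk hA hB hK hAB h5 (by rwa [Nat.xor_comm]) ?_
    rwa [Nat.xor_comm a k, Nat.xor_assoc]
  · rintro c (rfl | rfl | rfl)
    exacts [fa, fb, fix_xor F fa fb]

theorem level_one {a : ℕ} (ha : a < 2048) (hA : tC a = true) {h : G} (hc : h * W F 40 = W F 40 * h)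
    (fa : FixM F a h) : h ∈ N F := by
  obtain ⟨s, hs, hS, w1⟩ := witness_one ha hA
  refine cent_step (fun c => c = a) ?_ hs hS ?_ ?_ hc ?_
  · rintro c rfl; exact ha
  · rintro c rfl; exact w1
  · intro k hk hK hne g' hg' hfix fk
    obtain ⟨n1, n2⟩ := hne a rfl
    rcases h5 : tC (a ^^^ k) with _ | _
    · refine mem_N_of_fix (Nat.xor_lt_two_pow (n := 11) ha hk) h5 (fun e => n1 (Nat.xor_eq_zero_iff.1 e).symm)
        (fun e => n2 ?_) hg' (fix_xor F (hfix a rfl) fk)
      rw [← e, ← Nat.xor_assoc, Nat.xor_self, Nat.zero_xor]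
    · exact level_two ha hk hA hK h5 hg' (hfix a rfl) fk
  · rintro c rfl; exact fa

/-- The base case. -/
theorem centralizer_forty {h : G} (hc : h * W F 40 = W F 40 * h) : h ∈ N F := by
  obtain ⟨s, hs, hS⟩ : ∃ s < 2048, tS s = true := by decide +kernel
  refine cent_step (fun _ => False) (fun _ => False.elim) hs hS (fun _ => False.elim) ?_ hc (fun _ => False.elim)
  exact fun k hk hK _ g' hg' _ fk => level_one hk hK hg' fk

/-- The centralizer of an element outside the class normalizes the subgroup. -/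
theorem dodec_centralizer_le (F : Frame S) {m : ℕ} (hm : m < 2048) (hm0 : m ≠ 0)
    (ho : CfsgLib.CoOneGolay.inO m = false) :
    Subgroup.centralizer ({W F m} : Set G) ≤ CfsgLib.CoOneGolay.N F := by
  intro h hh
  have hc := mem_centralizer_singleton_iff.1 hh
  obtain ⟨σ, hσ⟩ := exists_rho_eq' (m := 40) (by norm_num) hm (by norm_num) hm0 forty ho
  obtain ⟨n, hn⟩ : rho σ ∈ (piHom F).range := by rw [range_piHom]; exact ⟨σ, rfl⟩
  have en : (n : G) * W F 40 * (n : G)⁻¹ = W F m := by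
    rw [← W_piHom F n (by norm_num), hn, app_rho σ (by norm_num), hσ]
  have hd : (n : G)⁻¹ * h * n * W F 40 = W F 40 * ((n : G)⁻¹ * h * n) := by
    calc (n : G)⁻¹ * h * n * W F 40 = (n : G)⁻¹ * (h * ((n : G) * W F 40 * (n : G)⁻¹)) * n := by group
      _ = (n : G)⁻¹ * ((n : G) * W F 40 * (n : G)⁻¹ * h) * n := by rw [en, hc]
      _ = _ := by group
  have := mul_mem (mul_mem n.2 (centralizer_forty hd)) (inv_mem n.2)
  rwa [show (n : G) * ((n : G)⁻¹ * h * n) * (n : G)⁻¹ = h by group] at this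

end basic

end CfsgLib.CoOneUnique
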