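import Mathlib
import Cfsg.Prelude.Def_CaseTheorems
import Cfsg.Prelude.Def_Local
import Cfsg.Prelude.Def_Transfer
import Cfsg.Prelude.Def_Classical
import Cfsg.Agent.Lib.CoOneUnique.Fus.Elementary
import Cfsg.Agent.Lib.Involutions.BrauerSuzuki
import Cfsg.Agent.Lib.Components.FStar
import Cfsg.Agent.Lib.OEightE8.Top
import Cfsg.Agent.Lib.PCore.Basic

/-!
From a 2-constrained involution centralizer of the type of the first Conway group to the large extraspecial
hypothesis: the generalized Fitting subgroup of the centralizer is `O₂`, and the involution is not weakly closed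
in it.
-/

set_option autoImplicit false
set_option linter.style.longLine false

namespace CfsgLib.CoOneUnique

open Subgroup

variable {G : Type*} [Group G] [Finite G]

theorem omega_plus_eight_simple : IsSimpleGroup (Cfsg.Omega (ZMod 2) (Cfsg.quadFormPlus 4 (ZMod 2))) := by
  rw [← CfsgLib.Orth.plusQ_coe]
  exact CfsgLib.OEightE8.isSimple_omega

theorem omega_plus_eight_card : Nat.card (Cfsg.Omega (ZMod 2) (Cfsg.quadFormPlus 4 (ZMod 2))) = 174182400 := by
  rw [← CfsgLib.Orth.plusQ_coe]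
  exact CfsgLib.OEightE8.card_omega

/-- The 2-core of a 2-constrained centralizer of this type is self-centralizing. -/
theorem centralizer_pCore_le (t : G)
    (hcon : Cfsg.IsPConstrained 2 (Subgroup.centralizer ({t} : Set G)))
    (e : (Subgroup.centralizer ({t} : Set G)) ⧸ Cfsg.pCore 2 (Subgroup.centralizer ({t} : Set G)) ≃*
      Cfsg.Omega (ZMod 2) (Cfsg.quadFormPlus 4 (ZMod 2))) :
    centralizer (Cfsg.pCore 2 (Subgroup.centralizer ({t} : Set G)) : Set (Subgroup.centralizer ({t} : Set G))) ≤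
      Cfsg.pCore 2 (Subgroup.centralizer ({t} : Set G)) := by
  have : Fact (Nat.Prime 2) := ⟨Nat.prime_two⟩
  revert hcon e
  generalize Subgroup.centralizer ({t} : Set G) = C
  intro hcon e
  have hodd : ¬ 2 ∣ Nat.card (Cfsg.pPrimeCore 2 C) := CfsgLib.PCore.not_dvd_card_pPrimeCore
  have hbot : Cfsg.pPrimeCore 2 C = ⊥ := by
    have hsimple : IsSimpleGroup (C ⧸ Cfsg.pCore 2 C) :=
      haveI := omega_plus_eight_simple
      e.isSimpleGroup
    rcases hsimple.eq_bot_or_eq_top_of_normal _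
      (Subgroup.Normal.map (H := Cfsg.pPrimeCore 2 C) inferInstance (QuotientGroup.mk' (Cfsg.pCore 2 C))
        (QuotientGroup.mk'_surjective _)) with h | h
    · have hle : Cfsg.pPrimeCore 2 C ≤ Cfsg.pCore 2 C := fun x hx =>
        (QuotientGroup.eq_one_iff x).1 (Subgroup.mem_bot.1 (h ▸ Subgroup.mem_map_of_mem _ hx))
      refine (Subgroup.eq_bot_iff_forall _).2 fun x hx => ?_
      obtain ⟨k, hk⟩ := CfsgLib.PCore.pCore_isPGroup (p := 2) (G := C) ⟨x, hle hx⟩
      have h1 : orderOf x ∣ 2 ^ k := orderOf_dvd_of_pow_eq_one (congrArg Subtype.val hk)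
      have h2 : orderOf x ∣ Nat.card (Cfsg.pPrimeCore 2 C) := Subgroup.orderOf_dvd_natCard _ hx
      exact orderOf_eq_one_iff.1 (Nat.eq_one_of_dvd_coprimes
        (Nat.Coprime.pow_left _ ((Nat.prime_two.coprime_iff_not_dvd).2 hodd)) h1 h2)
    · exfalso
      refine hodd (dvd_trans ?_ (Subgroup.card_map_dvd (Cfsg.pPrimeCore 2 C) (QuotientGroup.mk' (Cfsg.pCore 2 C))))
      rw [h, Subgroup.card_top, Nat.card_congr e.toEquiv, omega_plus_eight_card]
      norm_num
  have hle : Cfsg.pPrimePCore 2 C ≤ Cfsg.pCore 2 C := by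
    refine CfsgLib.PCore.le_pCore (Subgroup.Normal.comap (CfsgLib.LargeExtra.pCore_normal' 2 _) _) ?_
    refine IsPGroup.comap_of_injective (CfsgLib.PCore.pCore_isPGroup) _ ?_
    rw [← MonoidHom.ker_eq_bot_iff, QuotientGroup.ker_mk', hbot]
  refine le_trans (le_trans (centralizer_le ?_) (hcon default)) hle
  exact SetLike.coe_subset_coe.2 ((Subgroup.map_subtype_le _).trans hle)

theorem generalizedFitting_eq (t : G)
    (hcon : Cfsg.IsPConstrained 2 (Subgroup.centralizer ({t} : Set G)))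
    (e : (Subgroup.centralizer ({t} : Set G)) ⧸ Cfsg.pCore 2 (Subgroup.centralizer ({t} : Set G)) ≃*
      Cfsg.Omega (ZMod 2) (Cfsg.quadFormPlus 4 (ZMod 2))) :
    Cfsg.generalizedFittingSubgroup (Subgroup.centralizer ({t} : Set G)) =
      Cfsg.pCore 2 (Subgroup.centralizer ({t} : Set G)) :=
  have : Fact (Nat.Prime 2) := ⟨Nat.prime_two⟩
  CfsgLib.Components.generalizedFitting_eq_pCore_of_centralizer_le 2 (centralizer_pCore_le t hcon e)

theorem exists_conj_mem_pCore (hO : Cfsg.oddCore G = ⊥) (hZ : Subgroup.center G = ⊥) (t : G) (ht : orderOf t = 2)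
    (hcon : Cfsg.IsPConstrained 2 (Subgroup.centralizer ({t} : Set G)))
    (hQ : Cfsg.IsExtraspecial 2 (Cfsg.pCore 2 (Subgroup.centralizer ({t} : Set G))))
    (hcard : Nat.card (Cfsg.pCore 2 (Subgroup.centralizer ({t} : Set G))) = 2 ^ 9)
    (e : (Subgroup.centralizer ({t} : Set G)) ⧸ Cfsg.pCore 2 (Subgroup.centralizer ({t} : Set G)) ≃*
      Cfsg.Omega (ZMod 2) (Cfsg.quadFormPlus 4 (ZMod 2))) :
    ∃ g : G, (∃ hq : g * t * g⁻¹ ∈ Subgroup.centralizer ({t} : Set G),
      (⟨g * t * g⁻¹, hq⟩ : Subgroup.centralizer ({t} : Set G)) ∈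
        Cfsg.pCore 2 (Subgroup.centralizer ({t} : Set G))) ∧ g * t * g⁻¹ ≠ t := by
  have : Fact (Nat.Prime 2) := ⟨Nat.prime_two⟩
  by_contra hno
  set C := Subgroup.centralizer ({t} : Set G) with hC
  set Q₀ := Cfsg.pCore 2 C with hQ₀
  set Q := Q₀.map C.subtype with hQdef
  have htC : t ∈ C := mem_centralizer_singleton_iff.2 rfl
  have hcC : ∀ c : C, (c : G) * t = t * c := fun c => mem_centralizer_singleton_iff.1 c.2
  have htQ₀ : (⟨t, htC⟩ : C) ∈ Q₀ := by
    have hcen : (⟨t, htC⟩ : C) ∈ center C :=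
      mem_center_iff.2 fun c => Subtype.ext (hcC c)
    have hn : (zpowers (⟨t, htC⟩ : C)).Normal := by
      refine ⟨fun x hx c => ?_⟩
      have hx' : x ∈ center C := (zpowers_le.2 hcen) hx
      rwa [mem_center_iff.1 hx' c, mul_inv_cancel_right]
    refine CfsgLib.PCore.le_pCore hn (IsPGroup.of_card (n := 1) ?_) (mem_zpowers _)
    rw [Nat.card_zpowers, ← Subgroup.orderOf_coe]
    exact ht
  have hnormal : Q₀.Normal := CfsgLib.LargeExtra.pCore_normal' 2 C
  have hpre : Fus.Hyp t Q := by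
    refine ⟨ht, Subgroup.map_subtype_le _, ?_, ?_, ⟨?_, ht, ?_⟩, ?_, ?_⟩
    · rintro c hc _ ⟨y, hy, rfl⟩
      exact ⟨⟨c, mem_centralizer_singleton_iff.2 hc⟩ * y * (⟨c, mem_centralizer_singleton_iff.2 hc⟩ : C)⁻¹,
        hnormal.conj_mem y hy _, rfl⟩
    · rw [hQdef, Subgroup.card_map_of_injective C.subtype_injective, hcard]
      norm_num
    · exact CfsgLib.LargeExtra.isExtraspecial_of_equiv (Q₀.equivMapOfInjective _ C.subtype_injective) hQ
    · have hQ' : Cfsg.IsExtraspecial 2 Q :=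
        CfsgLib.LargeExtra.isExtraspecial_of_equiv (Q₀.equivMapOfInjective _ C.subtype_injective) hQ
      symm
      refine Subgroup.eq_of_le_of_card_ge (zpowers_le.2 ?_) ?_
      · refine ⟨⟨t, ⟨_, htQ₀, rfl⟩⟩, mem_center_iff.2 fun q => Subtype.ext ?_, rfl⟩
        obtain ⟨_, ⟨q, -, rfl⟩⟩ := q
        exact hcC q
      · rw [Subgroup.card_map_of_injective Subtype.val_injective, Nat.card_zpowers, ht, hQ'.2]
    · intro c hc h
      refine ⟨⟨c, mem_centralizer_singleton_iff.2 hc⟩,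
        centralizer_pCore_le t hcon e (mem_centralizer_iff.2 fun y hy => Subtype.ext ?_), rfl⟩
      exact h (y : G) ⟨y, hy, rfl⟩
    · rw [Subgroup.card_eq_card_quotient_mul_card_subgroup Q₀, Nat.card_congr e.toEquiv, omega_plus_eight_card,
        hcard]
      norm_num
  let S : Fus.Std G := ⟨t, Q, hpre, fun g hg => by
    by_contra hne
    obtain ⟨y, hy, hyg⟩ := hg
    refine hno ⟨g, ⟨?_, ?_⟩, hne⟩
    · rw [← hyg]; exact y.2
    · exact (Subtype.ext hyg : y = ⟨g * t * g⁻¹, _⟩) ▸ hy⟩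
  obtain ⟨g, hcomm, hne⟩ : ∃ g : G, Commute t (g * t * g⁻¹) ∧ g * t * g⁻¹ ≠ t := by
    by_contra hh
    push Not at hh
    have hiso : Cfsg.IsIsolatedInvolution t := ⟨ht, hh⟩
    have hcen : t ∈ center G := mem_center_iff.2 fun g => by
      have h := CfsgLib.Involutions.zstar G t hiso g
      rw [show Cfsg.pPrimeCore 2 G = ⊥ from hO, mem_bot] at h
      exact mul_inv_eq_iff_eq_mul.1 (mul_inv_eq_one.1 h)
    rw [hZ, mem_bot] at hcen
    rw [hcen, orderOf_one] at ht
    omega
  have p : S.Pair t (g * t * g⁻¹) :=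
    ⟨⟨1, by rw [one_mul, inv_one, mul_one]⟩, ⟨g, rfl⟩, Ne.symm hne, hcomm⟩
  exact p.no_elementary

end CfsgLib.CoOneUnique
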